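import Groth.Agent.Curves.K978.DysonBound
import Mathlib.Algebra.BigOperators.Intervals
import Mathlib.Tactic.Linarith
import Mathlib.Tactic.Ring

/-!
# The abstract Castelnuovo bound for curves in three-space

`K / k` a field extension, `z` transcendental over `k`, `[K : k(z)] < ∞`, `A`, `B` two `k`-subalgebras of `K`
with `z ∈ A`, `z⁻¹ ∈ B`, `A ∩ B = k`, `fil n = {f ∈ A | z⁻ⁿ f ∈ B}`. If `fil 1` contains a subspace of dimension at
least four containing `1`, `z`, generates `K` and `dim fil N = N d + 1 - g` for all large `N`, then `3 ≤ d` and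
`g ≤ d² / 4 - d + 1`.
-/

set_option autoImplicit false

open Module Submodule IntermediateField Polynomial

namespace K978.CastelAbs

open K978.DysonGrow K978.DysonBound

theorem sum_odd (N : ℕ) : ∑ n ∈ Finset.range N, (2 * (n : ℤ) + 3) = N ^ 2 + 2 * N := by
  induction N with
  | zero => simp
  | succ N ih => rw [Finset.sum_range_succ, ih]; push_cast; ring

theorem mul_le_sum (d : ℕ) (hd : 1 ≤ d) (N : ℕ) (hN : (d - 1) / 2 ≤ N) :
    (N : ℤ) * d ≤ ∑ n ∈ Finset.range N, ((min d (2 * n + 3) : ℕ) : ℤ) + ((d : ℤ) ^ 2 / 4 - d + 1) := by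
  induction N, hN using Nat.le_induction with
  | base =>
    set m := (d - 1) / 2 with hm
    have h1 : ∑ n ∈ Finset.range m, ((min d (2 * n + 3) : ℕ) : ℤ) = ∑ n ∈ Finset.range m, (2 * (n : ℤ) + 3) := by
      refine Finset.sum_congr rfl fun n hn => ?_
      rw [Finset.mem_range] at hn
      rw [min_eq_right (by omega)]
      push_cast
      ring
    rw [h1, sum_odd]
    have h2 : d = 2 * m + 1 ∨ d = 2 * m + 2 := by omega
    rcases h2 with h2 | h2
    · rw [h2]
      push_cast
      have h3 : (2 * (m : ℤ) + 1) ^ 2 / 4 = m ^ 2 + m := by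
        have : (2 * (m : ℤ) + 1) ^ 2 = 1 + 4 * (m ^ 2 + m) := by ring
        rw [this]
        omega
      rw [h3]
      nlinarith
    · rw [h2]
      push_cast
      have h3 : (2 * (m : ℤ) + 2) ^ 2 / 4 = m ^ 2 + 2 * m + 1 := by
        have : (2 * (m : ℤ) + 2) ^ 2 = 4 * (m ^ 2 + 2 * m + 1) := by ring
        rw [this]
        omega
      rw [h3]
      nlinarith
  | succ N hN ih =>
    rw [Finset.sum_range_succ, min_eq_left (show d ≤ 2 * N + 3 by omega)]
    have h1 : ((N + 1 : ℕ) : ℤ) * d = N * d + d := by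
      push_cast
      ring
    rw [h1]
    linarith

variable {k K : Type*} [Field k] [Field K] [Algebra k K]

/-- `dim_F F · fil 1 ≥ 3`. -/
theorem three_le {A B : Subalgebra k K} {z : K} [FiniteDimensional k⟮z⟯ K] (hz : Transcendental k z) (hzA : z ∈ A)
    (hzB : z⁻¹ ∈ B) (hAB : A ⊓ B = ⊥) (V : Submodule k K) (hV : V ≤ fil A B z 1) (h1 : (1 : K) ∈ V) (hzV : z ∈ V)
    (h4 : 4 ≤ finrank k V) : 3 ≤ finrank k⟮z⟯ (span k⟮z⟯ (fil A B z 1 : Set K)) := by
  have hz0 : z ≠ 0 := by
    rintro rfl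
    exact hz (isAlgebraic_zero)
  have hVf : FiniteDimensional k V := FiniteDimensional.of_finrank_pos (by omega)
  have hle : span k {1, z} ≤ V := by
    rw [Submodule.span_le]
    rintro _ (rfl | rfl)
    · exact h1
    · exact hzV
  obtain ⟨C, hC, hC1, hC2⟩ := exists_compl hle
  have := fd_of_le hle
  have := fd_of_le hC
  have hfr := finrank_compl hC1 hC2
  have h2 : finrank k (span k ({1, z} : Set K)) ≤ 2 := by
    classical
    have h3 := finrank_span_le_card (R := k) ({1, z} : Set K)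
    refine h3.trans ?_
    rw [Set.toFinset_card, ← Nat.card_eq_fintype_card, Nat.card_coe_set_eq]
    exact Set.ncard_insert_le _ _ |>.trans (by rw [Set.ncard_singleton])
  let c := Module.finBasis k C
  have hli := linearIndependent_cons hz0 hzA hzB hAB hz (b := fun i => (c i : K)) (fun i => hV (hC (c i).2)) (by
    intro s a u v he i hi
    set x : C := ∑ i ∈ s, a i • c i with hx
    have hxv : (x : K) = ∑ i ∈ s, a i • (c i : K) := by
      rw [hx, AddSubmonoidClass.coe_finsetSum]
      rfl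
    have h5 : (x : K) ∈ span k ({1, z} : Set K) := by
      rw [hxv, he, Submodule.mem_span_pair]
      exact ⟨u, v, by rw [Algebra.smul_def, Algebra.smul_def, mul_one]⟩
    have h6 : (x : K) ∈ span k ({1, z} : Set K) ⊓ C := ⟨h5, x.2⟩
    rw [hC1, Submodule.mem_bot] at h6
    have h7 : x = 0 := Subtype.ext h6
    exact linearIndependent_iff'.mp c.linearIndependent s a (hx ▸ h7) i hi)
  have h5 := finrank_span_eq_card hli
  rw [Fintype.card_option, Fintype.card_fin] at h5
  have h6 : span k⟮z⟯ (Set.range fun o : Option (Fin (finrank k C)) => o.elim (1 : K) fun i => (c i : K)) ≤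
      span k⟮z⟯ (fil A B z 1 : Set K) := by
    apply Submodule.span_mono
    rintro _ ⟨_ | i, rfl⟩
    · exact one_mem_fil hzB 1
    · exact hV (hC (c i).2)
  have h7 := Submodule.finrank_mono h6
  omega

/-- **The abstract bound.** -/
theorem bound {A B : Subalgebra k K} {z : K} [FiniteDimensional k⟮z⟯ K] (hz : Transcendental k z) (hzA : z ∈ A)
    (hzB : z⁻¹ ∈ B) (hAB : A ⊓ B = ⊥) (V : Submodule k K) (hV : V ≤ fil A B z 1) (h1 : (1 : K) ∈ V) (hzV : z ∈ V)
    (h4 : 4 ≤ finrank k V) (htop : Algebra.adjoin k⟮z⟯ (fil A B z 1 : Set K) = ⊤)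
    (hfin : ∀ n, FiniteDimensional k (fil A B z n)) (d g : ℤ) (N₀ : ℕ)
    (hRR : ∀ N ≥ N₀, (finrank k (fil A B z N) : ℤ) = N * d + 1 - g) :
    3 ≤ d ∧ g ≤ d ^ 2 / 4 - d + 1 := by
  have hz0 : z ≠ 0 := by
    rintro rfl
    exact hz (isAlgebraic_zero)
  have h3 := three_le hz hzA hzB hAB V hV h1 hzV h4
  have hδ : 3 ≤ finrank k⟮z⟯ K := h3.trans (Submodule.finrank_le _)
  have hgrow := finrank_fil_add_le k⟮z⟯ (mem_adjoin_simple_self k z) hz hzA hzB hfin h3 htop
  have hup := finrank_fil_succ_le hz0 hzB hfin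
  have hd : ∀ N ≥ N₀, (finrank k (fil A B z (N + 1)) : ℤ) = finrank k (fil A B z N) + d := by
    intro N hN
    rw [hRR N hN, hRR (N + 1) (by omega)]
    push_cast
    ring
  have hd1 : (min (finrank k⟮z⟯ K) (2 * N₀ + 3) : ℕ) ≤ d := by
    have h5 := hgrow N₀
    have h6 := hd N₀ le_rfl
    omega
  have hd3 : 3 ≤ d := by
    have : 3 ≤ min (finrank k⟮z⟯ K) (2 * N₀ + 3) := le_min hδ (by omega)
    omega
  have hdδ : d ≤ finrank k⟮z⟯ K := by
    have h5 := hup N₀
    have h6 := hd N₀ le_rfl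
    omega
  refine ⟨hd3, ?_⟩
  obtain ⟨e, rfl⟩ := Int.eq_ofNat_of_zero_le (show 0 ≤ d by omega)
  have he : e ≤ finrank k⟮z⟯ K := by omega
  have hsum : ∀ N : ℕ, 1 + ∑ n ∈ Finset.range N, ((min e (2 * n + 3) : ℕ) : ℤ) ≤ finrank k (fil A B z N) := by
    intro N
    induction N with
    | zero =>
      rw [Finset.sum_range_zero, add_zero]
      have := hfin 0
      have h5 : 0 < finrank k (fil A B z 0) := by
        rw [finrank_pos_iff]
        exact ⟨⟨1, one_mem_fil hzB 0⟩, 0, fun h => one_ne_zero (congrArg Subtype.val h)⟩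
      omega
    | succ N ih =>
      rw [Finset.sum_range_succ]
      have h5 := hgrow N
      have h6 : min e (2 * N + 3) ≤ min (finrank k⟮z⟯ K) (2 * N + 3) := min_le_min_right _ he
      omega
  have h5 := mul_le_sum e (by omega) (max N₀ ((e - 1) / 2)) (le_max_right _ _)
  have h6 := hsum (max N₀ ((e - 1) / 2))
  rw [hRR _ (le_max_left _ _)] at h6
  linarith

end K978.CastelAbs
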