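import Groth.Agent.Curves.K978.CurveChoice

/-!
# The function field of a curve is finite over `k(z)`
-/

set_option autoImplicit false
set_option backward.isDefEq.respectTransparency.types false

universe u

open CategoryTheory CategoryTheory.Limits AlgebraicGeometry TopologicalSpace Opposite

namespace K978.FinAdj

open Groth.Agent.Picfga RegLocus CurvePts CurveP1 CurveChart CurveChoice

attribute [local instance] algK algKK

variable {k : Type u} [Field k] [IsAlgClosed k] {X : Scheme.{u}} [X.Over (Spec (CommRingCat.of k))] [IsIntegral X]
  [IsProper (X ↘ Spec (CommRingCat.of k))] (hdim : topologicalKrullDim X ≤ 1)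
  (hval : ∀ x : X, ValuationRing (X.presheaf.stalk x))

include hdim hval in
theorem finiteDimensional {z : X.functionField} (hz' : Transcendental k z) :
    FiniteDimensional (IntermediateField.adjoin k ({z} : Set X.functionField)) X.functionField := by
  have hz := (transc_iff z).2 hz'
  have haff := isAffineOpen_reg (X ↘ Spec (CommRingCat.of k)) hdim hval hz
  have hfin := finite_evalHom (X ↘ Spec (CommRingCat.of k)) hdim hval hz
  obtain ⟨hft, -, -⟩ := chart_facts hdim hval hz'
  have htow := tower k X (reg z)
  have hfr : IsFractionRing Γ(X, reg z) X.functionField := functionField_isFractionRing_of_isAffineOpen X _ haff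
  have hess : Algebra.EssFiniteType k X.functionField := by
    have h1 : Algebra.EssFiniteType Γ(X, reg z) X.functionField :=
      Algebra.EssFiniteType.of_isLocalization X.functionField (nonZeroDivisors Γ(X, reg z))
    exact Algebra.EssFiniteType.comp k Γ(X, reg z) X.functionField
  let F := IntermediateField.adjoin k ({z} : Set X.functionField)
  have hess2 : Algebra.EssFiniteType F X.functionField := Algebra.EssFiniteType.of_comp k F _
  have halg : Algebra.IsAlgebraic F X.functionField := by
    have hb : ∀ b : Γ(X, reg z), IsAlgebraic F (gm b) := by
      intro b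
      obtain ⟨p, hp, hpb⟩ := hfin.to_isIntegral b
      let ψ : Polynomial k →+* F := (Polynomial.aeval
        (⟨z, IntermediateField.mem_adjoin_simple_self k z⟩ : F) : Polynomial k →ₐ[k] F)
      apply IsIntegral.isAlgebraic
      refine ⟨p.map ψ, hp.map ψ, ?_⟩
      have h1 := congrArg (gm (X := X) (U := reg z)) hpb
      have h2 : (X.germToFunctionField (reg z)).hom.comp
          (evalHom (X ↘ Spec (CommRingCat.of k)) (reg z) (sec z)).hom = (algebraMap F X.functionField).comp ψ := by
        have h3 := evalHom_germ (X ↘ Spec (CommRingCat.of k)) z
        refine Eq.trans h3 ?_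
        apply Polynomial.ringHom_ext
        · intro a
          rw [Polynomial.coe_eval₂RingHom, Polynomial.eval₂_C]
          simp only [RingHom.comp_apply, ψ]
          change _ = algebraMap F X.functionField (Polynomial.aeval _ (Polynomial.C a))
          rw [Polynomial.aeval_C]
          rfl
        · rw [Polynomial.coe_eval₂RingHom, Polynomial.eval₂_X]
          simp only [RingHom.comp_apply, ψ]
          change _ = algebraMap F X.functionField (Polynomial.aeval _ Polynomial.X)
          rw [Polynomial.aeval_X]
          rfl
      rw [Polynomial.eval₂_map, ← h2]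
      rw [gm, gm, map_zero] at h1
      rw [← h1]
      exact (Polynomial.hom_eval₂ p (evalHom (X ↘ Spec (CommRingCat.of k)) (reg z) (sec z)).hom
        (X.germToFunctionField (reg z)).hom b).symm
    refine ⟨fun x => ?_⟩
    obtain ⟨a, b, hb0, rfl⟩ := IsFractionRing.div_surjective (A := Γ(X, reg z)) x
    rw [div_eq_mul_inv]
    exact (hb a).mul (hb b).inv
  exact Algebra.finite_of_essFiniteType_of_isAlgebraic

end K978.FinAdj
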