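import Groth.Agent.Curves.K330.FormSec
import Groth.Agent.Ega4dA.CurveLine
import Mathlib.GroupTheory.CosetCover

/-!
# The open set where a linear form does not vanish

For `r : X ⟶ P^N_k` and a linear form `ℓ`: `nz r ℓ` is the open set where the section `sec' r ℓ` of `r^* O(1)` is a
generator; there `sec' r (ℓ ^ n)` generates `r^* O(n)`, and quotients of linear forms are regular.
-/

set_option autoImplicit false

universe u

open CategoryTheory AlgebraicGeometry Limits TopologicalSpace Opposite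

namespace K978.FormOpen

open LefPen Groth.Agent.Fdesc.LocGen Groth.Agent.Lefpen.H705.HypIdeal Groth.Agent.Lefpen.H705.SecIdeal
open Groth.Agent.Lefpen.H708.Geo Groth.Agent.Sga5 K330.FormSec

variable {N : ℕ} {k : Type u} [Field k]

/-- The power of a linear form. -/
noncomputable def fpow (ℓ : Form N k 1) (n : ℕ) : Form N k n :=
  ⟨ℓ.1 ^ n, by
    have h := MvPolynomial.IsHomogeneous.pow ((MvPolynomial.mem_homogeneousSubmodule _ _).1 ℓ.2) n
    rw [one_mul] at h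
    exact h⟩

variable {X : Scheme.{u}} (r : X ⟶ CohB1.ProjSpace N k)

theorem eqn_fpow (ℓ : Form N k 1) (n : ℕ) (j : Fin (N + 1)) (U : X.Opens) (hU : U ≤ r ⁻¹ᵁ chart N k j) :
    eqn r j U hU (fpow ℓ n) = eqn r j U hU ℓ ^ n := by
  rw [eqn_eq, eqn_eq, ← map_pow, ← map_pow]
  rfl

/-- The open set where a linear form does not vanish. -/
noncomputable def nz (ℓ : Form N k 1) : X.Opens := CohB1.genLocus _ (homOf (sec' r ℓ))

theorem nz_inf (ℓ : Form N k 1) (j : Fin (N + 1)) :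
    nz r ℓ ⊓ r ⁻¹ᵁ chart N k j = X.basicOpen (eqn r j (r ⁻¹ᵁ chart N k j) le_rfl ℓ) := by
  obtain ⟨g, hg, h⟩ := exists_gen_pull (d := 1) r j
  exact genLocus_inf_eq _ hg ((sec_homOf _ _).trans (h ℓ))

theorem mem_nz_iff (ℓ : Form N k 1) (j : Fin (N + 1)) (x : X) (hx : x ∈ r ⁻¹ᵁ chart N k j) :
    x ∈ nz r ℓ ↔ IsUnit (X.presheaf.germ _ x hx (eqn r j (r ⁻¹ᵁ chart N k j) le_rfl ℓ)) := by
  rw [← Scheme.mem_basicOpen, ← nz_inf]
  exact ⟨fun h => ⟨h, hx⟩, fun h => h.1⟩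

theorem isUnit_eqn (ℓ : Form N k 1) (j : Fin (N + 1)) {V : X.Opens} (h1 : V ≤ nz r ℓ) (h2 : V ≤ r ⁻¹ᵁ chart N k j) :
    IsUnit (eqn r j V h2 ℓ) := by
  have h3 : V ≤ X.basicOpen (eqn r j (r ⁻¹ᵁ chart N k j) le_rfl ℓ) := by
    rw [← nz_inf]
    exact le_inf h1 h2
  have h4 : IsUnit (ores (X.basicOpen_le (eqn r j (r ⁻¹ᵁ chart N k j) le_rfl ℓ))
    (eqn r j (r ⁻¹ᵁ chart N k j) le_rfl ℓ)) := X.toRingedSpace.isUnit_res_basicOpen _
  have h5 := h4.map (ores h3)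
  rwa [ores_ores, ores_eqn] at h5

theorem cover (U : X.Opens) : U ≤ ⨆ j : Fin (N + 1), U ⊓ r ⁻¹ᵁ chart N k j := by
  rw [← inf_iSup_eq, iSup_preimage_chart, inf_top_eq]

theorem isGen_fpow (ℓ : Form N k 1) (n : ℕ) : IsGen (res _ (le_top : nz r ℓ ≤ ⊤) (sec' r (fpow ℓ n))) := by
  refine IsGen.of_cover (fun j : Fin (N + 1) => nz r ℓ ⊓ r ⁻¹ᵁ chart N k j) (fun j => inf_le_left)
    (cover r _) fun j => ?_
  obtain ⟨g, hg, h⟩ := exists_gen_pull (d := n) r j
  rw [res_res, ← res_res _ (le_top : r ⁻¹ᵁ chart N k j ≤ ⊤) inf_le_right, h, res_smul]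
  refine (hg.res _).unit_smul ?_
  rw [ores_eqn, eqn_fpow]
  exact (isUnit_eqn r ℓ j inf_le_left inf_le_right).pow n

theorem isGen_one' (ℓ : Form N k 1) : IsGen (res _ (le_top : nz r ℓ ≤ ⊤) (sec' r ℓ)) := by
  have h := isGen_sec_genLocus (homOf (sec' r ℓ))
  rwa [sec_homOf] at h

/-- If `m = q ℓ` on an open then `m ^ n = q ^ n ℓ ^ n`. -/
theorem res_fpow (ℓ m : Form N k 1) (n : ℕ) {V : X.Opens} (q : Γ(X, V))
    (hq : res _ (le_top : V ≤ ⊤) (sec' r m) = q • res _ (le_top : V ≤ ⊤) (sec' r ℓ)) :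
    res _ (le_top : V ≤ ⊤) (sec' r (fpow m n)) = q ^ n • res _ (le_top : V ≤ ⊤) (sec' r (fpow ℓ n)) := by
  refine res_ext _ (fun j : Fin (N + 1) => V ⊓ r ⁻¹ᵁ chart N k j) (fun j => inf_le_left) (cover r V) fun j => ?_
  obtain ⟨g, hg, h⟩ := exists_gen_pull (d := n) r j
  obtain ⟨g', hg', h'⟩ := exists_gen_pull (d := 1) r j
  have h1 := congrArg (res _ (inf_le_left : V ⊓ r ⁻¹ᵁ chart N k j ≤ V)) hq
  rw [res_smul, res_res, res_res, ← res_res _ (le_top : r ⁻¹ᵁ chart N k j ≤ ⊤) inf_le_right,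
    ← res_res _ (le_top : r ⁻¹ᵁ chart N k j ≤ ⊤) inf_le_right, h', h', res_smul, res_smul, smul_smul,
    ores_eqn, ores_eqn] at h1
  have h2 := (hg'.res _).ext h1
  rw [res_smul, res_res, res_res, ← res_res _ (le_top : r ⁻¹ᵁ chart N k j ≤ ⊤) inf_le_right,
    ← res_res _ (le_top : r ⁻¹ᵁ chart N k j ≤ ⊤) inf_le_right, h, h, res_smul, res_smul, smul_smul,
    ores_eqn, ores_eqn, eqn_fpow, eqn_fpow, map_pow, ← mul_pow, h2]

theorem nonempty_nz [IsReduced X] (ℓ : Form N k 1) (h : sec' r ℓ ≠ 0) : Nonempty (nz r ℓ) := by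
  by_contra hne
  apply h
  rw [sec'_eq_zero_iff]
  intro j
  have h1 : X.basicOpen (eqn r j (r ⁻¹ᵁ chart N k j) le_rfl ℓ) = ⊥ := by
    rw [← nz_inf, eq_bot_iff]
    intro x hx
    exact (hne ⟨⟨x, hx.1⟩⟩).elim
  exact (basicOpen_eq_bot_iff _).mp h1

section Pair

/-- The linear forms vanishing at a point. -/
noncomputable def vanish (x : X) : Submodule k (Form N k 1) where
  carrier := {G | x ∉ nz r G}
  add_mem' := by
    intro a b ha hb hab
    obtain ⟨j, hj⟩ := Groth.Agent.PerfB.ProjSpaceCover.exists_mem_basicOpen_X N k (r x)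
    have hj' : x ∈ r ⁻¹ᵁ chart N k j := hj
    rw [Set.mem_ofPred_eq, mem_nz_iff r _ j x hj'] at ha hb
    rw [mem_nz_iff r _ j x hj'] at hab
    have h1 : eqn r j (r ⁻¹ᵁ chart N k j) le_rfl (a + b) =
        eqn r j (r ⁻¹ᵁ chart N k j) le_rfl a + eqn r j (r ⁻¹ᵁ chart N k j) le_rfl b := by
      rw [eqn_eq, eqn_eq, eqn_eq, ← map_add, ← map_add]
      rfl
    rw [h1, map_add] at hab
    exact (IsLocalRing.isUnit_or_isUnit_of_isUnit_add hab).elim ha hb
  zero_mem' := by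
    intro h
    obtain ⟨j, hj⟩ := Groth.Agent.PerfB.ProjSpaceCover.exists_mem_basicOpen_X N k (r x)
    have hj' : x ∈ r ⁻¹ᵁ chart N k j := hj
    rw [mem_nz_iff r _ j x hj'] at h
    have h1 : eqn r j (r ⁻¹ᵁ chart N k j) le_rfl (0 : Form N k 1) = 0 := by
      rw [eqn_eq]
      change coordU r j _ _ (ProjChart.dehom N k j 0) = 0
      rw [map_zero, map_zero]
    rw [h1, map_zero] at h
    exact not_isUnit_zero h
  smul_mem' := by
    intro c a ha h
    obtain ⟨j, hj⟩ := Groth.Agent.PerfB.ProjSpaceCover.exists_mem_basicOpen_X N k (r x)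
    have hj' : x ∈ r ⁻¹ᵁ chart N k j := hj
    rw [Set.mem_ofPred_eq, mem_nz_iff r _ j x hj'] at ha
    rw [mem_nz_iff r _ j x hj'] at h
    have h1 : eqn r j (r ⁻¹ᵁ chart N k j) le_rfl (c • a) =
        coordU r j (r ⁻¹ᵁ chart N k j) le_rfl (MvPolynomial.C c) * eqn r j (r ⁻¹ᵁ chart N k j) le_rfl a := by
      rw [eqn_eq, eqn_eq, ← map_mul]
      have h2 : (c • a : Form N k 1).1 = MvPolynomial.C c * a.1 := MvPolynomial.smul_eq_C_mul _ _
      rw [h2, map_mul, ProjChart.dehom_C]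
    rw [h1, map_mul] at h
    exact ha (isUnit_of_mul_isUnit_right h)

theorem vanish_ne_top (x : X) : vanish r x ≠ ⊤ := by
  intro h
  obtain ⟨j, hj⟩ := Groth.Agent.PerfB.ProjSpaceCover.exists_mem_basicOpen_X N k (r x)
  have hj' : x ∈ r ⁻¹ᵁ chart N k j := hj
  have h1 : (⟨MvPolynomial.X j, MvPolynomial.isHomogeneous_X k j⟩ : Form N k 1) ∈ vanish r x := h ▸ Submodule.mem_top
  apply h1
  rw [mem_nz_iff r _ j x hj']
  have h2 : eqn r j (r ⁻¹ᵁ chart N k j) le_rfl (⟨MvPolynomial.X j, MvPolynomial.isHomogeneous_X k j⟩ : Form N k 1) = 1 := by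
    rw [eqn_eq]
    change coordU r j _ _ (ProjChart.dehom N k j (MvPolynomial.X j)) = 1
    rw [ProjChart.dehom_X_self, map_one]
  rw [h2, map_one]
  exact isUnit_one

theorem span_ne_top (hN : 1 ≤ N) (ℓ : Form N k 1) : Submodule.span k {ℓ} ≠ ⊤ := by
  intro h
  obtain ⟨a, ha⟩ := Submodule.mem_span_singleton.mp
    (h ▸ Submodule.mem_top : (⟨MvPolynomial.X 0, MvPolynomial.isHomogeneous_X k 0⟩ : Form N k 1) ∈ Submodule.span k {ℓ})
  obtain ⟨b, hb⟩ := Submodule.mem_span_singleton.mp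
    (h ▸ Submodule.mem_top : (⟨MvPolynomial.X (Fin.last N), MvPolynomial.isHomogeneous_X k (Fin.last N)⟩ : Form N k 1) ∈
      Submodule.span k {ℓ})
  have ha' : a • ℓ.1 = MvPolynomial.X 0 := congrArg Subtype.val ha
  have hb' : b • ℓ.1 = MvPolynomial.X (Fin.last N) := congrArg Subtype.val hb
  have hne : (0 : Fin (N + 1)) ≠ Fin.last N := by
    intro h
    have := congrArg Fin.val h
    simp at this
    omega
  have h1 : b • (MvPolynomial.X 0 : MvPolynomial (Fin (N + 1)) k) = a • MvPolynomial.X (Fin.last N) := by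
    rw [← ha', ← hb', smul_comm]
  have h2 := congrArg (MvPolynomial.eval (fun i => if i = 0 then (1 : k) else 0)) h1
  have h3 := congrArg (MvPolynomial.eval (fun i => if i = 0 then (1 : k) else 0)) ha'
  have h4 := congrArg (MvPolynomial.eval (fun i => if i = 0 then (1 : k) else 0)) hb'
  simp only [MvPolynomial.smul_eval, MvPolynomial.eval_X, if_true, if_neg hne.symm, mul_one, mul_zero] at h2 h3 h4
  rw [h2, zero_smul] at hb'
  exact MvPolynomial.X_ne_zero _ hb'.symm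

theorem exists_pair [IsAlgClosed k] [IsIntegral X] [IsNoetherian X] (hdim : topologicalKrullDim X ≤ 1)
    (hN : 1 ≤ N) (hinj : ∀ G : Form N k 1, G ≠ 0 → sec' r G ≠ 0) :
    ∃ ℓ₀ ℓ₁ : Form N k 1, ℓ₀ ≠ 0 ∧ ℓ₁ ∉ Submodule.span k {ℓ₀} ∧ nz r ℓ₀ ⊔ nz r ℓ₁ = ⊤ := by
  let ℓ₀ : Form N k 1 := ⟨MvPolynomial.X 0, MvPolynomial.isHomogeneous_X k 0⟩
  have h0 : ℓ₀ ≠ 0 := fun h => MvPolynomial.X_ne_zero (R := k) (0 : Fin (N + 1)) (congrArg Subtype.val h)
  have hne := nonempty_nz r ℓ₀ (hinj ℓ₀ h0)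
  have hfin : ((nz r ℓ₀ : Set X)ᶜ).Finite := by
    refine Groth.Agent.Ega4dA.CurveLine.finite_compl hdim fun y hy => ⟨genericPoint X, genericPoint_specializes y, ?_⟩
    rintro rfl
    obtain ⟨x, hx⟩ := hne
    exact hy ((genericPoint_specializes x).mem_open (nz r ℓ₀).2 hx)
  have hI : Infinite k := IsAlgClosed.instInfinite
  have := hfin.to_subtype
  by_contra hcon
  push Not at hcon
  have hcov : (⋃ o : Option ↥((nz r ℓ₀ : Set X)ᶜ),
      ((o.elim (Submodule.span k {ℓ₀}) fun x => vanish r x.1 : Submodule k (Form N k 1)) : Set (Form N k 1))) = Set.univ := by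
    rw [Set.eq_univ_iff_forall]
    intro G
    rw [Set.mem_iUnion]
    by_cases hG : G ∈ Submodule.span k {ℓ₀}
    · exact ⟨none, hG⟩
    · have h1 := hcon ℓ₀ G h0 hG
      have h2 : ∃ x, x ∉ nz r ℓ₀ ⊔ nz r G := by
        by_contra h3
        push Not at h3
        exact h1 (eq_top_iff.mpr fun x _ => h3 x)
      obtain ⟨x, hx⟩ := h2
      exact ⟨some ⟨x, fun h => hx (Or.inl h)⟩, fun h => hx (Or.inr h)⟩
  obtain ⟨o, ho⟩ := Subspace.exists_eq_top_of_iUnion_eq_univ hcov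
  rcases o with _ | x
  · exact span_ne_top hN ℓ₀ ho
  · exact vanish_ne_top r x.1 ho

end Pair

end K978.FormOpen
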