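import Groth.Agent.Curves.K978.SecFil
import Groth.Agent.Curves.K978.FormOpen
import Groth.Agent.Curves.K978.FinAdj
import Groth.Agent.Curves.K978.CastelAbs
import Groth.Agent.Curves.K330.CurveDim
import Mathlib.FieldTheory.IntermediateField.Adjoin.Algebra

/-!
# The Castelnuovo bound for a curve in projective three-space
-/

set_option autoImplicit false
set_option backward.isDefEq.respectTransparency.types false

universe u

open CategoryTheory CategoryTheory.Limits AlgebraicGeometry TopologicalSpace Opposite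

namespace K978.CastelProj

open Groth.Agent.Picfga RegLocus CurvePts CurveP1 CurveChart CurveChoice DysonGrow SecFil FormOpen
open Groth.Agent.Fdesc.LocGen Groth.Agent.CurvesB.HZero
open LefPen Groth.Agent.Lefpen.H705.HypIdeal Groth.Agent.Lefpen.H705.SecIdeal
open Groth.Agent.Lefpen.H708.Geo Groth.Agent.Sga5 K330.FormSec

attribute [local instance] algK algKK

section glob

variable {N d : ℕ} {k : Type u} [Field k]

theorem glob_eq_zero (x : CohB1.ProjSpace N k) {G : Form N k d} (h : glob G = 0) : G = 0 := by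
  have h1 := tv_glob G ⟨x, trivial⟩
  have h2 : tv (glob G) ⟨x, trivial⟩ = 0 := by
    rw [h]
    rfl
  rw [h2] at h1
  have h3 : Function.Injective (algebraMap (MvPolynomial (Fin (N + 1)) k) (Twist.Loc (CohB1.polyGrading N k) x)) :=
    IsLocalization.injective (M := x.asHomogeneousIdeal.toIdeal.primeCompl) _ (Ideal.primeCompl_le_nonZeroDivisors _)
  exact Subtype.ext (h3 (h1.symm.trans (map_zero _).symm))

end glob

section main

variable {N : ℕ} {k : Type u} [Field k] {X : Scheme.{u}} [X.Over (Spec (CommRingCat.of k))]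
  [IsIntegral X] (i : X ⟶ CohB1.ProjSpace N k)

/-- The pullback of `O(n)`. -/
noncomputable abbrev tw (n : ℕ) : X.Modules := (Scheme.Modules.pullback i).obj (Twist.twistProjSpace N k (n : ℤ))

theorem fpow_one (ℓ : Form N k 1) : fpow ℓ 1 = ℓ := Subtype.ext (pow_one _)

/-- Sections of `O(n)` as rational functions. -/
theorem exists_Phi {ℓ₀ ℓ₁ : Form N k 1} [Nonempty (nz i ℓ₀)] [Nonempty (nz i ℓ₁)] (hU : nz i ℓ₀ ⊔ nz i ℓ₁ = ⊤)
    {q : Γ(X, nz i ℓ₀)} (hq : res _ (le_top : nz i ℓ₀ ≤ ⊤) (sec' i ℓ₁) = q • res _ (le_top : nz i ℓ₀ ≤ ⊤) (sec' i ℓ₀))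
    (hq0 : gm q ≠ 0) (n : ℕ) :
    ∃ Φ : Coh.HH X (tw i n) 0 ≃ₗ[k] fil (regs k (nz i ℓ₀)) (regs k (nz i ℓ₁)) (gm q) n,
      ∀ (x : Coh.HH X (tw i n) 0) (a : Γ(X, nz i ℓ₀)),
      res _ (le_top : nz i ℓ₀ ≤ ⊤) (equivAdd _ x) = a • res _ (le_top : nz i ℓ₀ ≤ ⊤) (sec' i (fpow ℓ₀ n)) →
        (Φ x : X.functionField) = gm a := by
  have hne := nonempty_inf (nz i ℓ₀) (nz i ℓ₁)
  have h1 := congrArg (res _ (inf_le_left : nz i ℓ₀ ⊓ nz i ℓ₁ ≤ nz i ℓ₀)) hq
  rw [res_smul, res_res, res_res] at h1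
  have h2 := res_fpow i ℓ₀ ℓ₁ n _ h1
  refine exists_equiv hU (isGen_fpow i ℓ₀ n) (isGen_fpow i ℓ₁ n) n hq0 (ores inf_le_left q ^ n) ?_ ?_
  · rw [gm_pow, gm_ores]
  · rw [res_res, res_res]
    exact h2

variable (hi : i ≫ CohB1.ProjSpace.toSpec N k = X ↘ Spec (CommRingCat.of k))

include hi in
/-- Linear forms as rational functions. -/
theorem exists_phi {ℓ₀ ℓ₁ : Form N k 1} [Nonempty (nz i ℓ₀)] [Nonempty (nz i ℓ₁)] (hU : nz i ℓ₀ ⊔ nz i ℓ₁ = ⊤)
    {q : Γ(X, nz i ℓ₀)} (hq : res _ (le_top : nz i ℓ₀ ≤ ⊤) (sec' i ℓ₁) = q • res _ (le_top : nz i ℓ₀ ≤ ⊤) (sec' i ℓ₀))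
    (hq0 : gm q ≠ 0) (hinj : ∀ G : Form N k 1, G ≠ 0 → sec' i G ≠ 0) :
    ∃ φ : Form N k 1 →ₗ[k] X.functionField, Function.Injective φ ∧
      LinearMap.range φ ≤ fil (regs k (nz i ℓ₀)) (regs k (nz i ℓ₁)) (gm q) 1 ∧ φ ℓ₀ = 1 ∧ φ ℓ₁ = gm q ∧
      ∀ (G G' : Form N k 1) (V : X.Opens) [Nonempty V] (c : Γ(X, V)),
        res _ (le_top : V ≤ ⊤) (sec' i G') = c • res _ (le_top : V ≤ ⊤) (sec' i G) → φ G' = gm c * φ G := by
  obtain ⟨Φ, hΦ⟩ := exists_Phi i hU hq hq0 1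
  have hΦ' : ∀ (G : Form N k 1) (a : Γ(X, nz i ℓ₀)),
      res _ (le_top : nz i ℓ₀ ≤ ⊤) (sec' i G) = a • res _ (le_top : nz i ℓ₀ ≤ ⊤) (sec' i ℓ₀) →
        (Φ (formSec X i hi G) : X.functionField) = gm a := by
    intro G a ha
    apply hΦ
    rw [fpow_one, ← ha]
    congr 1
    exact AddEquiv.apply_symm_apply _ _
  have hgen := isGen_one' i ℓ₀
  refine ⟨(Submodule.subtype _) ∘ₗ Φ.toLinearMap ∘ₗ formSec X i hi, ?_, ?_, ?_, ?_, ?_⟩
  · rw [injective_iff_map_eq_zero]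
    intro G hG
    by_contra hne
    apply hinj G hne
    have h1 : Φ (formSec X i hi G) = 0 := Subtype.ext hG
    rw [LinearEquiv.map_eq_zero_iff] at h1
    exact (AddEquiv.map_eq_zero_iff (equivAdd (tw i 1)).symm).mp h1
  · rintro _ ⟨G, rfl⟩
    exact (Φ (formSec X i hi G)).2
  · refine (hΦ' ℓ₀ 1 (one_smul _ _).symm).trans ?_
    exact map_one _
  · exact hΦ' ℓ₁ q hq
  · intro G G' V hV c hc
    obtain ⟨a, ha⟩ := hgen.exists_eq (res _ (le_top : nz i ℓ₀ ≤ ⊤) (sec' i G))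
    obtain ⟨a', ha'⟩ := hgen.exists_eq (res _ (le_top : nz i ℓ₀ ≤ ⊤) (sec' i G'))
    refine (hΦ' G' a' ha').trans ?_
    refine Eq.trans ?_ (congrArg (gm c * ·) (hΦ' G a ha).symm)
    have hne := nonempty_inf (nz i ℓ₀) V
    have h1 := congrArg (res _ (inf_le_right : nz i ℓ₀ ⊓ V ≤ V)) hc
    rw [res_smul, res_res, res_res, ← res_res _ (le_top : nz i ℓ₀ ≤ ⊤) inf_le_left,
      ← res_res _ (le_top : nz i ℓ₀ ≤ ⊤) inf_le_left, ha, ha', res_smul, res_smul, smul_smul] at h1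
    have h2 := (hgen.res inf_le_left).ext h1
    have h3 := congrArg (gm (X := X) (U := nz i ℓ₀ ⊓ V)) h2
    rwa [gm_mul, gm_ores, gm_ores, gm_ores] at h3

include hi in
/-- The quotients of linear forms generate the function field. -/
theorem mem_of_forms [IsClosedImmersion i] (φ : Form N k 1 →ₗ[k] X.functionField) (hφi : Function.Injective φ)
    (hφ : ∀ (G G' : Form N k 1) (V : X.Opens) [Nonempty V] (c : Γ(X, V)),
        res _ (le_top : V ≤ ⊤) (sec' i G') = c • res _ (le_top : V ≤ ⊤) (sec' i G) → φ G' = gm c * φ G)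
    (E : Subfield X.functionField) (hk : ∀ c : k, algebraMap k X.functionField c ∈ E) (hE : ∀ G, φ G ∈ E)
    (f : X.functionField) : f ∈ E := by
  obtain ⟨j, hj⟩ := Groth.Agent.PerfB.ProjSpaceCover.exists_mem_basicOpen_X N k (i (genericPoint X))
  have hne : Nonempty (i ⁻¹ᵁ chart N k j : X.Opens) := ⟨⟨genericPoint X, hj⟩⟩
  have haff : IsAffineOpen (i ⁻¹ᵁ chart N k j) := (isAffineOpen_chart j).preimage i
  have hfr : IsFractionRing Γ(X, i ⁻¹ᵁ chart N k j) X.functionField :=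
    functionField_isFractionRing_of_isAffineOpen X _ haff
  let Xf : Fin (N + 1) → Form N k 1 := fun m => ⟨MvPolynomial.X m, MvPolynomial.isHomogeneous_X k m⟩
  have hXj : φ (Xf j) ≠ 0 := by
    intro h
    have h1 : Xf j = 0 := hφi (by rw [h, map_zero])
    exact MvPolynomial.X_ne_zero (R := k) j (congrArg Subtype.val h1)
  have hgen : ∀ m, φ (Xf m) = gm (eqn i j (i ⁻¹ᵁ chart N k j) le_rfl (Xf m)) * φ (Xf j) := by
    intro m
    apply hφ
    obtain ⟨g, hg, h⟩ := exists_gen_pull (d := 1) i j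
    have h1 : eqn i j (i ⁻¹ᵁ chart N k j) le_rfl (Xf j) = 1 := by
      rw [eqn_eq]
      change coordU i j _ _ (ProjChart.dehom N k j (MvPolynomial.X j)) = 1
      rw [ProjChart.dehom_X_self, map_one]
    refine (h _).trans ?_
    refine Eq.trans ?_ (congrArg (eqn i j (i ⁻¹ᵁ chart N k j) le_rfl (Xf m) • ·) (h (Xf j)).symm)
    rw [h1, one_smul]
  have hmem : ∀ m, gm (eqn i j (i ⁻¹ᵁ chart N k j) le_rfl (Xf m)) ∈ E := by
    intro m
    have h1 : gm (eqn i j (i ⁻¹ᵁ chart N k j) le_rfl (Xf m)) = φ (Xf m) / φ (Xf j) := by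
      rw [hgen m, mul_div_cancel_right₀ _ hXj]
    rw [h1]
    exact E.div_mem (hE _) (hE _)
  have hring : ∀ a : Γ(X, i ⁻¹ᵁ chart N k j), gm a ∈ E := by
    intro a
    obtain ⟨p, rfl⟩ := coordU_surjective i j a
    induction p using MvPolynomial.induction_on with
    | C c =>
      have h1 := congrArg (fun ψ : k →+* Γ(X, i ⁻¹ᵁ chart N k j) => ψ c) (coordU_C i j (i ⁻¹ᵁ chart N k j) le_rfl)
      have h2 : coordU i j (i ⁻¹ᵁ chart N k j) le_rfl (MvPolynomial.C c) = ores le_top (gl k X c) := by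
        refine h1.trans ?_
        rw [hi]
        rfl
      rw [h2, gm_gl]
      exact hk c
    | add p p' hp hp' =>
      rw [map_add, gm, map_add]
      exact E.add_mem hp hp'
    | mul_X p m hp =>
      rw [map_mul, gm_mul]
      refine E.mul_mem hp ?_
      have h1 : coordU i j (i ⁻¹ᵁ chart N k j) le_rfl (MvPolynomial.X m) =
          eqn i j (i ⁻¹ᵁ chart N k j) le_rfl (Xf (j.succAbove m)) := by
        rw [eqn_eq]
        change _ = coordU i j _ _ (ProjChart.dehom N k j (MvPolynomial.X (j.succAbove m)))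
        rw [ProjChart.dehom_X]
      rw [h1]
      exact hmem _
  obtain ⟨a, b, hb0, rfl⟩ := IsFractionRing.div_surjective (A := Γ(X, i ⁻¹ᵁ chart N k j)) f
  exact E.div_mem (hring a) (hring b)

end main

end K978.CastelProj
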