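import Groth.Agent.Curves.K978.Pencil
import Mathlib.RingTheory.Jacobson.Ring
import Mathlib.FieldTheory.IsAlgClosed.Basic
import Mathlib.RingTheory.Localization.Away.Basic
import Mathlib.RingTheory.FiniteType
import Mathlib.RingTheory.FinitePresentation
import Mathlib.RingTheory.Localization.Away.AdjoinRoot

/-!
# The pencil argument in terms of rational points
-/

set_option autoImplicit false

namespace K978.PencilPts

/-- Maximal ideals of an algebra of finite type over an algebraically closed field are rational points. -/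
theorem exists_point {k A : Type*} [Field k] [IsAlgClosed k] [CommRing A] [Algebra k A] [Algebra.FiniteType k A]
    (m : Ideal A) [hm : m.IsMaximal] : ∃ φ : A →ₐ[k] k, RingHom.ker φ = m := by
  let _ : Field (A ⧸ m) := Ideal.Quotient.field m
  have : Module.Finite k (A ⧸ m) := finite_of_finite_type_of_isJacobsonRing k (A ⧸ m)
  have hb : Function.Bijective (algebraMap k (A ⧸ m)) := IsAlgClosed.algebraMap_bijective_of_isIntegral
  let e : k ≃ₐ[k] (A ⧸ m) := AlgEquiv.ofBijective (Algebra.ofId k (A ⧸ m)) hb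
  refine ⟨(e.symm : (A ⧸ m) →ₐ[k] k).comp (Ideal.Quotient.mkₐ k m), ?_⟩
  ext x
  rw [RingHom.mem_ker]
  change e.symm (Ideal.Quotient.mk m x) = 0 ↔ _
  rw [EmbeddingLike.map_eq_zero_iff, Ideal.Quotient.eq_zero_iff_mem]

theorem ker_isMaximal {k A : Type*} [Field k] [CommRing A] [Algebra k A] (φ : A →ₐ[k] k) :
    (RingHom.ker φ).IsMaximal :=
  RingHom.ker_isMaximal_of_surjective φ (fun x => ⟨algebraMap k A x, by simp⟩)

/-- **The pencil argument**, for the rational points of an algebra of finite type which kill an ideal `I` and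
do not kill `s`. -/
theorem exists_pencil_pts {k W T : Type*} [Field k] [IsAlgClosed k] [AddCommGroup W] [Module k W] [CommRing T]
    [Algebra k T] [Algebra.FiniteType k T]
    (hdim : ∀ p : Ideal T, p.IsPrime → p ∈ minimalPrimes T ∨ p.IsMaximal) (I : Ideal T) (s : T)
    (a b : W →ₗ[k] T)
    (h : ∀ χ : T →ₐ[k] k, (∀ x ∈ I, χ x = 0) → χ s ≠ 0 →
      ∃ w w', χ (a w) * χ (b w') - χ (a w') * χ (b w) ≠ 0)
    (F : Set (Submodule k W)) (hF : F.Finite) (hFt : ∀ V ∈ F, V ≠ ⊤) :
    ∃ w, (∀ V ∈ F, w ∉ V) ∧ ∀ χ : T →ₐ[k] k, (∀ x ∈ I, χ x = 0) → χ s ≠ 0 → χ (a w) = 0 → χ (b w) ≠ 0 := by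
  have : Infinite k := IsAlgClosed.instInfinite
  let s' : T ⧸ I := Ideal.Quotient.mk I s
  let C := Localization.Away s'
  let φ : T →ₐ[k] C := (IsScalarTower.toAlgHom k (T ⧸ I) C).comp (Ideal.Quotient.mkₐ k I)
  have hφ : ∀ x, φ x = algebraMap (T ⧸ I) C (Ideal.Quotient.mk I x) := fun x => rfl
  have hft1 : Algebra.FiniteType (T ⧸ I) C := by
    have h0 : Algebra.FinitePresentation (T ⧸ I) C := IsLocalization.Away.finitePresentation s'
    infer_instance
  have hft2 : Algebra.FiniteType k C := Algebra.FiniteType.trans (S := T ⧸ I) inferInstance hft1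
  have hN : IsNoetherianRing C := Algebra.FiniteType.isNoetherianRing k C
  have hinj : Function.Injective (PrimeSpectrum.comap φ.toRingHom) := by
    have h1 : PrimeSpectrum.comap φ.toRingHom =
        PrimeSpectrum.comap (Ideal.Quotient.mk I) ∘ PrimeSpectrum.comap (algebraMap (T ⧸ I) C) := rfl
    rw [h1]
    exact (PrimeSpectrum.comap_injective_of_surjective _ Ideal.Quotient.mk_surjective).comp
      (PrimeSpectrum.localization_comap_injective C (Submonoid.powers s'))
  obtain ⟨w, hw1, hw2⟩ := Pencil.exists_pencil (k := k) (C := C)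
    (fun p hp => Pencil.dim_of_comap_injective φ.toRingHom hinj hdim p hp)
    (φ.toLinearMap ∘ₗ a) (φ.toLinearMap ∘ₗ b) (by
      intro m hm
      obtain ⟨ψ, hψ⟩ := exists_point (k := k) m
      obtain ⟨w, w', hw⟩ := h (ψ.comp φ) (by
        intro x hx
        rw [AlgHom.comp_apply, hφ, Ideal.Quotient.eq_zero_iff_mem.2 hx, map_zero, map_zero]) (by
        rw [AlgHom.comp_apply, hφ]
        intro h0
        have h1 := (IsLocalization.Away.algebraMap_isUnit (S := C) s').map ψ
        exact h1.ne_zero h0)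
      refine ⟨w, w', fun hcon => hw ?_⟩
      rw [← hψ, RingHom.mem_ker] at hcon
      have h2 : ψ (φ (a w) * φ (b w') - φ (a w') * φ (b w)) = 0 := hcon
      rw [map_sub, map_mul, map_mul] at h2
      exact h2) F hF hFt
  refine ⟨w, hw1, fun χ hχI hχs ha hb => ?_⟩
  -- lift the point to `C`
  let χ1 : (T ⧸ I) →ₐ[k] k := Ideal.Quotient.liftₐ I χ hχI
  have hχ1 : ∀ x, χ1 (Ideal.Quotient.mk I x) = χ x := fun x => rfl
  let χ2 : C →ₐ[k] k := IsLocalization.liftAlgHom (M := Submonoid.powers s') (f := χ1) (by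
    rintro ⟨_, n, rfl⟩
    simp only [map_pow]
    exact (IsUnit.mk0 _ (by rw [hχ1]; exact hχs)).pow n)
  have hχ2 : ∀ x, χ2 (φ x) = χ x := by
    intro x
    rw [hφ]
    exact (IsLocalization.lift_eq _ _).trans (hχ1 x)
  refine hw2 (RingHom.ker χ2) (ker_isMaximal χ2) ?_ ?_
  · rw [RingHom.mem_ker]
    exact (hχ2 _).trans ha
  · rw [RingHom.mem_ker]
    exact (hχ2 _).trans hb

end K978.PencilPts
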