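import Groth.Agent.Curves.K978.TwoBranch
import Groth.Agent.Curves.K978.PencilPts

/-!
# Points with at most two unramified transversal branches, in terms of rational points
-/

set_option autoImplicit false
universe u

open IsLocalRing

namespace K978.ChartNode

open Groth.Agent.Models.H73 NodeLocal2 NodeLocal3 NodeLocal4

section dim1

variable {k B : Type u} [Field k] [CommRing B] [Algebra k B]

/-- At a point whose local ring is a discrete valuation ring the cotangent space is a line. -/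
theorem exists_const (P : B →ₐ[k] k) (q : Ideal B) [hqp : q.IsPrime] (hq : RingHom.ker P = q)
    (hdvr : ∃ (_ : IsDomain (Localization.AtPrime q)), IsDiscreteValuationRing (Localization.AtPrime q))
    {u b : B} (hu : P u = 0) (hu2 : u ∉ RingHom.ker P ^ 2) (hb : P b = 0) :
    ∃ c : k, b - algebraMap k B c * u ∈ RingHom.ker P ^ 2 := by
  obtain ⟨h1, h2⟩ := hdvr
  rw [hq] at hu2 ⊢
  replace hu : u ∈ q := by rw [← hq]; exact hu
  replace hb : b ∈ q := by rw [← hq]; exact hb
  have hconst : ∀ x : B, x - algebraMap k B (P x) ∈ q := by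
    intro x
    rw [← hq, RingHom.mem_ker, map_sub, AlgHom.commutes]
    simp
  have hnot : ∀ s : B, s ∈ q.primeCompl → P s ≠ 0 := fun s hs h0 => hs (by
    change s ∈ q
    rw [← hq]; exact h0)
  have hum : algebraMap B (Localization.AtPrime q) u ∈ maximalIdeal (Localization.AtPrime q) := by
    rw [← Localization.AtPrime.map_eq_maximalIdeal]
    exact Ideal.mem_map_of_mem _ hu
  have hum2 : algebraMap B (Localization.AtPrime q) u ∉ maximalIdeal (Localization.AtPrime q) ^ 2 := by
    intro hcon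
    rw [← Localization.AtPrime.map_eq_maximalIdeal, ← Ideal.map_pow,
      IsLocalization.algebraMap_mem_map_algebraMap_iff q.primeCompl] at hcon
    obtain ⟨s, hs, hsu⟩ := hcon
    apply hu2
    have hPs : P s ≠ 0 := hnot s hs
    have h3 : algebraMap k B (P s) * u ∈ q ^ 2 := by
      have h4 : algebraMap k B (P s) * u = s * u - (s - algebraMap k B (P s)) * u := by ring
      rw [h4]
      refine Ideal.sub_mem _ hsu ?_
      rw [pow_two]
      exact Ideal.mul_mem_mul (hconst s) hu
    have h5 := Ideal.mul_mem_left (q ^ 2) (algebraMap k B (P s)⁻¹) h3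
    rwa [← mul_assoc, ← map_mul, inv_mul_cancel₀ hPs, map_one, one_mul] at h5
  have hspan := span_eq_of_not_mem_sq hum hum2
  have hbm : algebraMap B (Localization.AtPrime q) b ∈ Ideal.span {algebraMap B (Localization.AtPrime q) u} := by
    rw [hspan, ← Localization.AtPrime.map_eq_maximalIdeal]
    exact Ideal.mem_map_of_mem _ hb
  have hbm' : algebraMap B (Localization.AtPrime q) b ∈ (Ideal.span {u}).map (algebraMap B (Localization.AtPrime q)) := by
    rwa [Ideal.map_span, Set.image_singleton]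
  rw [IsLocalization.algebraMap_mem_map_algebraMap_iff q.primeCompl] at hbm'
  obtain ⟨s, hs, hsb⟩ := hbm'
  obtain ⟨w, hw⟩ := Ideal.mem_span_singleton'.1 hsb
  have hPs : P s ≠ 0 := hnot s hs
  refine ⟨(P s)⁻¹ * P w, ?_⟩
  have h6 : algebraMap k B (P s) * b - algebraMap k B (P w) * u ∈ q ^ 2 := by
    have h7 : algebraMap k B (P s) * b - algebraMap k B (P w) * u =
        (w - algebraMap k B (P w)) * u - (s - algebraMap k B (P s)) * b := by
      linear_combination (-1 : B) * hw
    rw [h7, pow_two]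
    exact Ideal.sub_mem _ (Ideal.mul_mem_mul (hconst w) hu) (Ideal.mul_mem_mul (hconst s) hb)
  have h8 := Ideal.mul_mem_left (q ^ 2) (algebraMap k B (P s)⁻¹) h6
  have h9 : algebraMap k B (P s)⁻¹ * (algebraMap k B (P s) * b - algebraMap k B (P w) * u) =
      b - algebraMap k B ((P s)⁻¹ * P w) * u := by
    rw [mul_sub, ← mul_assoc, ← map_mul, inv_mul_cancel₀ hPs, map_one, one_mul, ← mul_assoc, ← map_mul]
  rwa [h9] at h8

end dim1

section chart

variable {k A₀ B₀ : Type u} [Field k] [IsAlgClosed k] [CommRing A₀] [CommRing B₀] [Algebra k A₀] [Algebra k B₀]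
  [Algebra A₀ B₀] [IsScalarTower k A₀ B₀] [Algebra.FiniteType k A₀] [Module.Finite A₀ B₀]

/-- The primes over a maximal ideal are rational points. -/
theorem exists_point_over (p : Ideal A₀) [hp : p.IsMaximal] (q : Ideal B₀) (hq : q.IsPrime)
    (hqp : q.comap (algebraMap A₀ B₀) = p) : ∃ P : B₀ →ₐ[k] k, RingHom.ker P = q := by
  have hqm : q.IsMaximal := Ideal.isMaximal_of_isIntegral_of_isMaximal_comap (R := A₀) q (by rw [hqp]; exact hp)
  have : Algebra.FiniteType k B₀ := Algebra.FiniteType.trans (S := A₀) inferInstance inferInstance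
  exact PencilPts.exists_point q

omit [IsAlgClosed k] [Algebra.FiniteType k A₀] [Module.Finite A₀ B₀] in
/-- Points over the same point take the same values on functions from below. -/
theorem point_eq (p : Ideal A₀) (P Q : B₀ →ₐ[k] k)
    (hP : (RingHom.ker P).comap (algebraMap A₀ B₀) = p) (hQ : (RingHom.ker Q).comap (algebraMap A₀ B₀) = p) (a : A₀) :
    P (algebraMap A₀ B₀ a) = Q (algebraMap A₀ B₀ a) := by
  have h1 : a - algebraMap k A₀ (P (algebraMap A₀ B₀ a)) ∈ p := by
    rw [← hP, Ideal.mem_comap, RingHom.mem_ker, map_sub, map_sub, ← IsScalarTower.algebraMap_apply k A₀ B₀,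
      AlgHom.commutes]
    simp
  rw [← hQ, Ideal.mem_comap, RingHom.mem_ker, map_sub, map_sub, ← IsScalarTower.algebraMap_apply k A₀ B₀,
      AlgHom.commutes, sub_eq_zero] at h1
  exact h1.symm

/-- **The chart criterion for regular points and nodes.** -/
theorem regular_or_nodeLike {O : Type u} [CommRing O] [IsLocalRing O] [Algebra A₀ O]
    (p : Ideal A₀) [hp : p.IsMaximal] [IsLocalization.AtPrime O p]
    (hinj : Function.Injective (algebraMap A₀ B₀))
    (hdvr : ∀ (q : Ideal B₀) (_ : q.IsPrime), q.comap (algebraMap A₀ B₀) = p →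
      ∃ (_ : IsDomain (Localization.AtPrime q)), IsDiscreteValuationRing (Localization.AtPrime q))
    (tan : ∀ P : B₀ →ₐ[k] k, (RingHom.ker P).comap (algebraMap A₀ B₀) = p →
      ∃ a : A₀, P (algebraMap A₀ B₀ a) = 0 ∧ algebraMap A₀ B₀ a ∉ RingHom.ker P ^ 2)
    (pair : ∀ P Q : B₀ →ₐ[k] k, (RingHom.ker P).comap (algebraMap A₀ B₀) = p →
      (RingHom.ker Q).comap (algebraMap A₀ B₀) = p → P ≠ Q →
      ∃ a : A₀, P (algebraMap A₀ B₀ a) = 0 ∧ algebraMap A₀ B₀ a ∉ RingHom.ker P ^ 2 ∧
        algebraMap A₀ B₀ a ∈ RingHom.ker Q ^ 2)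
    (triple : ∀ P Q R : B₀ →ₐ[k] k, (RingHom.ker P).comap (algebraMap A₀ B₀) = p →
      (RingHom.ker Q).comap (algebraMap A₀ B₀) = p → (RingHom.ker R).comap (algebraMap A₀ B₀) = p →
      P = Q ∨ Q = R ∨ P = R) :
    IsRegularLocalRing O ∨ IsNodeLike O := by
  have hN : IsNoetherianRing A₀ := Algebra.FiniteType.isNoetherianRing k A₀
  have hNO : IsNoetherianRing O := IsLocalization.isNoetherianRing p.primeCompl O hN
  have hres : ∀ q : Ideal B₀, q.IsPrime → q.comap (algebraMap A₀ B₀) = p → ∀ b : B₀, ∃ a : A₀,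
      b - algebraMap A₀ B₀ a ∈ q := by
    intro q hq hqp b
    obtain ⟨P, rfl⟩ := exists_point_over (k := k) p q hq hqp
    refine ⟨algebraMap k A₀ (P b), ?_⟩
    rw [← IsScalarTower.algebraMap_apply k A₀ B₀, RingHom.mem_ker, map_sub, AlgHom.commutes]
    simp
  obtain ⟨q, -, hq, hqp⟩ := Ideal.exists_ideal_over_prime_of_isIntegral p (⊥ : Ideal B₀) (by
    rw [← RingHom.ker_eq_comap_bot, (RingHom.injective_iff_ker_eq_bot _).1 hinj]; exact bot_le)
  obtain ⟨P, rfl⟩ := exists_point_over (k := k) p q hq hqp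
  have hker : ∀ P Q : B₀ →ₐ[k] k, RingHom.ker P = RingHom.ker Q → P = Q := by
    intro P Q h
    apply AlgHom.ext
    intro x
    have h3 : x - algebraMap k B₀ (P x) ∈ RingHom.ker P := by
      rw [RingHom.mem_ker, map_sub, AlgHom.commutes]
      simp
    rw [h, RingHom.mem_ker, map_sub, AlgHom.commutes, sub_eq_zero] at h3
    exact h3.symm
  by_cases hQ : ∃ Q : B₀ →ₐ[k] k, Q ≠ P ∧ (RingHom.ker Q).comap (algebraMap A₀ B₀) = p
  · obtain ⟨Q, hQP, hQp⟩ := hQ
    have hQprime : (RingHom.ker Q).IsPrime := RingHom.ker_isPrime _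
    refine TwoBranch.regular_or_nodeLike p hinj hres (RingHom.ker P) (RingHom.ker Q) hq hQprime hqp hQp ?_ ?_ hdvr
    · intro q' hq' hqp'
      obtain ⟨R, rfl⟩ := exists_point_over (k := k) p q' hq' hqp'
      rcases triple P Q R hqp hQp hqp' with h | h | h
      · exact absurd h.symm hQP
      · right; rw [h]
      · left; rw [h]
    · rintro b ⟨hbP, hbQ⟩
      obtain ⟨u, huP, huP2, huQ⟩ := pair P Q hqp hQp hQP.symm
      obtain ⟨v, hvQ, hvQ2, hvP⟩ := pair Q P hQp hqp hQP
      obtain ⟨c, hc⟩ := exists_const P _ rfl (hdvr _ hq hqp) huP huP2 hbP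
      obtain ⟨d, hd⟩ := exists_const Q _ rfl (hdvr _ hQprime hQp) hvQ hvQ2 hbQ
      refine ⟨algebraMap k A₀ c * u + algebraMap k A₀ d * v, ?_, ?_⟩
      · have h1 : b - algebraMap A₀ B₀ (algebraMap k A₀ c * u + algebraMap k A₀ d * v) =
            (b - algebraMap k B₀ c * algebraMap A₀ B₀ u) - algebraMap k B₀ d * algebraMap A₀ B₀ v := by
          rw [map_add, map_mul, map_mul, ← IsScalarTower.algebraMap_apply k A₀ B₀,
            ← IsScalarTower.algebraMap_apply k A₀ B₀]
          ring
        rw [h1]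
        exact Ideal.sub_mem _ hc (Ideal.mul_mem_left _ _ hvP)
      · have h1 : b - algebraMap A₀ B₀ (algebraMap k A₀ c * u + algebraMap k A₀ d * v) =
            (b - algebraMap k B₀ d * algebraMap A₀ B₀ v) - algebraMap k B₀ c * algebraMap A₀ B₀ u := by
          rw [map_add, map_mul, map_mul, ← IsScalarTower.algebraMap_apply k A₀ B₀,
            ← IsScalarTower.algebraMap_apply k A₀ B₀]
          ring
        rw [h1]
        exact Ideal.sub_mem _ hd (Ideal.mul_mem_left _ _ huQ)
  · push Not at hQ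
    refine TwoBranch.regular_or_nodeLike p hinj hres (RingHom.ker P) (RingHom.ker P) hq hq hqp hqp ?_ ?_ hdvr
    · intro q' hq' hqp'
      obtain ⟨R, rfl⟩ := exists_point_over (k := k) p q' hq' hqp'
      left
      by_contra hcon
      exact hQ R (fun h => hcon (by rw [h])) hqp'
    · rintro b ⟨hbP, -⟩
      obtain ⟨u, huP, huP2⟩ := tan P hqp
      obtain ⟨c, hc⟩ := exists_const P _ rfl (hdvr _ hq hqp) huP huP2 hbP
      refine ⟨algebraMap k A₀ c * u, ?_⟩
      rw [inf_idem, map_mul, ← IsScalarTower.algebraMap_apply k A₀ B₀]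
      exact hc

/-- A point with a single unramified branch: the extension is trivial near it. -/
theorem exists_notMem_mul (p : Ideal A₀) [hp : p.IsMaximal] (P : B₀ →ₐ[k] k)
    (hPp : (RingHom.ker P).comap (algebraMap A₀ B₀) = p)
    (hdvr : ∀ (q : Ideal B₀) (_ : q.IsPrime), q.comap (algebraMap A₀ B₀) = p →
      ∃ (_ : IsDomain (Localization.AtPrime q)), IsDiscreteValuationRing (Localization.AtPrime q))
    (tan : ∃ a : A₀, P (algebraMap A₀ B₀ a) = 0 ∧ algebraMap A₀ B₀ a ∉ RingHom.ker P ^ 2)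
    (uniq : ∀ Q : B₀ →ₐ[k] k, (RingHom.ker Q).comap (algebraMap A₀ B₀) = p → Q = P) :
    ∃ r : A₀, r ∉ p ∧ ∀ b : B₀, ∃ a : A₀, algebraMap A₀ B₀ r * b = algebraMap A₀ B₀ a := by
  have hN : IsNoetherianRing A₀ := Algebra.FiniteType.isNoetherianRing k A₀
  have hq : (RingHom.ker P).IsPrime := RingHom.ker_isPrime _
  refine TwoBranch.exists_notMem_mul p (RingHom.ker P) hq hPp ?_ ?_ ?_
  · intro q' hq' hqp'
    obtain ⟨R, rfl⟩ := exists_point_over (k := k) p q' hq' hqp'
    rw [uniq R hqp']
  · intro b hb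
    obtain ⟨u, huP, huP2⟩ := tan
    obtain ⟨c, hc⟩ := exists_const P _ rfl (hdvr _ hq hPp) huP huP2 hb
    refine ⟨algebraMap k A₀ c * u, ?_⟩
    rw [map_mul, ← IsScalarTower.algebraMap_apply k A₀ B₀]
    exact hc
  · intro b
    refine ⟨algebraMap k A₀ (P b), ?_⟩
    rw [← IsScalarTower.algebraMap_apply k A₀ B₀, RingHom.mem_ker, map_sub, AlgHom.commutes]
    simp

end chart

end K978.ChartNode
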