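import Mathlib.RingTheory.FiniteType
import Mathlib.RingTheory.Ideal.Cotangent
import Mathlib.RingTheory.Ideal.IdempotentFG
import Mathlib.RingTheory.Noetherian.Basic
import Mathlib.RingTheory.Finiteness.Ideal
import Mathlib.RingTheory.Ideal.Quotient.Operations

/-!
# Jets of low degree polynomials in generators of an algebra
-/

set_option autoImplicit false

namespace K978.Jets

universe u v

variable {k : Type u} {B : Type v} [Field k] [CommRing B] [Algebra k B] (S : Submodule k B)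

section

variable {S}

theorem exists_sep (hadj : Algebra.adjoin k (S : Set B) = ⊤) {P Q : B →ₐ[k] k} (h : P ≠ Q) :
    ∃ x ∈ S, P x ≠ Q x := by
  by_contra! hcon
  apply h
  have h1 : Algebra.adjoin k (S : Set B) ≤ AlgHom.equalizer P Q := Algebra.adjoin_le hcon
  rw [hadj] at h1
  exact AlgHom.ext fun x => h1 (Algebra.mem_top (x := x))

theorem exists_sep' (h1S : (1 : B) ∈ S) (hadj : Algebra.adjoin k (S : Set B) = ⊤) {P Q : B →ₐ[k] k} (h : P ≠ Q) :
    ∃ x ∈ S, P x = 0 ∧ Q x = 1 := by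
  obtain ⟨x, hx, hne⟩ := exists_sep hadj h
  refine ⟨(Q x - P x)⁻¹ • (x - P x • 1), S.smul_mem _ (S.sub_mem hx (S.smul_mem _ h1S)), ?_, ?_⟩
  · rw [map_smul, map_sub, map_smul, map_one, smul_eq_mul, smul_eq_mul, mul_one, sub_self, mul_zero]
  · rw [map_smul, map_sub, map_smul, map_one, smul_eq_mul, smul_eq_mul, mul_one,
      inv_mul_cancel₀ (sub_ne_zero.2 hne.symm)]

theorem ker_ne_sq [IsDomain B] [IsNoetherianRing B] (hB : ¬ IsField B) (P : B →ₐ[k] k) :
    ¬ RingHom.ker P ≤ RingHom.ker P ^ 2 := by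
  intro h
  have h1 : IsIdempotentElem (RingHom.ker P) := by
    rw [IsIdempotentElem, ← pow_two]
    exact le_antisymm (Ideal.pow_le_self (by norm_num)) h
  have hmax : (RingHom.ker P).IsMaximal :=
    RingHom.ker_isMaximal_of_surjective P (fun x => ⟨algebraMap k B x, by simp⟩)
  rcases (Ideal.isIdempotentElem_iff_eq_bot_or_top _ (IsNoetherian.noetherian _)).1 h1 with h2 | h2
  · apply hB
    rw [Ring.isField_iff_maximal_bot, ← h2]
    exact hmax
  · exact hmax.ne_top h2

theorem exists_tangent [IsDomain B] [IsNoetherianRing B] (hB : ¬ IsField B) (h1S : (1 : B) ∈ S)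
    (hadj : Algebra.adjoin k (S : Set B) = ⊤) (P : B →ₐ[k] k) :
    ∃ x ∈ S, P x = 0 ∧ x ∉ RingHom.ker P ^ 2 := by
  by_contra! hcon
  apply ker_ne_sq hB P
  have h2 : ∀ x ∈ S, x - algebraMap k B (P x) ∈ RingHom.ker P ^ 2 := by
    intro x hx
    apply hcon
    · exact S.sub_mem hx (by rw [Algebra.algebraMap_eq_smul_one]; exact S.smul_mem _ h1S)
    · rw [map_sub, AlgHom.commutes]; simp
  have h3 : ∀ x : B, x - algebraMap k B (P x) ∈ RingHom.ker P ^ 2 := by
    intro x
    have hx : x ∈ Algebra.adjoin k (S : Set B) := by rw [hadj]; trivial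
    induction hx using Algebra.adjoin_induction with
    | mem x hx => exact h2 x hx
    | algebraMap r => rw [AlgHom.commutes]; simp
    | add x y _ _ hx hy =>
      have : x + y - algebraMap k B (P (x + y)) = (x - algebraMap k B (P x)) + (y - algebraMap k B (P y)) := by
        rw [map_add, map_add]; ring
      rw [this]
      exact Ideal.add_mem _ hx hy
    | mul x y _ _ hx hy =>
      have : x * y - algebraMap k B (P (x * y)) = (x - algebraMap k B (P x)) * y +
          algebraMap k B (P x) * (y - algebraMap k B (P y)) := by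
        rw [map_mul, map_mul]; ring
      rw [this]
      exact Ideal.add_mem _ (Ideal.mul_mem_right _ _ hx) (Ideal.mul_mem_left _ _ hy)
  intro x hx
  have h4 := h3 x
  rw [RingHom.mem_ker] at hx
  rwa [hx, map_zero, sub_zero] at h4

/-- Points are separated to the order needed for ordinary double points. -/
theorem jet2 [IsDomain B] [IsNoetherianRing B] (hB : ¬ IsField B) (h1S : (1 : B) ∈ S)
    (hadj : Algebra.adjoin k (S : Set B) = ⊤) {W : Submodule k B}
    (hW : ∀ x ∈ S, ∀ y ∈ S, ∀ z ∈ S, x * y * z ∈ W) (P Q : B →ₐ[k] k) (hPQ : P ≠ Q) :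
    ∃ w ∈ W, P w = 0 ∧ w ∉ RingHom.ker P ^ 2 ∧ w ∈ RingHom.ker Q ^ 2 := by
  obtain ⟨x, hx, hx0, hx2⟩ := exists_tangent hB h1S hadj P
  obtain ⟨y, hy, hy0, hy1⟩ := exists_sep' h1S hadj hPQ.symm
  refine ⟨x * y * y, hW x hx y hy y hy, ?_, ?_, ?_⟩
  · rw [map_mul, map_mul, hx0, zero_mul, zero_mul]
  · intro hcon
    apply hx2
    have h1 : x = x * y * y - x * (y * y - 1) := by ring
    rw [h1]
    refine Ideal.sub_mem _ hcon ?_
    rw [pow_two]
    refine Ideal.mul_mem_mul ((RingHom.mem_ker).2 hx0) ((RingHom.mem_ker).2 ?_)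
    rw [map_sub, map_mul, hy1, map_one, mul_one, sub_self]
  · have h1 : x * y * y = x * (y * y) := by ring
    rw [h1, pow_two]
    exact Ideal.mul_mem_left _ _ (Ideal.mul_mem_mul ((RingHom.mem_ker).2 hy0) ((RingHom.mem_ker).2 hy0))

theorem jet3 (h1S : (1 : B) ∈ S) (hadj : Algebra.adjoin k (S : Set B) = ⊤) {W : Submodule k B}
    (hW : ∀ x ∈ S, ∀ y ∈ S, ∀ z ∈ S, x * y * z ∈ W) (P Q R : B →ₐ[k] k) (hQR : Q ≠ R)
    (hPR : P ≠ R) : ∃ w ∈ W, P w = 0 ∧ Q w = 0 ∧ R w ≠ 0 := by
  obtain ⟨x, hx, hx0, hx1⟩ := exists_sep' h1S hadj hPR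
  obtain ⟨y, hy, hy0, hy1⟩ := exists_sep' h1S hadj hQR
  refine ⟨x * y * 1, hW x hx y hy 1 h1S, ?_, ?_, ?_⟩
  · rw [map_mul, map_mul, hx0, zero_mul, zero_mul]
  · rw [map_mul, map_mul, hy0, mul_zero, zero_mul]
  · rw [map_mul, map_mul, hx1, hy1, map_one, mul_one, mul_one]
    exact one_ne_zero

end

end K978.Jets
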