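import Mathlib.RingTheory.Etale.Kaehler
import Mathlib.RingTheory.Etale.Field
import Mathlib.RingTheory.Unramified.Field
import Mathlib.FieldTheory.IntermediateField.Adjoin.Basic
import Mathlib.RingTheory.Polynomial.Basic
import Mathlib.RingTheory.Localization.FractionRing

/-!
# Separating elements of a field extension in terms of derivations
-/

set_option autoImplicit false

open scoped Polynomial IntermediateField

namespace K978.Sep

universe u

variable (k : Type u) {K : Type u} [Field k] [Field K] [Algebra k K]

/-- `z` is a differential generator: a derivation over `k` which kills `z` is zero. -/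
def DGen (z : K) : Prop :=
  ∀ (M : Type u) [AddCommGroup M] [Module k M] [Module K M] [IsScalarTower k K M] (d : Derivation k K M),
    d z = 0 → d = 0

variable {k}

/-- A derivation over `k` killing the image of `A` is a derivation over `A`. -/
theorem eq_zero_of_kills {A M : Type u} [CommRing A] [Algebra A K] [Algebra.FormallyUnramified A K]
    [AddCommGroup M] [Module k M] [Module K M] [IsScalarTower k K M] (d : Derivation k K M)
    (hd : ∀ a : A, d (algebraMap A K a) = 0) : d = 0 := by
  let _ : Module A M := Module.compHom M (algebraMap A K)
  have hT : IsScalarTower A K M := ⟨fun a x m => by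
    rw [Algebra.smul_def, mul_smul]; rfl⟩
  let d' : Derivation A K M := Derivation.mk'
    { toFun := d
      map_add' := d.map_add
      map_smul' := fun a x => by
        rw [Algebra.smul_def, Derivation.leibniz, hd, smul_zero, add_zero]
        rfl } (fun x y => d.leibniz x y)
  have h1 : Subsingleton (Ω[K⁄A]) := inferInstance
  ext x
  change d' x = 0
  rw [← Derivation.liftKaehlerDifferential_comp_D d' x, Subsingleton.elim (KaehlerDifferential.D A K x) 0, map_zero]

/-- Separating elements are differential generators. -/
theorem dGen_of_isSeparable (z : K) (h : Algebra.IsSeparable k⟮z⟯ K) : DGen k z := by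
  intro M _ _ _ _ d hd
  have h1 : Algebra.FormallyUnramified k⟮z⟯ K := Algebra.FormallyUnramified.of_isSeparable k⟮z⟯ K
  apply eq_zero_of_kills (A := k⟮z⟯) d
  rintro ⟨x, hx⟩
  change d x = 0
  induction hx using IntermediateField.adjoin_induction with
  | mem x hx => rw [Set.mem_singleton_iff.1 hx, hd]
  | algebraMap x => exact d.map_algebraMap x
  | add x y _ _ hx hy => rw [map_add, hx, hy, add_zero]
  | inv x _ hx => rw [Derivation.leibniz_inv, hx, smul_zero]
  | mul x y _ _ hx hy => rw [Derivation.leibniz, hx, hy, smul_zero, smul_zero, add_zero]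

/-- Powers of exponent prime to the characteristic. -/
theorem DGen.pow {z : K} (h : DGen k z) (hz : z ≠ 0) {m : ℕ} (hm : (m : k) ≠ 0) : DGen k (z ^ m) := by
  intro M _ _ _ _ d hd
  apply h M d
  rw [Derivation.leibniz_pow] at hd
  have h1 : (m : K) ≠ 0 := by
    rw [← map_natCast (algebraMap k K)]
    exact (map_ne_zero _).2 hm
  have h2 : ((m : K) * z ^ (m - 1)) • d z = 0 := by
    rw [← hd, mul_smul, Nat.cast_smul_eq_nsmul]
  exact (smul_eq_zero.1 h2).resolve_left (mul_ne_zero h1 (pow_ne_zero _ hz))

/-- A differential generator gives an unramified extension of the polynomial ring. -/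
theorem DGen.formallyUnramified [Algebra k[X] K] [IsScalarTower k k[X] K]
    (h : DGen k (algebraMap k[X] K Polynomial.X)) : Algebra.FormallyUnramified k[X] K := by
  have h1 : (KaehlerDifferential.D k[X] K).restrictScalars k = 0 := by
    apply h
    exact (KaehlerDifferential.D k[X] K).map_algebraMap _
  refine ⟨⟨fun a b => ?_⟩⟩
  have h2 : ∀ w : Ω[K⁄k[X]], w = 0 := by
    intro w
    have hw : w ∈ Submodule.span K (Set.range (KaehlerDifferential.D k[X] K)) := by
      rw [KaehlerDifferential.span_range_derivation]; trivial
    induction hw using Submodule.span_induction with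
    | mem x hx =>
      obtain ⟨y, rfl⟩ := hx
      exact congrArg (fun e : Derivation k K (Ω[K⁄k[X]]) => e y) h1
    | zero => rfl
    | add x y _ _ hx hy => rw [hx, hy, add_zero]
    | smul r x _ hx => rw [hx, smul_zero]
  rw [h2 a, h2 b]

theorem DGen.formallyEtale [Algebra k[X] K] [IsScalarTower k k[X] K] [FaithfulSMul k[X] K]
    [Algebra.EssFiniteType k[X] K]
    (h : DGen k (algebraMap k[X] K Polynomial.X)) : Algebra.FormallyEtale k[X] K := by
  have h1 := h.formallyUnramified
  let F := FractionRing k[X]
  let _ : Algebra F K := FractionRing.liftAlgebra k[X] K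
  have h2 : IsScalarTower k[X] F K := inferInstance
  have h3 : Algebra.FormallyUnramified F K := Algebra.FormallyUnramified.of_restrictScalars k[X] F K
  have h4 : Algebra.EssFiniteType F K := Algebra.EssFiniteType.of_comp k[X] F K
  have h5 : Algebra.IsSeparable F K := Algebra.FormallyUnramified.isSeparable F K
  have h6 : Algebra.FormallyEtale F K := Algebra.FormallyEtale.of_isSeparable F K
  have h7 : Algebra.FormallyEtale k[X] F := Algebra.FormallyEtale.of_isLocalization (nonZeroDivisors k[X])
  exact Algebra.FormallyEtale.comp k[X] F K

end K978.Sep
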