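import Groth.Agent.Curves.K978.UnrData
import Mathlib.Algebra.Polynomial.Derivation
import Mathlib.RingTheory.Etale.Kaehler
import Mathlib.RingTheory.Unramified.Finite
import Mathlib.RingTheory.Algebraic.Integral
import Mathlib.RingTheory.Flat.TorsionFree
import Mathlib.RingTheory.PrincipalIdealDomain

/-!
# Existence of unramified data for a finite separable extension of `k[X]`
-/

set_option autoImplicit false

open scoped TensorProduct Polynomial

namespace K978.UnrExist

universe u

open Unr

section field

variable (k K : Type u) [Field k] [Field K] [Algebra k K] [Algebra k[X] K] [IsScalarTower k k[X] K]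
  [Algebra.FormallyEtale k[X] K]

/-- The extension of the derivation `d/dX` to an étale extension of `k(X)`. -/
theorem exists_derivation : ∃ D : Derivation k K K, ∀ p : k[X],
    D (algebraMap k[X] K p) = algebraMap k[X] K (Polynomial.derivative p) := by
  let δ : Derivation k k[X] K := Polynomial.mkDerivation k (1 : K)
  have hbc := KaehlerDifferential.isBaseChange_of_formallyEtale k k[X] K
  let L : Ω[K⁄k] →ₗ[K] K := hbc.lift δ.liftKaehlerDifferential
  refine ⟨L.compDer (KaehlerDifferential.D k K), fun p => ?_⟩
  have h1 : KaehlerDifferential.D k K (algebraMap k[X] K p) =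
      KaehlerDifferential.map k k k[X] K (KaehlerDifferential.D k k[X] p) := by
    rw [KaehlerDifferential.map_D]
  change L (KaehlerDifferential.D k K (algebraMap k[X] K p)) = _
  rw [h1]
  have h2 := hbc.lift_eq δ.liftKaehlerDifferential (KaehlerDifferential.D k k[X] p)
  refine h2.trans ?_
  rw [Derivation.liftKaehlerDifferential_comp_D, Polynomial.mkDerivation_apply, Algebra.smul_def, mul_one]

end field

section

variable (k B K : Type u) [Field k] [CommRing B] [IsDomain B] [Algebra k B] [Algebra k[X] B] [IsScalarTower k k[X] B]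
  [Module.Finite k[X] B] [FaithfulSMul k[X] B] [Field K] [Algebra B K] [IsFractionRing B K] [Algebra k K]
  [Algebra k[X] K] [IsScalarTower k k[X] K] [IsScalarTower k[X] B K] [IsScalarTower k B K]

omit [Algebra k B] [IsScalarTower k k[X] B] [IsScalarTower k B K] [Algebra k K] [IsScalarTower k k[X] K] in
/-- Denominators may be taken in `k[X]`. -/
theorem exists_mul (x : K) : ∃ s : k[X], s ≠ 0 ∧ ∃ b : B, algebraMap k[X] K s * x = algebraMap B K b := by
  obtain ⟨⟨b, s⟩, h⟩ := IsLocalizedModule.surj (nonZeroDivisors k[X])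
    (IsScalarTower.toAlgHom k[X] B K).toLinearMap x
  refine ⟨s.1, nonZeroDivisors.ne_zero s.2, b, ?_⟩
  rw [← Algebra.smul_def]
  exact h

omit [Algebra k B] [IsScalarTower k k[X] B] [IsScalarTower k B K] [Algebra k K] [IsScalarTower k k[X] K] in
theorem exists_mul_tensor (t : K ⊗[k[X]] K) : ∃ s : k[X], s ≠ 0 ∧ ∃ z : B ⊗[k[X]] B,
    s • t = Algebra.TensorProduct.map (IsScalarTower.toAlgHom k[X] B K) (IsScalarTower.toAlgHom k[X] B K) z := by
  induction t using TensorProduct.induction_on with
  | zero => exact ⟨1, one_ne_zero, 0, by simp⟩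
  | tmul x y =>
    obtain ⟨s, hs, b, hb⟩ := exists_mul k B K x
    obtain ⟨s', hs', b', hb'⟩ := exists_mul k B K y
    refine ⟨s * s', mul_ne_zero hs hs', b ⊗ₜ b', ?_⟩
    rw [Algebra.TensorProduct.map_tmul]
    change _ = (algebraMap B K b) ⊗ₜ[k[X]] (algebraMap B K b')
    rw [← hb, ← hb', ← Algebra.smul_def, ← Algebra.smul_def, TensorProduct.smul_tmul_smul]
  | add x y hx hy =>
    obtain ⟨s, hs, b, hb⟩ := hx
    obtain ⟨s', hs', b', hb'⟩ := hy
    refine ⟨s * s', mul_ne_zero hs hs', s' • b + s • b', ?_⟩
    rw [map_add, map_smul, map_smul, ← hb, ← hb', smul_add, smul_smul, smul_smul, mul_comm s s']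

omit [Algebra k B] [IsScalarTower k k[X] B] [IsScalarTower k B K] [Algebra k K] [IsScalarTower k k[X] K]
  [Module.Finite k[X] B] in
theorem map_injective : Function.Injective
    (Algebra.TensorProduct.map (IsScalarTower.toAlgHom k[X] B K) (IsScalarTower.toAlgHom k[X] B K)) := by
  have hB : Module.IsTorsionFree k[X] B := inferInstance
  have hBK : Function.Injective (algebraMap B K) := IsFractionRing.injective B K
  have hK : FaithfulSMul k[X] K := by
    rw [faithfulSMul_iff_algebraMap_injective, IsScalarTower.algebraMap_eq k[X] B K]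
    exact hBK.comp (FaithfulSMul.algebraMap_injective k[X] B)
  have hK' : Module.IsTorsionFree k[X] K := inferInstance
  have hBf : Module.Flat k[X] B := inferInstance
  have hKf : Module.Flat k[X] K := inferInstance
  let ι : B →ₗ[k[X]] K := (IsScalarTower.toAlgHom k[X] B K).toLinearMap
  have hι : Function.Injective ι := hBK
  have h1 : Function.Injective (TensorProduct.map ι ι) := by
    have h2 : TensorProduct.map ι ι = (ι.lTensor K) ∘ₗ (ι.rTensor B) := by
      ext x y; simp
    rw [h2]
    exact (Module.Flat.lTensor_preserves_injective_linearMap ι hι).comp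
      (Module.Flat.rTensor_preserves_injective_linearMap ι hι)
  exact h1

omit [IsScalarTower k k[X] B] in
/-- **Existence of unramified data.** -/
theorem exists_unrData [Algebra.FormallyEtale k[X] K] : Nonempty (UnrData k B) := by
  have hBK : Function.Injective (algebraMap B K) := IsFractionRing.injective B K
  -- the diagonal element
  have hess : Algebra.EssFiniteType k[X] K := by
    have h1 : Algebra.EssFiniteType B K := Algebra.EssFiniteType.of_isLocalization K (nonZeroDivisors B)
    exact Algebra.EssFiniteType.comp k[X] B K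
  obtain ⟨t, ht1, ht2⟩ := (Algebra.FormallyUnramified.iff_exists_tensorProduct (R := k[X]) (S := K)).1 inferInstance
  obtain ⟨s1, hs1, z, hz⟩ := exists_mul_tensor k B K t
  have hz1 : Algebra.TensorProduct.lmul' k[X] z = algebraMap k[X] B s1 := by
    apply hBK
    have h1 : ∀ w : B ⊗[k[X]] B, algebraMap B K (Algebra.TensorProduct.lmul' k[X] w) =
        Algebra.TensorProduct.lmul' k[X] (Algebra.TensorProduct.map (IsScalarTower.toAlgHom k[X] B K)
          (IsScalarTower.toAlgHom k[X] B K) w) := by
      intro w
      induction w using TensorProduct.induction_on with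
      | zero => simp
      | tmul x y => simp
      | add x y hx hy => rw [map_add, map_add, hx, hy, map_add, map_add]
    rw [h1, ← hz, map_smul, ht2, Algebra.smul_def, mul_one, ← IsScalarTower.algebraMap_apply]
  have hz2 : ∀ b : B, (b ⊗ₜ[k[X]] (1 : B) - (1 : B) ⊗ₜ[k[X]] b) * z = 0 := by
    intro b
    apply map_injective k B K
    rw [map_zero, map_mul, ← hz, map_sub, Algebra.TensorProduct.map_tmul, Algebra.TensorProduct.map_tmul, map_one]
    have h1 := ht1 (algebraMap B K b)
    rw [mul_smul_comm]
    have h2 : ((algebraMap B K b) ⊗ₜ[k[X]] (1 : K) - (1 : K) ⊗ₜ[k[X]] (algebraMap B K b)) * t = 0 := by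
      rw [← neg_sub, neg_mul, h1, neg_zero]
    change s1 • (((algebraMap B K b) ⊗ₜ[k[X]] (1 : K) - (1 : K) ⊗ₜ[k[X]] (algebraMap B K b)) * t) = 0
    rw [h2, smul_zero]
  -- the derivation
  obtain ⟨D, hD⟩ := exists_derivation k K
  have hfin : ∃ s2 : k[X], s2 ≠ 0 ∧ ∀ b : B, ∃ c : B, algebraMap k[X] K s2 * D (algebraMap B K b) = algebraMap B K c := by
    have hN : (⊤ : Submodule k[X] B).FG := Module.Finite.fg_top
    obtain ⟨S, hS⟩ := hN
    choose σ hσ c hc using fun b : B => exists_mul k B K (D (algebraMap B K b))
    refine ⟨∏ b ∈ S, σ b, Finset.prod_ne_zero_iff.2 fun b _ => hσ b, fun b => ?_⟩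
    have hb : b ∈ Submodule.span k[X] (S : Set B) := by rw [hS]; trivial
    induction hb using Submodule.span_induction with
    | mem x hx =>
      obtain ⟨r, hr⟩ := Finset.dvd_prod_of_mem σ (Finset.mem_coe.1 hx)
      refine ⟨algebraMap k[X] B r * c x, ?_⟩
      rw [hr, map_mul, map_mul, ← hc x, ← IsScalarTower.algebraMap_apply]
      ring
    | zero => exact ⟨0, by simp⟩
    | add x y _ _ hx hy =>
      obtain ⟨x', hx'⟩ := hx
      obtain ⟨y', hy'⟩ := hy
      exact ⟨x' + y', by rw [map_add, map_add, mul_add, hx', hy', map_add]⟩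
    | smul r x _ hx =>
      obtain ⟨x', hx'⟩ := hx
      refine ⟨algebraMap k[X] B r * x' + algebraMap k[X] B (∏ b ∈ S, σ b) * (x * algebraMap k[X] B (Polynomial.derivative r)), ?_⟩
      rw [Algebra.smul_def, map_mul, Derivation.leibniz, smul_eq_mul, smul_eq_mul, ← IsScalarTower.algebraMap_apply k[X] B K,
        hD, map_add, map_mul, map_mul, map_mul, ← hx', ← IsScalarTower.algebraMap_apply k[X] B K,
        ← IsScalarTower.algebraMap_apply k[X] B K, ← IsScalarTower.algebraMap_apply k[X] B K]
      ring
  obtain ⟨s2, hs2, hc⟩ := hfin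
  choose c hc using hc
  let L : B →ₗ[k] B :=
    { toFun := c
      map_add' := fun x y => hBK (by rw [← hc, map_add, map_add, map_add, mul_add, hc, hc])
      map_smul' := fun r x => hBK (by
        rw [← hc, Algebra.smul_def, map_mul, Derivation.leibniz, smul_eq_mul, smul_eq_mul,
          ← IsScalarTower.algebraMap_apply k B K, Derivation.map_algebraMap, mul_zero, add_zero,
          RingHom.id_apply, Algebra.smul_def, map_mul, ← hc, ← IsScalarTower.algebraMap_apply k B K]
        ring) }
  let DB : Derivation k B B := Derivation.mk' L (fun x y => hBK (by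
    change algebraMap B K (c (x * y)) = algebraMap B K (x * c y + y * c x)
    rw [← hc, map_mul, Derivation.leibniz, smul_eq_mul, smul_eq_mul, map_add, map_mul, map_mul, ← hc, ← hc]
    ring))
  have hDB : ∀ b, algebraMap B K (DB b) = algebraMap k[X] K s2 * D (algebraMap B K b) := fun b => (hc b).symm
  refine ⟨⟨s1 * s2, mul_ne_zero hs1 hs2, (algebraMap k[X] B s1) • DB, hBK ?_, s2 • z, ?_, fun b => ?_⟩⟩
  · have h0 : algebraMap B K (gX k B) = algebraMap k[X] K Polynomial.X :=
      (IsScalarTower.algebraMap_apply k[X] B K _).symm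
    rw [Derivation.smul_apply, smul_eq_mul, map_mul, hDB, h0, hD, ← IsScalarTower.algebraMap_apply k[X] B K,
      ← IsScalarTower.algebraMap_apply k[X] B K, Polynomial.derivative_X, map_one, mul_one, map_mul]
  · rw [map_smul, hz1, Algebra.smul_def, ← map_mul, mul_comm]
  · rw [mul_smul_comm, hz2, smul_zero]

end

end K978.UnrExist
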