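import Groth.Agent.Curves.K978.GoodVec
import Groth.Agent.Curves.K978.UnrExist
import Groth.Agent.Curves.K978.Sep
import Groth.Agent.Curves.K978.Jets

/-!
# Good pairs of functions on an affine curve

`Good g h`: the map `(g, h)` to the plane has only unramified branches, at most two branches at every point, and at
points with two branches these are transversal; moreover some point is alone in its fibre.
-/

set_option autoImplicit false

open scoped Polynomial

namespace K978.GoodFun

universe u v

open Unr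

/-- The map `(g, h)` to the plane has only smooth points and nodes. -/
structure Good {k : Type u} {B : Type v} [Field k] [CommRing B] [Algebra k B] (g h : B) : Prop where
  tan : ∀ P : B →ₐ[k] k, g - algebraMap k B (P g) ∈ RingHom.ker P ^ 2 → h - algebraMap k B (P h) ∉ RingHom.ker P ^ 2
  pair : ∀ P Q : B →ₐ[k] k, P ≠ Q → P g = Q g → P h = Q h → ∃ α β : k,
    algebraMap k B α * (g - algebraMap k B (P g)) + algebraMap k B β * (h - algebraMap k B (P h)) ∈ RingHom.ker Q ^ 2 ∧
    algebraMap k B α * (g - algebraMap k B (P g)) + algebraMap k B β * (h - algebraMap k B (P h)) ∉ RingHom.ker P ^ 2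
  triple : ∀ P Q R : B →ₐ[k] k, P ≠ Q → Q ≠ R → P ≠ R → P g = Q g → Q g = R g → P h = Q h → Q h ≠ R h
  bir : ∃ P₀ : B →ₐ[k] k, g - algebraMap k B (P₀ g) ∉ RingHom.ker P₀ ^ 2 ∧
    ∀ Q : B →ₐ[k] k, Q ≠ P₀ → Q g = P₀ g → Q h ≠ P₀ h

/-- **Existence of good functions** in a space containing the cubics in generators. -/
theorem exists_good {k B K W : Type u} [Field k] [IsAlgClosed k] [CommRing B] [IsDomain B] [Algebra k B] [Field K]
    [Algebra B K] [IsFractionRing B K] [Algebra k K] [IsScalarTower k B K] [AddCommGroup W] [Module k W] (g : B)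
    (hfin : (Polynomial.eval₂RingHom (algebraMap k B) g).Finite) (htr : Transcendental k g)
    (hgen : Sep.DGen k (algebraMap B K g)) (S : Submodule k B) (h1S : (1 : B) ∈ S)
    (hadj : Algebra.adjoin k (S : Set B) = ⊤) (ι : W →ₗ[k] B)
    (hι : ∀ x ∈ S, ∀ y ∈ S, ∀ z ∈ S, x * y * z ∈ LinearMap.range ι)
    (F : Set (Submodule k W)) (hF : F.Finite) (hFt : ∀ V ∈ F, V ≠ ⊤) :
    ∃ w, (∀ V ∈ F, w ∉ V) ∧ Good (k := k) g (ι w) := by
  let _ : Algebra k[X] B := (Polynomial.eval₂RingHom (algebraMap k B) g).toAlgebra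
  let _ : Algebra k[X] K := ((algebraMap B K).comp (Polynomial.eval₂RingHom (algebraMap k B) g)).toAlgebra
  have hX : algebraMap k[X] B Polynomial.X = g := by
    change Polynomial.eval₂ (algebraMap k B) g Polynomial.X = g
    rw [Polynomial.eval₂_X]
  have t1 : IsScalarTower k k[X] B := IsScalarTower.of_algebraMap_eq fun c => by
    change _ = Polynomial.eval₂ (algebraMap k B) g (Polynomial.C c)
    rw [Polynomial.eval₂_C]
  have t2 : IsScalarTower k[X] B K := IsScalarTower.of_algebraMap_eq fun p => rfl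
  have t3 : IsScalarTower k k[X] K := IsScalarTower.of_algebraMap_eq fun c => by
    rw [IsScalarTower.algebraMap_apply k[X] B K, ← IsScalarTower.algebraMap_apply k k[X] B,
      ← IsScalarTower.algebraMap_apply k B K]
  have hmf : Module.Finite k[X] B := hfin
  have hfs : FaithfulSMul k[X] B := by
    rw [faithfulSMul_iff_algebraMap_injective]
    rw [transcendental_iff_injective] at htr
    exact htr
  have hfsK : FaithfulSMul k[X] K := by
    rw [faithfulSMul_iff_algebraMap_injective, IsScalarTower.algebraMap_eq k[X] B K]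
    exact (IsFractionRing.injective B K).comp (FaithfulSMul.algebraMap_injective k[X] B)
  have hess : Algebra.EssFiniteType k[X] K := by
    have h1 : Algebra.EssFiniteType B K := Algebra.EssFiniteType.of_isLocalization K (nonZeroDivisors B)
    exact Algebra.EssFiniteType.comp k[X] B K
  have hgen' : Sep.DGen k (algebraMap k[X] K Polynomial.X) := by
    rw [IsScalarTower.algebraMap_apply k[X] B K, hX]
    exact hgen
  have het : Algebra.FormallyEtale k[X] K := hgen'.formallyEtale
  obtain ⟨d⟩ := UnrExist.exists_unrData k B K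
  have hft : Algebra.FiniteType k B := GoodVec.finiteType
  have hN : IsNoetherianRing B := Algebra.FiniteType.isNoetherianRing k B
  have hnf : ¬ IsField B := by
    intro h
    have h1 : IsField k[X] := isField_of_isIntegral_of_isField (FaithfulSMul.algebraMap_injective k[X] B) h
    exact Polynomial.not_isField k h1
  have hgX : gX k B = g := hX
  have hι' : ∀ x ∈ S, ∃ w, ι w = x := by
    intro x hx
    obtain ⟨w, hw⟩ := hι x hx 1 h1S 1 h1S
    exact ⟨w, by rw [hw, mul_one, mul_one]⟩
  obtain ⟨w, hw1, hw2, hw3, hw4, hw5⟩ := GoodVec.exists_good (k := k) (B := B) (W := W) d ι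
    (fun P Q hPQ => by
      obtain ⟨x, hx, hne⟩ := Jets.exists_sep hadj hPQ
      obtain ⟨w, rfl⟩ := hι' x hx
      exact ⟨w, hne⟩)
    (fun P Q hPQ => by
      obtain ⟨_, ⟨w, rfl⟩, h1⟩ := Jets.jet2 hnf h1S hadj hι P Q hPQ
      exact ⟨w, h1⟩)
    (fun P Q R _ hQR hPR => by
      obtain ⟨_, ⟨w, rfl⟩, h1⟩ := Jets.jet3 h1S hadj hι P Q R hQR hPR
      exact ⟨w, h1⟩)
    (fun P => by
      obtain ⟨x, hx, h1⟩ := Jets.exists_tangent hnf h1S hadj P
      obtain ⟨w, rfl⟩ := hι' x hx
      exact ⟨w, h1⟩) F hF hFt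
  rw [hgX] at hw2 hw3 hw4 hw5
  exact ⟨w, hw1, ⟨hw2, hw3, hw4, hw5⟩⟩

end K978.GoodFun
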