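import Mathlib.AlgebraicGeometry.Morphisms.ClosedImmersion
import Groth.Agent.CycA.MovVec

/-!
# A surjective morphism which is an isomorphism over a basic open set
-/

set_option autoImplicit false

universe u

open CategoryTheory CategoryTheory.Limits AlgebraicGeometry TopologicalSpace Opposite

namespace K978.IsoRestrict

variable {X Y : Scheme.{u}} (φ : X ⟶ Y)

theorem surjective_app {W : Y.Opens} (hV : IsAffineOpen (φ ⁻¹ᵁ W)) (r : Γ(Y, W))
    (hr : ∀ b : Γ(X, φ ⁻¹ᵁ W), ∃ a, φ.app W r * b = φ.app W a) :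
    Function.Surjective (φ.app (Y.basicOpen r)) := by
  intro t
  have hpre : φ ⁻¹ᵁ Y.basicOpen r = X.basicOpen (φ.app W r) := Scheme.preimage_basicOpen φ r
  have hloc := hV.isLocalization_basicOpen (φ.app W r)
  let t' : Γ(X, X.basicOpen (φ.app W r)) := X.presheaf.map (eqToHom hpre.symm).op t
  obtain ⟨⟨b, s⟩, hs⟩ := IsLocalization.surj (M := Submonoid.powers (φ.app W r)) t'
  obtain ⟨n, hn⟩ := s.2
  dsimp only at hn hs
  rw [← hn] at hs
  obtain ⟨a, ha⟩ := hr b
  -- the candidate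
  have hle : Y.basicOpen r ≤ W := Y.basicOpen_le r
  have hu : IsUnit (Y.presheaf.map (homOfLE hle).op r) := RingedSpace.isUnit_res_basicOpen _ r
  obtain ⟨u, hu⟩ := hu
  refine ⟨Y.presheaf.map (homOfLE hle).op a * ((u⁻¹ : (Γ(Y, Y.basicOpen r))ˣ) : Γ(Y, Y.basicOpen r)) ^ (n + 1), ?_⟩
  have hleX : φ ⁻¹ᵁ Y.basicOpen r ≤ φ ⁻¹ᵁ W := φ.preimage_mono hle
  have hnat : ∀ c : Γ(Y, W), φ.app (Y.basicOpen r) (Y.presheaf.map (homOfLE hle).op c) =
      X.presheaf.map (homOfLE hleX).op (φ.app W c) := fun c => congr(($(φ.naturality (homOfLE hle).op)).hom c)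
  -- the identity for `t`
  have ht : t * X.presheaf.map (homOfLE hleX).op (φ.app W r) ^ n = X.presheaf.map (homOfLE hleX).op b := by
    have h1 := congrArg (X.presheaf.map (eqToHom hpre).op) hs
    rw [map_mul] at h1
    have h2 : X.presheaf.map (eqToHom hpre).op t' = t := by
      change (X.presheaf.map (eqToHom hpre.symm).op ≫ X.presheaf.map (eqToHom hpre).op) t = t
      rw [← X.presheaf.map_comp, ← op_comp, eqToHom_trans, eqToHom_refl, op_id, X.presheaf.map_id]
      rfl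
    have h3 : ∀ c : Γ(X, φ ⁻¹ᵁ W), X.presheaf.map (eqToHom hpre).op
        (algebraMap Γ(X, φ ⁻¹ᵁ W) Γ(X, X.basicOpen (φ.app W r)) c) = X.presheaf.map (homOfLE hleX).op c := by
      intro c
      change (X.presheaf.map (homOfLE (X.basicOpen_le _)).op ≫ X.presheaf.map (eqToHom hpre).op) c = _
      rw [← X.presheaf.map_comp]
      rfl
    rw [h2, h3, h3, map_pow] at h1
    exact h1
  set ρ : Γ(X, φ ⁻¹ᵁ Y.basicOpen r) := X.presheaf.map (homOfLE hleX).op (φ.app W r) with hρ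
  have hρu : ρ * φ.app (Y.basicOpen r) ((u⁻¹ : (Γ(Y, Y.basicOpen r))ˣ) : Γ(Y, Y.basicOpen r)) = 1 := by
    rw [hρ, ← hnat, ← hu, ← map_mul, Units.mul_inv, map_one]
  have hab : ρ * X.presheaf.map (homOfLE hleX).op b = X.presheaf.map (homOfLE hleX).op (φ.app W a) := by
    rw [hρ, ← map_mul, ha]
  rw [map_mul, map_pow, hnat, ← hab, ← ht]
  calc ρ * (t * ρ ^ n) * φ.app (Y.basicOpen r) ((u⁻¹ : (Γ(Y, Y.basicOpen r))ˣ) : Γ(Y, Y.basicOpen r)) ^ (n + 1)
      = t * (ρ * φ.app (Y.basicOpen r) ((u⁻¹ : (Γ(Y, Y.basicOpen r))ˣ) : Γ(Y, Y.basicOpen r))) ^ (n + 1) := by ring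
    _ = t := by rw [hρu, one_pow, mul_one]

/-- If sections become sections from below after multiplication by `r`, the morphism is an isomorphism over `D(r)`. -/
theorem isIso_restrict [Surjective φ] [IsReduced Y] {W : Y.Opens} (hW : IsAffineOpen W)
    (hV : IsAffineOpen (φ ⁻¹ᵁ W)) (r : Γ(Y, W))
    (hr : ∀ b : Γ(X, φ ⁻¹ᵁ W), ∃ a, φ.app W r * b = φ.app W a) : IsIso (φ ∣_ Y.basicOpen r) := by
  have hsurj := surjective_app φ hV r hr
  have hU : IsAffineOpen (Y.basicOpen r) := hW.basicOpen r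
  have hU' : IsAffineOpen (φ ⁻¹ᵁ Y.basicOpen r) := by
    rw [Scheme.preimage_basicOpen]
    exact hV.basicOpen _
  have : IsAffine (Y.basicOpen r) := hU
  have : IsAffine (φ ⁻¹ᵁ Y.basicOpen r) := hU'
  have hcl : IsClosedImmersion (φ ∣_ Y.basicOpen r) := by
    apply IsClosedImmersion.of_surjective_of_isAffine
    have h1 := Groth.Agent.CycA.MovVec.VecData.topIso_inv_morphismRestrict φ (Y.basicOpen r)
    have h2 : (φ ∣_ Y.basicOpen r).appTop = (Y.basicOpen r).topIso.hom ≫ φ.app (Y.basicOpen r) ≫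
        (φ ⁻¹ᵁ Y.basicOpen r).topIso.inv := by
      rw [← h1, Iso.hom_inv_id_assoc]
    rw [h2]
    exact (((ConcreteCategory.bijective_of_isIso (φ ⁻¹ᵁ Y.basicOpen r).topIso.inv).2).comp hsurj).comp
      (ConcreteCategory.bijective_of_isIso (Y.basicOpen r).topIso.hom).2
  have : IsReduced (Y.basicOpen r : Scheme.{u}) := inferInstance
  have : Surjective (φ ∣_ Y.basicOpen r) :=
    MorphismProperty.of_isPullback (isPullback_morphismRestrict φ (Y.basicOpen r)).flip inferInstance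
  exact isIso_of_isClosedImmersion_of_surjective _

end K978.IsoRestrict
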