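import Groth.Agent.Curves.K978.NodeAt
import Groth.Agent.Curves.K978.GoodFun
import Groth.Agent.Curves.K978.IsoRestrict

/-!
# The two charts of the plane model
-/

set_option autoImplicit false
set_option backward.isDefEq.respectTransparency.types false

universe u

open CategoryTheory CategoryTheory.Limits AlgebraicGeometry TopologicalSpace Opposite IsLocalRing

namespace K978.Charts

open Groth.Agent.Picfga RegLocus CurvePts CurveChart
open Groth.Agent.Models.H73 NodeLocal4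

attribute [local instance] algK

variable {k : Type u} [Field k] {X Y : Scheme.{u}} [X.Over (Spec (CommRingCat.of k))]
  [Y.Over (Spec (CommRingCat.of k))] (φ : X ⟶ Y)
  (hφ : φ ≫ (Y ↘ Spec (CommRingCat.of k)) = X ↘ Spec (CommRingCat.of k))

include hφ in
theorem point_eq (W : Y.Opens) (V : X.Opens) (h : V ≤ φ ⁻¹ᵁ W) (p : Ideal Γ(Y, W)) (P Q : Γ(X, V) →ₐ[k] k)
    (hP : (RingHom.ker P).comap (φ.appLE W V h).hom = p) (hQ : (RingHom.ker Q).comap (φ.appLE W V h).hom = p)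
    (a : Γ(Y, W)) : P (φ.appLE W V h a) = Q (φ.appLE W V h a) := by
  let _ : Algebra Γ(Y, W) Γ(X, V) := (φ.appLE W V h).hom.toAlgebra
  have htower : IsScalarTower k Γ(Y, W) Γ(X, V) := IsScalarTower.of_algebraMap_eq fun c =>
    (NodeAt.appLE_algebraMap φ hφ W V h c).symm
  exact ChartNode.point_eq p P Q hP hQ a

theorem inj_appLE {P : Scheme.{u}} (Φ : X ⟶ P) [QuasiCompact Φ] (D : P.Opens) (hD : IsAffineOpen D) (V : X.Opens)
    (h : V = Φ.toImage ⁻¹ᵁ (Φ.imageι ⁻¹ᵁ D)) : Function.Injective (Φ.toImage.appLE (Φ.imageι ⁻¹ᵁ D) V h.le) := by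
  subst h
  rw [Scheme.Hom.appLE_eq_app]
  exact Φ.toImage_app_injective ⟨D, hD⟩

variable [IsAlgClosed k] [IsIntegral X] [IsLocallyNoetherian X] [IsFinite φ]
  [LocallyOfFiniteType (Y ↘ Spec (CommRingCat.of k))]
  (hval : ∀ x : X, ValuationRing (X.presheaf.stalk x)) (W : Y.Opens) (hW : IsAffineOpen W)
  (V : X.Opens) (hV : V = φ ⁻¹ᵁ W) (hnf : ¬ IsField Γ(X, V))
  (y : Y) (hy : y ∈ W) (hyc : IsClosed ({y} : Set Y)) (hinj : Function.Injective (φ.appLE W V hV.le))

include hφ hval hW hnf hy hyc hinj in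
theorem chart0 (α β : Γ(Y, W)) (good : GoodFun.Good (k := k) (φ.appLE W V hV.le α) (φ.appLE W V hV.le β)) :
    IsRegularLocalRing (Y.presheaf.stalk y) ∨ IsNodeLike (Y.presheaf.stalk y) := by
  have hc := NodeAt.appLE_algebraMap (k := k) φ hφ W V hV.le
  refine NodeAt.regular_or_nodeLike φ hφ hval W hW V hV hnf y hy hyc hinj ?_ ?_ ?_
  · intro P hP
    by_cases h : φ.appLE W V hV.le α - algebraMap k Γ(X, V) (P (φ.appLE W V hV.le α)) ∈ RingHom.ker P ^ 2
    · refine ⟨β - algebraMap k Γ(Y, W) (P (φ.appLE W V hV.le β)), ?_, ?_⟩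
      · rw [map_sub, map_sub, hc, AlgHom.commutes]
        simp
      · rw [map_sub, hc]
        exact good.tan P h
    · refine ⟨α - algebraMap k Γ(Y, W) (P (φ.appLE W V hV.le α)), ?_, ?_⟩
      · rw [map_sub, map_sub, hc, AlgHom.commutes]
        simp
      · rw [map_sub, hc]
        exact h
  · intro P Q hP hQ hPQ
    obtain ⟨c, d, h1, h2⟩ := good.pair P Q hPQ (point_eq φ hφ W V hV.le _ P Q hP hQ α)
      (point_eq φ hφ W V hV.le _ P Q hP hQ β)
    refine ⟨algebraMap k Γ(Y, W) c * (α - algebraMap k Γ(Y, W) (P (φ.appLE W V hV.le α))) +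
      algebraMap k Γ(Y, W) d * (β - algebraMap k Γ(Y, W) (P (φ.appLE W V hV.le β))), ?_, ?_, ?_⟩
    · rw [map_add, map_add, map_mul, map_mul, map_mul, map_mul, map_sub, map_sub, map_sub, map_sub, hc, hc, hc, hc,
        AlgHom.commutes, AlgHom.commutes, AlgHom.commutes, AlgHom.commutes]
      simp
    · rw [map_add, map_mul, map_mul, map_sub, map_sub, hc, hc, hc, hc]
      exact h2
    · rw [map_add, map_mul, map_mul, map_sub, map_sub, hc, hc, hc, hc]
      exact h1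
  · intro P Q R hP hQ hR
    by_contra hcon
    push Not at hcon
    exact good.triple P Q R hcon.1 hcon.2.1 hcon.2.2 (point_eq φ hφ W V hV.le _ P Q hP hQ α)
      (point_eq φ hφ W V hV.le _ Q R hQ hR α) (point_eq φ hφ W V hV.le _ P Q hP hQ β)
      (point_eq φ hφ W V hV.le _ Q R hQ hR β)

include hφ hval hW hnf hyc hinj in
theorem chart1 (α β : Γ(Y, W)) (hα : α ∈ (hW.primeIdealOf ⟨y, hy⟩).asIdeal)
    (pole1 : ∀ P : Γ(X, V) →ₐ[k] k, P (φ.appLE W V hV.le α) = 0 →
      φ.appLE W V hV.le β - algebraMap k Γ(X, V) (P (φ.appLE W V hV.le β)) ∉ RingHom.ker P ^ 2)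
    (pole2 : ∀ P Q : Γ(X, V) →ₐ[k] k, P (φ.appLE W V hV.le α) = 0 → Q (φ.appLE W V hV.le α) = 0 → P ≠ Q →
      P (φ.appLE W V hV.le β) ≠ Q (φ.appLE W V hV.le β)) :
    IsRegularLocalRing (Y.presheaf.stalk y) ∨ IsNodeLike (Y.presheaf.stalk y) := by
  have hc := NodeAt.appLE_algebraMap (k := k) φ hφ W V hV.le
  have hP0 : ∀ P : Γ(X, V) →ₐ[k] k, (RingHom.ker P).comap (φ.appLE W V hV.le).hom =
      (hW.primeIdealOf ⟨y, hy⟩).asIdeal → P (φ.appLE W V hV.le α) = 0 := by
    intro P hP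
    rw [← hP] at hα
    exact hα
  refine NodeAt.regular_or_nodeLike φ hφ hval W hW V hV hnf y hy hyc hinj ?_ ?_ ?_
  · intro P hP
    refine ⟨β - algebraMap k Γ(Y, W) (P (φ.appLE W V hV.le β)), ?_, ?_⟩
    · rw [map_sub, map_sub, hc, AlgHom.commutes]
      simp
    · rw [map_sub, hc]
      exact pole1 P (hP0 P hP)
  · intro P Q hP hQ hPQ
    exact absurd (point_eq φ hφ W V hV.le _ P Q hP hQ β) (pole2 P Q (hP0 P hP) (hP0 Q hQ) hPQ)
  · intro P Q R hP hQ hR
    left
    by_contra hPQ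
    exact pole2 P Q (hP0 P hP) (hP0 Q hQ) hPQ (point_eq φ hφ W V hV.le _ P Q hP hQ β)

include hφ hval hW hnf hinj in
/-- The plane model is birational to the curve. -/
theorem bir [Surjective φ] [IsReduced Y] (α β : Γ(Y, W))
    (good : GoodFun.Good (k := k) (φ.appLE W V hV.le α) (φ.appLE W V hV.le β)) :
    ∃ U : Y.Opens, (U : Set Y).Nonempty ∧ IsIso (φ ∣_ U) := by
  obtain ⟨P₀, hP1, hP2⟩ := good.bir
  have hc := NodeAt.appLE_algebraMap (k := k) φ hφ W V hV.le
  let _ : Algebra Γ(Y, W) Γ(X, V) := (φ.appLE W V hV.le).hom.toAlgebra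
  have htower : IsScalarTower k Γ(Y, W) Γ(X, V) := IsScalarTower.of_algebraMap_eq fun c => (hc c).symm
  have hft := NodeAt.finiteType_section (k := k) W hW
  have hfin : Module.Finite Γ(Y, W) Γ(X, V) := NodeAt.finite_appLE φ W hW V hV
  have hVa : IsAffineOpen V := by
    rw [hV]; exact hW.preimage φ
  have hmax : (RingHom.ker P₀).IsMaximal := PencilPts.ker_isMaximal P₀
  have hpm : ((RingHom.ker P₀).comap (algebraMap Γ(Y, W) Γ(X, V))).IsMaximal :=
    Ideal.isMaximal_comap_of_isIntegral_of_isMaximal (RingHom.ker P₀)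
  obtain ⟨r, hr, hrb⟩ := ChartNode.exists_notMem_mul (k := k)
    ((RingHom.ker P₀).comap (algebraMap Γ(Y, W) Γ(X, V))) P₀ rfl (fun q hq hqp => by
      refine NodeAt.dvr hval V hVa q hq ?_
      rintro rfl
      have hqm : (⊥ : Ideal Γ(X, V)).IsMaximal := Ideal.isMaximal_of_isIntegral_of_isMaximal_comap (R := Γ(Y, W)) _
        (by rw [hqp]; exact hpm)
      have hnt : Nontrivial Γ(X, V) := ⟨⟨0, 1, fun h => hqm.ne_top (by
        rw [Ideal.eq_top_iff_one, ← h]; exact Ideal.zero_mem _)⟩⟩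
      exact hnf (Ring.isField_iff_maximal_bot.2 hqm))
    ⟨α - algebraMap k Γ(Y, W) (P₀ (φ.appLE W V hV.le α)), by
      change P₀ (φ.appLE W V hV.le _) = 0
      rw [map_sub, map_sub, hc, AlgHom.commutes]
      simp, by
      change φ.appLE W V hV.le _ ∉ _
      rw [map_sub, hc]
      exact hP1⟩ (fun Q hQ => by
      by_contra hne
      exact hP2 Q hne (point_eq φ hφ W V hV.le _ Q P₀ hQ rfl α) (point_eq φ hφ W V hV.le _ Q P₀ hQ rfl β))
  have hr0 : r ≠ 0 := fun h => hr (by rw [h]; exact Ideal.zero_mem _)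
  refine ⟨Y.basicOpen r, ?_, ?_⟩
  · by_contra hcon
    rw [Set.not_nonempty_iff_eq_empty] at hcon
    have h1 : Y.basicOpen r = ⊥ := by
      ext1; exact hcon
    exact hr0 ((AlgebraicGeometry.basicOpen_eq_bot_iff r).1 h1)
  · subst hV
    refine IsoRestrict.isIso_restrict φ hW hVa r (fun b => ?_)
    obtain ⟨a, ha⟩ := hrb b
    refine ⟨a, ?_⟩
    rw [← Scheme.Hom.appLE_eq_app]
    exact ha

end K978.Charts
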