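import Groth.Agent.Curves.K978.Triple
import Groth.Agent.Curves.K978.PencilPts
import Mathlib.RingTheory.DedekindDomain.Basic
import Mathlib.RingTheory.PrincipalIdealDomain

/-!
# A general function on a curve finite over the line has only ordinary double values
-/

set_option autoImplicit false

open scoped TensorProduct Polynomial

namespace K978.GoodVec

universe u v w

open Unr Triple

variable {k : Type u} {B : Type v} {W : Type w} [Field k] [IsAlgClosed k] [CommRing B] [IsDomain B] [Algebra k B]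
  [Algebra k[X] B] [IsScalarTower k k[X] B] [Module.Finite k[X] B] [FaithfulSMul k[X] B]
  [AddCommGroup W] [Module k W]

omit [IsAlgClosed k] in
theorem poly_max (p : Ideal k[X]) (hp : p.IsPrime) (h : p ≠ ⊥) : p.IsMaximal :=
  Ring.DimensionLEOne.maximalOfPrime h hp

omit [FaithfulSMul k[X] B] [IsAlgClosed k] [IsDomain B] in
theorem finiteType : Algebra.FiniteType k B := Algebra.FiniteType.trans (S := k[X]) inferInstance inferInstance

omit [FaithfulSMul k[X] B] [IsAlgClosed k] in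
/-- Finitely many points kill a nonzero element. -/
theorem finite_points {b : B} (hb : b ≠ 0) : {P : B →ₐ[k] k | P b = 0}.Finite := by
  have hft : Algebra.FiniteType k B := finiteType
  have hN : IsNoetherianRing B := Algebra.FiniteType.isNoetherianRing k B
  have h1 := Pencil.finite_max (C := B) (Pencil.dim_of_integral (R := k[X]) poly_max) (Ideal.span {b}) (by
    intro p hp hle
    have h2 : p = ⊥ := by
      rw [IsDomain.minimalPrimes_eq_singleton_bot] at hp
      exact hp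
    rw [h2, Ideal.span_le] at hle
    exact hb (by simpa using hle))
  refine Set.Finite.of_finite_image (f := fun P : B →ₐ[k] k => RingHom.ker P) (h1.subset ?_) ?_
  · rintro _ ⟨P, hP, rfl⟩
    refine ⟨PencilPts.ker_isMaximal P, ?_⟩
    rw [Ideal.span_le]
    rintro x rfl
    exact hP
  · intro P _ Q _ hPQ
    apply AlgHom.ext
    intro x
    have h3 : x - algebraMap k B (P x) ∈ RingHom.ker P := by
      rw [RingHom.mem_ker, map_sub, AlgHom.commutes]
      simp
    have h4 : x - algebraMap k B (P x) ∈ RingHom.ker Q := by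
      have h5 : RingHom.ker P = RingHom.ker Q := hPQ
      rwa [← h5]
    rw [RingHom.mem_ker, map_sub, AlgHom.commutes, sub_eq_zero] at h4
    exact h4.symm

omit [FaithfulSMul k[X] B] in
/-- Some point does not kill a nonzero element. -/
theorem exists_point_ne {b : B} (hb : b ≠ 0) : ∃ P : B →ₐ[k] k, P b ≠ 0 := by
  have hft : Algebra.FiniteType k B := finiteType
  let C := Localization.Away b
  have : Nontrivial C := (IsLocalization.injective C
    (powers_le_nonZeroDivisors_of_noZeroDivisors hb)).nontrivial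
  have h0 : Algebra.FinitePresentation B C := IsLocalization.Away.finitePresentation b
  have hft2 : Algebra.FiniteType k C := Algebra.FiniteType.trans (S := B) inferInstance inferInstance
  obtain ⟨m, hm⟩ := Ideal.exists_maximal C
  obtain ⟨φ, -⟩ := PencilPts.exists_point (k := k) m
  refine ⟨φ.comp (IsScalarTower.toAlgHom k B C), ?_⟩
  exact ((IsLocalization.Away.algebraMap_isUnit (S := C) b).map φ).ne_zero

/-- **General functions are good.** -/
theorem exists_good (d : UnrData k B) (ι : W →ₗ[k] B)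
    (J1 : ∀ P Q : B →ₐ[k] k, P ≠ Q → ∃ w, P (ι w) ≠ Q (ι w))
    (J2 : ∀ P Q : B →ₐ[k] k, P ≠ Q →
      ∃ w, P (ι w) = 0 ∧ ι w ∉ RingHom.ker P ^ 2 ∧ ι w ∈ RingHom.ker Q ^ 2)
    (J3 : ∀ P Q R : B →ₐ[k] k, P ≠ Q → Q ≠ R → P ≠ R → ∃ w, P (ι w) = 0 ∧ Q (ι w) = 0 ∧ R (ι w) ≠ 0)
    (J4 : ∀ P : B →ₐ[k] k, ∃ w, P (ι w) = 0 ∧ ι w ∉ RingHom.ker P ^ 2)
    (F : Set (Submodule k W)) (hF : F.Finite) (hFt : ∀ V ∈ F, V ≠ ⊤) :
    ∃ w, (∀ V ∈ F, w ∉ V) ∧
      (∀ P : B →ₐ[k] k, gX k B - algebraMap k B (P (gX k B)) ∈ RingHom.ker P ^ 2 →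
        ι w - algebraMap k B (P (ι w)) ∉ RingHom.ker P ^ 2) ∧
      (∀ P Q : B →ₐ[k] k, P ≠ Q → P (gX k B) = Q (gX k B) → P (ι w) = Q (ι w) → ∃ α β : k,
        algebraMap k B α * (gX k B - algebraMap k B (P (gX k B))) +
          algebraMap k B β * (ι w - algebraMap k B (P (ι w))) ∈ RingHom.ker Q ^ 2 ∧
        algebraMap k B α * (gX k B - algebraMap k B (P (gX k B))) +
          algebraMap k B β * (ι w - algebraMap k B (P (ι w))) ∉ RingHom.ker P ^ 2) ∧
      (∀ P Q R : B →ₐ[k] k, P ≠ Q → Q ≠ R → P ≠ R → P (gX k B) = Q (gX k B) → Q (gX k B) = R (gX k B) →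
        P (ι w) = Q (ι w) → Q (ι w) ≠ R (ι w)) ∧
      ∃ P₀ : B →ₐ[k] k, gX k B - algebraMap k B (P₀ (gX k B)) ∉ RingHom.ker P₀ ^ 2 ∧
        ∀ Q : B →ₐ[k] k, Q ≠ P₀ → Q (gX k B) = P₀ (gX k B) → Q (ι w) ≠ P₀ (ι w) := by
  have hinj : Function.Injective (algebraMap k[X] B) := FaithfulSMul.algebraMap_injective _ _
  have hs0 : algebraMap k[X] B d.s ≠ 0 := (map_ne_zero_iff _ hinj).2 d.hs
  obtain ⟨P₀, hP₀⟩ := exists_point_ne (k := k) hs0
  have hP₀' : d.s.eval (P₀ (gX k B)) ≠ 0 := by rwa [point_algebraMap] at hP₀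
  -- the points over bad values
  have hbad := finite_points (k := k) hs0
  have hbadiff : ∀ P : B →ₐ[k] k, P ∈ {P : B →ₐ[k] k | P (algebraMap k[X] B d.s) = 0} ↔
      d.s.eval (P (gX k B)) = 0 := fun P => by
    rw [Set.mem_ofPred_eq, point_algebraMap]
  -- the points over the value of `P₀`
  have h0fin : {P : B →ₐ[k] k | P (gX k B) = P₀ (gX k B)}.Finite := by
    have h1 : gX k B - algebraMap k B (P₀ (gX k B)) ≠ 0 := by
      intro h
      have h2 : algebraMap k[X] B (Polynomial.X - Polynomial.C (P₀ (gX k B))) = 0 := by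
        rw [map_sub, ← Polynomial.algebraMap_eq, ← IsScalarTower.algebraMap_apply k k[X] B]
        exact h
      rw [map_eq_zero_iff _ hinj] at h2
      exact Polynomial.X_sub_C_ne_zero _ h2
    refine (finite_points (k := k) h1).subset fun P hP => ?_
    rw [Set.mem_ofPred_eq, map_sub, AlgHom.commutes, sub_eq_zero]
    exact hP
  -- subspaces
  let V1 : (B →ₐ[k] k) → Submodule k W := fun P =>
    ((RingHom.ker P ^ 2).restrictScalars k).comap (ι - Algebra.linearMap k B ∘ₗ P.toLinearMap ∘ₗ ι)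
  have hV1 : ∀ P w, w ∈ V1 P ↔ ι w - algebraMap k B (P (ι w)) ∈ RingHom.ker P ^ 2 := fun P w => Iff.rfl
  let V2 : (B →ₐ[k] k) × (B →ₐ[k] k) → Submodule k W := fun PQ =>
    LinearMap.ker (PQ.1.toLinearMap ∘ₗ ι - PQ.2.toLinearMap ∘ₗ ι)
  have hV2 : ∀ P Q w, w ∈ V2 (P, Q) ↔ P (ι w) = Q (ι w) := fun P Q w => by
    rw [LinearMap.mem_ker, LinearMap.sub_apply, sub_eq_zero]; rfl
  let F' : Set (Submodule k W) := F ∪ V1 '' {P : B →ₐ[k] k | P (algebraMap k[X] B d.s) = 0} ∪
    V2 '' (({P : B →ₐ[k] k | P (algebraMap k[X] B d.s) = 0} ×ˢ {P : B →ₐ[k] k | P (algebraMap k[X] B d.s) = 0}) ∩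
      {PQ | PQ.1 ≠ PQ.2}) ∪
    V2 '' (({P : B →ₐ[k] k | P (gX k B) = P₀ (gX k B)} ×ˢ {P : B →ₐ[k] k | P (gX k B) = P₀ (gX k B)}) ∩
      {PQ | PQ.1 ≠ PQ.2})
  have hF'fin : F'.Finite := ((hF.union (hbad.image _)).union
    (((hbad.prod hbad).subset Set.inter_subset_left).image _)).union
    (((h0fin.prod h0fin).subset Set.inter_subset_left).image _)
  have hF'top : ∀ V ∈ F', V ≠ ⊤ := by
    rintro V (((hV | ⟨P, hP, rfl⟩) | ⟨⟨P, Q⟩, ⟨-, hPQ⟩, rfl⟩) | ⟨⟨P, Q⟩, ⟨-, hPQ⟩, rfl⟩)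
    · exact hFt V hV
    · intro ht
      obtain ⟨w, hw1, hw2⟩ := J4 P
      have h1 : w ∈ V1 P := by rw [ht]; trivial
      rw [hV1, hw1, map_zero, sub_zero] at h1
      exact hw2 h1
    · intro ht
      obtain ⟨w, hw⟩ := J1 P Q hPQ
      have h1 : w ∈ V2 (P, Q) := by rw [ht]; trivial
      rw [hV2] at h1
      exact hw h1
    · intro ht
      obtain ⟨w, hw⟩ := J1 P Q hPQ
      have h1 : w ∈ V2 (P, Q) := by rw [ht]; trivial
      rw [hV2] at h1
      exact hw h1
  -- the pencil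
  let S : T k B := algebraMap k[X] (T k B) d.s
  let e12 := eps d (i1 k B) (i2 k B)
  let e23 := eps d (i2 k B) (i3 k B)
  let e13 := eps d (i1 k B) (i3 k B)
  let l1 : B →ₗ[k] T k B := ((i1 k B).restrictScalars k).toLinearMap
  let l2 : B →ₗ[k] T k B := ((i2 k B).restrictScalars k).toLinearMap
  let l3 : B →ₗ[k] T k B := ((i3 k B).restrictScalars k).toLinearMap
  let a : W →ₗ[k] T k B := (l1 - l2) ∘ₗ ι
  let b : W →ₗ[k] T k B := LinearMap.mulLeft k e13 ∘ₗ (l1 - l2) ∘ₗ (d.D : B →ₗ[k] B) ∘ₗ ι +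
    LinearMap.mulLeft k (S - e13) ∘ₗ (l2 - l3) ∘ₗ ι
  have ha : ∀ w, a w = i1 k B (ι w) - i2 k B (ι w) := fun w => rfl
  have hb : ∀ w, b w = e13 * (i1 k B (d.D (ι w)) - i2 k B (d.D (ι w))) +
    (S - e13) * (i2 k B (ι w) - i3 k B (ι w)) := fun w => rfl
  have hS : ∀ χ : T k B →ₐ[k] k, χ S = d.s.eval (res χ (i1 k B) (gX k B)) := fun χ => point_algebraMap' χ _ _
  have hχa : ∀ (χ : T k B →ₐ[k] k) w, χ (a w) = res χ (i1 k B) (ι w) - res χ (i2 k B) (ι w) := fun χ w => by
    rw [ha, map_sub]; rfl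
  have hχb1 : ∀ (χ : T k B →ₐ[k] k) w, res χ (i1 k B) = res χ (i3 k B) →
      χ (b w) = χ S * (res χ (i1 k B) (d.D (ι w)) - res χ (i2 k B) (d.D (ι w))) := fun χ w h => by
    have h1 : χ e13 = χ S := by rw [eps_of_eq d _ _ χ h, hS]
    rw [hb, map_add, map_mul, map_mul, map_sub, map_sub, h1, sub_self, zero_mul, add_zero]
    rfl
  have hχb2 : ∀ (χ : T k B →ₐ[k] k) w, res χ (i1 k B) ≠ res χ (i3 k B) →
      χ (b w) = χ S * (res χ (i2 k B) (ι w) - res χ (i3 k B) (ι w)) := fun χ w h => by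
    have h1 : χ e13 = 0 := eps_of_ne d _ _ χ h
    rw [hb, map_add, map_mul, map_mul, map_sub, map_sub χ S, h1, zero_mul, zero_add, sub_zero, map_sub]
    rfl
  have hftT : Algebra.FiniteType k (T k B) := Algebra.FiniteType.trans (S := k[X]) inferInstance inferInstance
  obtain ⟨w, hw1, hw2⟩ := PencilPts.exists_pencil_pts (k := k) (W := W) (T := T k B)
    (Pencil.dim_of_integral (R := k[X]) poly_max) (Ideal.span {e12, e23}) S a b (by
      intro χ hχI hχS
      have hPQ : res χ (i1 k B) ≠ res χ (i2 k B) := by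
        intro h
        have h1 := hχI e12 (Ideal.subset_span (by simp))
        rw [eps_of_eq d _ _ χ h, ← hS] at h1
        exact hχS h1
      have hQR : res χ (i2 k B) ≠ res χ (i3 k B) := by
        intro h
        have h1 := hχI e23 (Ideal.subset_span (by simp))
        rw [eps_of_eq d _ _ χ h, res_gX χ _ (i1 k B), ← hS] at h1
        exact hχS h1
      obtain ⟨w', hw'⟩ := J1 _ _ hPQ
      have hw'' : χ (a w') ≠ 0 := by rw [hχa]; exact sub_ne_zero.2 hw'
      by_cases hPR : res χ (i1 k B) = res χ (i3 k B)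
      · obtain ⟨w, hw1, hw2, hw3⟩ := J2 _ _ hPQ
        have hQ0 : res χ (i2 k B) (ι w) = 0 := by
          have : ι w ∈ RingHom.ker (res χ (i2 k B)) := Ideal.pow_le_self (by norm_num) hw3
          exact this
        refine ⟨w', w, ?_⟩
        have h1 : χ (a w) = 0 := by rw [hχa, hw1, hQ0, sub_zero]
        have h2 : χ (b w) ≠ 0 := by
          rw [hχb1 χ w hPR, deriv_mem d.D _ hw3, sub_zero]
          refine mul_ne_zero hχS (d.deriv_ne_zero _ ?_ hw1 hw2)
          rw [← hS]; exact hχS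
        rw [h1, zero_mul, sub_zero]
        exact mul_ne_zero hw'' h2
      · obtain ⟨w, hw1, hw2, hw3⟩ := J3 _ _ _ hPQ hQR hPR
        refine ⟨w', w, ?_⟩
        have h1 : χ (a w) = 0 := by rw [hχa, hw1, hw2, sub_zero]
        have h2 : χ (b w) ≠ 0 := by
          rw [hχb2 χ w hPR, hw2, zero_sub]
          exact mul_ne_zero hχS (neg_ne_zero.2 hw3)
        rw [h1, zero_mul, sub_zero]
        exact mul_ne_zero hw'' h2) F' hF'fin hF'top
  -- consequences
  have hwbad1 : ∀ P : B →ₐ[k] k, d.s.eval (P (gX k B)) = 0 → ι w - algebraMap k B (P (ι w)) ∉ RingHom.ker P ^ 2 :=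
    fun P hP hcon => hw1 (V1 P) (Or.inl (Or.inl (Or.inr ⟨P, (hbadiff P).2 hP, rfl⟩))) hcon
  have hwbad2 : ∀ P Q : B →ₐ[k] k, P ≠ Q → d.s.eval (P (gX k B)) = 0 → P (gX k B) = Q (gX k B) →
      P (ι w) ≠ Q (ι w) := by
    intro P Q hPQ hP hPQ' hcon
    refine hw1 (V2 (P, Q)) (Or.inl (Or.inr ⟨(P, Q), ⟨⟨(hbadiff P).2 hP, (hbadiff Q).2 ?_⟩, hPQ⟩, rfl⟩))
      ((hV2 P Q w).2 hcon)
    rw [← hPQ']; exact hP
  refine ⟨w, fun V hV => hw1 V (Or.inl (Or.inl (Or.inl hV))), ?_, ?_, ?_, P₀, d.coord_notMem P₀ hP₀', ?_⟩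
  · intro P hP
    refine hwbad1 P ?_
    by_contra hcon
    exact d.coord_notMem P hcon hP
  · intro P Q hPQ hg hw
    by_cases hs : d.s.eval (P (gX k B)) = 0
    · exact absurd hw (hwbad2 P Q hPQ hs hg)
    obtain ⟨χ, hχ1, hχ2, hχ3⟩ := exists_triple P Q P hg rfl
    have hD : P (d.D (ι w)) ≠ Q (d.D (ι w)) := by
      have h1 := hw2 χ (by
        intro x hx
        have h2 : Ideal.span {e12, e23} ≤ RingHom.ker χ := by
          rw [Ideal.span_le]
          rintro y (rfl | rfl)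
          · exact eps_of_ne d _ _ χ (by rw [hχ1, hχ2]; exact hPQ)
          · exact eps_of_ne d _ _ χ (by rw [hχ2, hχ3]; exact hPQ.symm)
        exact h2 hx) (by rw [hS, hχ1]; exact hs) (by rw [hχa, hχ1, hχ2, hw, sub_self])
      rw [hχb1 χ w (by rw [hχ1, hχ3]), hχ1, hχ2] at h1
      exact sub_ne_zero.1 (right_ne_zero_of_mul h1)
    refine ⟨- Q (d.D (ι w)), d.s.eval (P (gX k B)), ?_, ?_⟩
    · have h1 := d.taylor Q (by rw [← hg]; exact hs) (ι w)
      rw [← hg, ← hw] at h1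
      have h2 : algebraMap k B (-Q (d.D (ι w))) * (gX k B - algebraMap k B (P (gX k B))) +
          algebraMap k B (d.s.eval (P (gX k B))) * (ι w - algebraMap k B (P (ι w))) =
          algebraMap k B (d.s.eval (P (gX k B))) * (ι w - algebraMap k B (P (ι w))) -
            algebraMap k B (Q (d.D (ι w))) * (gX k B - algebraMap k B (P (gX k B))) := by
        rw [map_neg]; ring
      rw [h2]
      exact h1
    · intro hcon
      have h1 := deriv_mem d.D P hcon
      have hDc : ∀ (t : k) (x : B), d.D (algebraMap k B t * x) = algebraMap k B t * d.D x := by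
        intro t x
        rw [← Algebra.smul_def, Derivation.map_smul, Algebra.smul_def]
      have hDg : P (d.D (gX k B)) = d.s.eval (P (gX k B)) := by rw [d.hD, point_algebraMap]
      simp only [map_add, map_sub, hDc, deriv_const, sub_zero, map_mul, AlgHom.commutes, hDg,
        Algebra.algebraMap_self, RingHom.id_apply] at h1
      have h2 : d.s.eval (P (gX k B)) * (P (d.D (ι w)) - Q (d.D (ι w))) = 0 := by
        linear_combination h1
      rcases mul_eq_zero.1 h2 with h3 | h3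
      · exact hs h3
      · exact hD (sub_eq_zero.1 h3)
  · intro P Q R hPQ hQR hPR hg1 hg2 h1 h2
    by_cases hs : d.s.eval (P (gX k B)) = 0
    · exact hwbad2 P Q hPQ hs hg1 h1
    obtain ⟨χ, hχ1, hχ2, hχ3⟩ := exists_triple P Q R hg1 (hg1.trans hg2)
    have h3 := hw2 χ (by
      intro x hx
      have h2 : Ideal.span {e12, e23} ≤ RingHom.ker χ := by
        rw [Ideal.span_le]
        rintro y (rfl | rfl)
        · exact eps_of_ne d _ _ χ (by rw [hχ1, hχ2]; exact hPQ)
        · exact eps_of_ne d _ _ χ (by rw [hχ2, hχ3]; exact hQR)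
      exact h2 hx) (by rw [hS, hχ1]; exact hs) (by rw [hχa, hχ1, hχ2, h1, sub_self])
    rw [hχb2 χ w (by rw [hχ1, hχ3]; exact hPR), hχ2, hχ3, h2, sub_self, mul_zero] at h3
    exact h3 rfl
  · intro Q hQ hg hcon
    exact hw1 (V2 (Q, P₀)) (Or.inr ⟨(Q, P₀), ⟨⟨hg, rfl⟩, hQ⟩, rfl⟩) ((hV2 Q P₀ w).2 hcon)

end K978.GoodVec
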