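import Groth.Agent.Picfga.CurveP1
import Groth.Agent.Curves.K978.GoodVec
import Groth.Agent.Curves.K978.UnrExist
import Groth.Agent.Curves.K978.Sep
import Groth.Agent.FunFld.K663.Bridge
import Mathlib.RingTheory.FiniteType

/-!
# The affine charts of a curve given by a rational function
-/

set_option autoImplicit false
set_option backward.isDefEq.respectTransparency.types false

universe u

open CategoryTheory CategoryTheory.Limits AlgebraicGeometry TopologicalSpace Opposite

namespace K978.CurveChart

open Groth.Agent.Picfga RegLocus CurvePts CurveP1

section alg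

variable (k : Type u) [Field k] (X : Scheme.{u}) [X.Over (Spec (CommRingCat.of k))]

/-- sections as an algebra over the base field -/
noncomputable abbrev algK (U : X.Opens) : Algebra k Γ(X, U) :=
  (coeffHom (X ↘ Spec (CommRingCat.of k)) U).hom.toAlgebra

/-- rational functions as an algebra over the base field -/
noncomputable abbrev algKK [IsIntegral X] : Algebra k X.functionField :=
  (kToK (X ↘ Spec (CommRingCat.of k))).toAlgebra

attribute [local instance] algK algKK

theorem tower [IsIntegral X] (U : X.Opens) [Nonempty U] : IsScalarTower k Γ(X, U) X.functionField :=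
  IsScalarTower.of_algebraMap_eq' (germToFunctionField_coeffHom (X ↘ Spec (CommRingCat.of k)) U).symm

end alg

attribute [local instance] algK algKK

variable {k : Type u} [Field k] {X : Scheme.{u}} [X.Over (Spec (CommRingCat.of k))] [IsIntegral X]

/-- germs at the generic point -/
noncomputable abbrev gm {U : X.Opens} [Nonempty U] (s : Γ(X, U)) : X.functionField := X.germToFunctionField U s

theorem gm_inj {U : X.Opens} [Nonempty U] : Function.Injective (gm (X := X) (U := U)) :=
  X.germToFunctionField_injective U

omit [X.Over (Spec (CommRingCat.of k))] in
theorem gm_res {U V : X.Opens} [Nonempty U] [Nonempty V] (h : V ≤ U) (s : Γ(X, U)) :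
    gm (X.presheaf.map (homOfLE h).op s) = gm s := by
  simp only [gm, Scheme.germToFunctionField]
  erw [TopCat.Presheaf.germ_res_apply]

theorem gm_algebraMap {U : X.Opens} [Nonempty U] (c : k) :
    gm (algebraMap k Γ(X, U) c) = algebraMap k X.functionField c := by
  have := tower k X U
  exact (IsScalarTower.algebraMap_apply k Γ(X, U) X.functionField c).symm

theorem gm_sec (z : X.functionField) : gm (sec z) = z := germToFunctionField_sec z

/-- Transcendence in the form used by `Picfga.CurveP1`. -/
theorem transc_iff (z : X.functionField) :
    Function.Injective (Polynomial.eval₂RingHom (kToK (X ↘ Spec (CommRingCat.of k))) z) ↔ Transcendental k z := by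
  exact transcendental_iff_injective.symm

section frac

/-- `expand` is integral. -/
theorem isIntegral_expand {m : ℕ} (hm : m ≠ 0) (p : Polynomial k) :
    (Polynomial.expand k m : Polynomial k →+* Polynomial k).IsIntegralElem p := by
  induction p using Polynomial.induction_on' with
  | add p q hp hq => exact hp.add _ hq
  | monomial n a =>
    rw [← Polynomial.C_mul_X_pow_eq_monomial]
    refine RingHom.IsIntegralElem.mul _ ?_ ?_
    · have : (Polynomial.C a : Polynomial k) = (Polynomial.expand k m : Polynomial k →+* Polynomial k) (Polynomial.C a) := by
        simp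
      rw [this]
      exact RingHom.isIntegralElem_map _
    · have hX : (Polynomial.expand k m : Polynomial k →+* Polynomial k).IsIntegralElem Polynomial.X := by
        refine ⟨Polynomial.X ^ m - Polynomial.C Polynomial.X, ?_, ?_⟩
        · exact Polynomial.monic_X_pow_sub_C _ hm
        · simp
      let _ := (Polynomial.expand k m : Polynomial k →+* Polynomial k).toAlgebra
      exact IsIntegral.pow (R := Polynomial k) hX n

variable [IsProper (X ↘ Spec (CommRingCat.of k))] (hdim : topologicalKrullDim X ≤ 1)
  (hval : ∀ x : X, ValuationRing (X.presheaf.stalk x)) {z : X.functionField} (hz : Transcendental k z)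

include hdim hval hz in
/-- Sections over the regular locus of `z` are finite over `k[z ^ m]`. -/
theorem finite_pow {m : ℕ} (hm : m ≠ 0) :
    (Polynomial.eval₂RingHom (algebraMap k Γ(X, reg z)) (sec z ^ m)).Finite := by
  have h1 := finite_evalHom (X ↘ Spec (CommRingCat.of k)) hdim hval ((transc_iff z).2 hz)
  have h2 : (Polynomial.eval₂RingHom (algebraMap k Γ(X, reg z)) (sec z)).Finite := h1
  have h3 : Polynomial.eval₂RingHom (algebraMap k Γ(X, reg z)) (sec z ^ m) =
      (Polynomial.eval₂RingHom (algebraMap k Γ(X, reg z)) (sec z)).comp
        (Polynomial.expand k m : Polynomial k →+* Polynomial k) := by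
    apply Polynomial.ringHom_ext
    · intro a; simp
    · simp
  rw [h3]
  refine RingHom.Finite.comp h2 ?_
  rw [RingHom.finite_iff_isIntegral_and_finiteType]
  refine ⟨isIntegral_expand hm, ?_⟩
  refine RingHom.FiniteType.of_comp_finiteType (f := (Polynomial.C : k →+* Polynomial k)) ?_
  have h4 : (Polynomial.expand k m : Polynomial k →+* Polynomial k).comp Polynomial.C = Polynomial.C := by
    ext a; simp
  rw [h4]
  rw [← Polynomial.algebraMap_eq]
  exact RingHom.finiteType_algebraMap.2 inferInstance

end frac

end K978.CurveChart
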