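import Groth.Agent.Curves.K978.CurveChart
import Groth.Agent.Curves.K978.GoodFun

/-!
# Choice of a plane model of a curve
-/

set_option autoImplicit false
set_option backward.isDefEq.respectTransparency.types false

universe u

open CategoryTheory CategoryTheory.Limits AlgebraicGeometry TopologicalSpace Opposite

namespace K978.CurveChoice

open Groth.Agent.Picfga RegLocus CurvePts CurveP1 CurveChart

attribute [local instance] algK algKK

variable {k : Type u} [Field k] {X : Scheme.{u}} [X.Over (Spec (CommRingCat.of k))] [IsIntegral X]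

omit [X.Over (Spec (CommRingCat.of k))] in
theorem gm_mul {U : X.Opens} [Nonempty U] (s t : Γ(X, U)) : gm (s * t) = gm s * gm t := map_mul _ _ _

omit [X.Over (Spec (CommRingCat.of k))] in
theorem gm_pow {U : X.Opens} [Nonempty U] (s : Γ(X, U)) (n : ℕ) : gm (s ^ n) = gm s ^ n := map_pow _ _ _

omit [X.Over (Spec (CommRingCat.of k))] in
theorem gm_one {U : X.Opens} [Nonempty U] : gm (1 : Γ(X, U)) = 1 := map_one _

omit [X.Over (Spec (CommRingCat.of k))] in
/-- A function on the regular locus of `z` extends after multiplication by a power of `z⁻¹`. -/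
theorem exists_ext {z z' : X.functionField} (hzz : z * z' = 1) (haff : IsAffineOpen (reg z')) (b : Γ(X, reg z)) :
    ∃ (N : ℕ) (b' : Γ(X, reg z')), gm b' * z ^ N = gm b := by
  have hz' : z' ≠ 0 := right_ne_zero_of_mul_eq_one hzz
  have hinv : z'⁻¹ = z := inv_eq_of_mul_eq_one_left hzz
  have hbo : X.basicOpen (sec z') = reg z' ⊓ reg z := by rw [basicOpen_sec hz', hinv]
  have hle : X.basicOpen (sec z') ≤ reg z := by rw [hbo]; exact inf_le_right
  have hle' : X.basicOpen (sec z') ≤ reg z' := X.basicOpen_le _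
  have hne : Nonempty (X.basicOpen (sec z') : X.Opens) :=
    ⟨⟨genericPoint X, by rw [hbo]; exact ⟨genericPoint_mem_reg z', genericPoint_mem_reg z⟩⟩⟩
  have hloc := haff.isLocalization_basicOpen (sec z')
  obtain ⟨⟨b', s⟩, hs⟩ := IsLocalization.surj (M := Submonoid.powers (sec z'))
    (X.presheaf.map (homOfLE hle).op b)
  obtain ⟨N, hN⟩ := s.2
  refine ⟨N, b', ?_⟩
  have h1 := congrArg (gm (X := X) (U := X.basicOpen (sec z'))) hs
  dsimp only at hN h1
  rw [← hN] at h1
  have h2 : ∀ a : Γ(X, reg z'), algebraMap Γ(X, reg z') Γ(X, X.basicOpen (sec z')) a =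
      X.presheaf.map (homOfLE hle').op a := fun a => rfl
  rw [h2, h2, gm_mul, gm_res, gm_res, gm_res, gm_pow, gm_sec] at h1
  rw [← h1, mul_assoc, ← mul_pow, mul_comm z' z, hzz, one_pow, mul_one]

/-- The functions on `reg z` with a pole of bounded order. -/
noncomputable def bdd (k : Type u) [Field k] [X.Over (Spec (CommRingCat.of k))] (z z' : X.functionField) (N : ℕ) :
    Submodule k Γ(X, reg z) where
  carrier := {b | ∃ b' : Γ(X, reg z'), gm b' * z ^ N = gm b}
  add_mem' := by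
    rintro a b ⟨a', ha⟩ ⟨b', hb⟩
    refine ⟨a' + b', ?_⟩
    rw [gm, map_add, add_mul, gm, map_add]
    exact congrArg₂ (· + ·) ha hb
  zero_mem' := ⟨0, by rw [gm, map_zero, zero_mul, gm, map_zero]⟩
  smul_mem' := by
    rintro c b ⟨b', hb⟩
    refine ⟨c • b', ?_⟩
    rw [Algebra.smul_def, Algebra.smul_def, gm_mul, gm_mul, gm_algebraMap, gm_algebraMap, mul_assoc, hb]

theorem mem_bdd {z z' : X.functionField} {N : ℕ} {b : Γ(X, reg z)} :
    b ∈ bdd k z z' N ↔ ∃ b' : Γ(X, reg z'), gm b' * z ^ N = gm b := Iff.rfl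

theorem bdd_mono {z z' : X.functionField} (hzz : z * z' = 1) {N M : ℕ} (h : N ≤ M) {b : Γ(X, reg z)}
    (hb : b ∈ bdd k z z' N) : b ∈ bdd k z z' M := by
  obtain ⟨b', hb'⟩ := hb
  refine ⟨b' * sec z' ^ (M - N), ?_⟩
  obtain ⟨t, rfl⟩ := Nat.exists_eq_add_of_le h
  rw [gm_mul, gm_pow, gm_sec, ← hb', Nat.add_sub_cancel_left]
  calc gm b' * z' ^ t * z ^ (N + t) = gm b' * z ^ N * (z * z') ^ t := by ring
    _ = gm b' * z ^ N := by rw [hzz, one_pow, mul_one]

theorem one_mem_bdd {z z' : X.functionField} (hzz : z * z' = 1) (N : ℕ) :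
    (1 : Γ(X, reg z)) ∈ bdd k z z' N := by
  refine ⟨sec z' ^ N, ?_⟩
  rw [gm_pow, gm_sec, gm_one, ← mul_pow, mul_comm, hzz, one_pow]

/-- For large `N` the functions with pole of order at most `N` generate. -/
theorem exists_bdd_adjoin {z z' : X.functionField} (hzz : z * z' = 1) (haff : IsAffineOpen (reg z'))
    [Algebra.FiniteType k Γ(X, reg z)] :
    ∃ N₀ : ℕ, ∀ N, N₀ ≤ N → Algebra.adjoin k (bdd k z z' N : Set Γ(X, reg z)) = ⊤ := by
  obtain ⟨T, hT⟩ := (inferInstance : Algebra.FiniteType k Γ(X, reg z)).out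
  choose n b' hb' using fun b : Γ(X, reg z) => exists_ext hzz haff b
  refine ⟨T.sup n, fun N hN => ?_⟩
  rw [eq_top_iff, ← hT]
  apply Algebra.adjoin_mono
  intro x hx
  exact bdd_mono hzz ((Finset.le_sup hx).trans hN) ⟨b' x, hb' x⟩

theorem exists_exponent (k : Type u) [Field k] (N : ℕ) : ∃ m : ℕ, N ≤ m ∧ (m : k) ≠ 0 := by
  by_cases h : (N : k) = 0
  · refine ⟨N + 1, Nat.le_succ N, ?_⟩
    rw [Nat.cast_add, h, zero_add, Nat.cast_one]
    exact one_ne_zero
  · exact ⟨N, le_rfl, h⟩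

variable [IsAlgClosed k] [IsProper (X ↘ Spec (CommRingCat.of k))] (hdim : topologicalKrullDim X ≤ 1)
  (hval : ∀ x : X, ValuationRing (X.presheaf.stalk x))

include hdim hval in
/-- finiteness and related facts for the chart of a transcendental function -/
theorem chart_facts {z : X.functionField} (hz : Transcendental k z) :
    Algebra.FiniteType k Γ(X, reg z) ∧ ¬ IsField Γ(X, reg z) ∧
      ∀ b : Γ(X, reg z), b ≠ 0 → {P : Γ(X, reg z) →ₐ[k] k | P b = 0}.Finite := by
  have h1 := finite_evalHom (X ↘ Spec (CommRingCat.of k)) hdim hval ((transc_iff z).2 hz)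
  let _ : Algebra (Polynomial k) Γ(X, reg z) :=
    (Polynomial.eval₂RingHom (algebraMap k Γ(X, reg z)) (sec z)).toAlgebra
  have t1 : IsScalarTower k (Polynomial k) Γ(X, reg z) := IsScalarTower.of_algebraMap_eq fun c => by
    change _ = Polynomial.eval₂ (algebraMap k Γ(X, reg z)) (sec z) (Polynomial.C c)
    rw [Polynomial.eval₂_C]
  have hmf : Module.Finite (Polynomial k) Γ(X, reg z) := h1
  have htr : Transcendental k (sec z) := by
    have := tower k X (reg z)
    have h2 : Transcendental k (algebraMap Γ(X, reg z) X.functionField (sec z)) := by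
      change Transcendental k (gm (sec z))
      rw [gm_sec]
      exact hz
    exact fun h => h2 (h.algebraMap)
  have hinj : Function.Injective (algebraMap (Polynomial k) Γ(X, reg z)) := by
    rw [transcendental_iff_injective] at htr
    exact htr
  refine ⟨GoodVec.finiteType, fun h => ?_, fun b hb => GoodVec.finite_points hb⟩
  have h3 : IsField (Polynomial k) := isField_of_isIntegral_of_isField hinj h
  exact Polynomial.not_isField k h3

include hdim hval in
/-- **The choice of a plane model.** -/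
theorem exists_choice {z z' : X.functionField} (hzz : z * z' = 1) (hz : Transcendental k z)
    (hgen : Sep.DGen k z) : ∃ (m : ℕ) (h₀ : Γ(X, reg z)) (h₁ : Γ(X, reg z')), m ≠ 0 ∧
      gm h₁ * z ^ m = gm h₀ ∧ GoodFun.Good (k := k) (sec z ^ m) h₀ ∧
      (∀ P : Γ(X, reg z') →ₐ[k] k, P (sec z') = 0 →
        h₁ - algebraMap k Γ(X, reg z') (P h₁) ∉ RingHom.ker P ^ 2) ∧
      (∀ P Q : Γ(X, reg z') →ₐ[k] k, P (sec z') = 0 → Q (sec z') = 0 → P ≠ Q → P h₁ ≠ Q h₁) := by
  have hz0 : z ≠ 0 := left_ne_zero_of_mul_eq_one hzz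
  have hz0' : z' ≠ 0 := right_ne_zero_of_mul_eq_one hzz
  have hzz' : z' * z = 1 := by rw [mul_comm]; exact hzz
  have hz' : Transcendental k z' := by
    have h1 : z' = z⁻¹ := eq_inv_of_mul_eq_one_right hzz
    rw [h1]
    exact fun h => hz (by simpa using h.inv)
  have haff : IsAffineOpen (reg z) := isAffineOpen_reg (X ↘ Spec (CommRingCat.of k)) hdim hval ((transc_iff z).2 hz)
  have haff' : IsAffineOpen (reg z') := isAffineOpen_reg (X ↘ Spec (CommRingCat.of k)) hdim hval ((transc_iff z').2 hz')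
  obtain ⟨hft, hnf, hfp⟩ := chart_facts hdim hval hz
  obtain ⟨hft', hnf', hfp'⟩ := chart_facts hdim hval hz'
  obtain ⟨N1, hN1⟩ := exists_bdd_adjoin (k := k) hzz haff'
  obtain ⟨N2, hN2⟩ := exists_bdd_adjoin (k := k) hzz' haff
  let N := max N1 N2
  obtain ⟨m, hm, hmk⟩ := exists_exponent k (3 * N)
  have hm0 : m ≠ 0 := by
    rintro rfl
    exact hmk (by simp)
  let S := bdd k z z' N
  let S' := bdd k z' z N
  have hS : Algebra.adjoin k (S : Set Γ(X, reg z)) = ⊤ := hN1 N (le_max_left _ _)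
  have hS' : Algebra.adjoin k (S' : Set Γ(X, reg z')) = ⊤ := hN2 N (le_max_right _ _)
  have h1S : (1 : Γ(X, reg z)) ∈ S := one_mem_bdd hzz N
  have h1S' : (1 : Γ(X, reg z')) ∈ S' := one_mem_bdd hzz' N
  -- the space of pairs
  let W : Submodule k (Γ(X, reg z) × Γ(X, reg z')) :=
    { carrier := {b | gm b.2 * z ^ m = gm b.1}
      add_mem' := by
        rintro a b ha hb
        change gm (a.2 + b.2) * z ^ m = gm (a.1 + b.1)
        rw [gm, map_add, add_mul, gm, map_add]
        exact congrArg₂ (· + ·) ha hb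
      zero_mem' := by
        change gm (0 : Γ(X, reg z')) * z ^ m = gm (0 : Γ(X, reg z))
        rw [gm, map_zero, zero_mul, gm, map_zero]
      smul_mem' := by
        rintro c b hb
        change gm (c • b.2) * z ^ m = gm (c • b.1)
        rw [Algebra.smul_def, Algebra.smul_def, gm_mul, gm_mul, gm_algebraMap, gm_algebraMap, mul_assoc, hb] }
  have hW : ∀ b, b ∈ W ↔ gm b.2 * z ^ m = gm b.1 := fun b => Iff.rfl
  let ι : W →ₗ[k] Γ(X, reg z) := LinearMap.fst k _ _ ∘ₗ W.subtype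
  let ρ : W →ₗ[k] Γ(X, reg z') := LinearMap.snd k _ _ ∘ₗ W.subtype
  have hιm : ∀ b ∈ bdd k z z' m, b ∈ LinearMap.range ι := by
    rintro b ⟨b', hb'⟩
    exact ⟨⟨(b, b'), hb'⟩, rfl⟩
  have hι : ∀ x ∈ S, ∀ y ∈ S, ∀ w ∈ S, x * y * w ∈ LinearMap.range ι := by
    rintro x ⟨x', hx⟩ y ⟨y', hy⟩ w ⟨w', hw⟩
    apply hιm
    refine bdd_mono hzz hm ⟨x' * y' * w', ?_⟩
    rw [gm_mul, gm_mul, gm_mul, gm_mul, ← hx, ← hy, ← hw]
    ring
  have hρ : ∀ x ∈ S', ∃ w, ρ w = x := by
    intro x hx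
    obtain ⟨b, hb⟩ := bdd_mono hzz' ((Nat.le_mul_of_pos_left N (by norm_num : 0 < 3)).trans hm) hx
    refine ⟨⟨(b, x), ?_⟩, rfl⟩
    rw [hW]
    change gm x * z ^ m = gm b
    rw [← hb, mul_assoc, ← mul_pow, hzz', one_pow, mul_one]
  -- the conditions at the poles
  have hs' : sec z' ≠ 0 := by
    intro h
    apply hz0'
    rw [← gm_sec z', h, gm, map_zero]
  have hpl := hfp' _ hs'
  let V1 : (Γ(X, reg z') →ₐ[k] k) → Submodule k W := fun P =>
    ((RingHom.ker P ^ 2).restrictScalars k).comap (ρ - Algebra.linearMap k Γ(X, reg z') ∘ₗ P.toLinearMap ∘ₗ ρ)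
  have hV1 : ∀ P w, w ∈ V1 P ↔ ρ w - algebraMap k Γ(X, reg z') (P (ρ w)) ∈ RingHom.ker P ^ 2 := fun P w => Iff.rfl
  let V2 : (Γ(X, reg z') →ₐ[k] k) × (Γ(X, reg z') →ₐ[k] k) → Submodule k W := fun PQ =>
    LinearMap.ker (PQ.1.toLinearMap ∘ₗ ρ - PQ.2.toLinearMap ∘ₗ ρ)
  have hV2 : ∀ P Q w, w ∈ V2 (P, Q) ↔ P (ρ w) = Q (ρ w) := fun P Q w => by
    rw [LinearMap.mem_ker, LinearMap.sub_apply, sub_eq_zero]; rfl
  have hNoeth : IsNoetherianRing Γ(X, reg z') := Algebra.FiniteType.isNoetherianRing k _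
  have := tower k X (reg z)
  have hfr : IsFractionRing Γ(X, reg z) X.functionField := functionField_isFractionRing_of_isAffineOpen X _ haff
  have hgm : ∀ s : Γ(X, reg z), algebraMap Γ(X, reg z) X.functionField s = gm s := fun s => rfl
  have htr : Transcendental k (sec z ^ m) := by
    have h2 : Transcendental k (sec z) := by
      have h2 : Transcendental k (algebraMap Γ(X, reg z) X.functionField (sec z)) := by
        rw [hgm, gm_sec]
        exact hz
      exact fun h => h2 (h.algebraMap)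
    exact h2.pow (Nat.pos_of_ne_zero hm0)
  obtain ⟨w, hw, hgood⟩ := GoodFun.exists_good (k := k) (B := Γ(X, reg z)) (K := X.functionField) (W := W)
    (sec z ^ m) (finite_pow hdim hval hz hm0) htr (by
      rw [hgm, gm_pow, gm_sec]
      exact hgen.pow hz0 hmk) S h1S hS ι hι
    (V1 '' {P | P (sec z') = 0} ∪ V2 '' (({P | P (sec z') = 0} ×ˢ {P | P (sec z') = 0}) ∩ {PQ | PQ.1 ≠ PQ.2}))
    ((hpl.image _).union (((hpl.prod hpl).subset Set.inter_subset_left).image _)) (by
      rintro V (⟨P, hP, rfl⟩ | ⟨⟨P, Q⟩, ⟨-, hPQ⟩, rfl⟩)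
      · intro ht
        obtain ⟨x, hx, hx1, hx2⟩ := Jets.exists_tangent hnf' h1S' hS' P
        obtain ⟨w, rfl⟩ := hρ x hx
        have h1 : w ∈ V1 P := by rw [ht]; trivial
        rw [hV1, hx1, map_zero, sub_zero] at h1
        exact hx2 h1
      · intro ht
        obtain ⟨x, hx, hx1⟩ := Jets.exists_sep hS' hPQ
        obtain ⟨w, rfl⟩ := hρ x hx
        have h1 : w ∈ V2 (P, Q) := by rw [ht]; trivial
        rw [hV2] at h1
        exact hx1 h1)
  refine ⟨m, ι w, ρ w, hm0, w.2, hgood, ?_, ?_⟩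
  · intro P hP hcon
    exact hw _ (Or.inl ⟨P, hP, rfl⟩) hcon
  · intro P Q hP hQ hPQ hcon
    exact hw _ (Or.inr ⟨(P, Q), ⟨⟨hP, hQ⟩, hPQ⟩, rfl⟩) ((hV2 P Q w).2 hcon)

end K978.CurveChoice
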