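import Groth.Agent.Curves.K978.DysonGrow
import Mathlib.Algebra.Polynomial.Div
import Mathlib.Algebra.Polynomial.Inductions
import Mathlib.RingTheory.Adjoin.Polynomial.Basic
import Mathlib.Tactic.Linarith
import Mathlib.Tactic.Ring

/-!
# The abstract Castelnuovo bound

`K / k` a field extension, `z` transcendental over `k`, `[K : k(z)] < ∞`, `A`, `B` two `k`-subalgebras of `K`
with `z ∈ A`, `z⁻¹ ∈ B`, `A ∩ B = k`, `fil n = {f ∈ A | z⁻ⁿ f ∈ B}`. If `fil 1` contains a subspace of dimension at
least four and generates `K` and `dim fil N = N d + 1 - g` for all large `N`, then `3 ≤ d` and `g ≤ d² / 4 - d + 1`.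
-/

set_option autoImplicit false

open Module Submodule IntermediateField Polynomial

namespace K978.DysonBound

open K978.DysonGrow

variable {k K : Type*} [Field k] [Field K] [Algebra k K]

/-- Linear independence over `k(w)` may be tested on polynomials in `w`. -/
theorem linearIndependent_of_poly {ι : Type*} {w : K} {v : ι → K}
    (h : ∀ (s : Finset ι) (p : ι → k[X]), ∑ i ∈ s, aeval w (p i) * v i = 0 → ∀ i ∈ s, p i = 0) :
    LinearIndependent k⟮w⟯ v := by
  open scoped IntermediateField.algebraAdjoinAdjoin in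
  rw [← LinearIndependent.iff_fractionRing (R := Algebra.adjoin k {w})]
  rw [linearIndependent_iff']
  intro s g hg i hi
  have h1 : ∀ i, ∃ p : k[X], aeval w p = (g i : K) := fun i => by
    have h2 : (g i : K) ∈ (aeval w : k[X] →ₐ[k] K).range := by
      rw [← Algebra.adjoin_singleton_eq_range_aeval]
      exact (g i).2
    exact h2
  choose p hp using h1
  have h2 : ∑ i ∈ s, aeval w (p i) * v i = 0 := by
    rw [← hg]
    refine Finset.sum_congr rfl fun i _ => ?_
    rw [hp]
    rfl
  have h3 := h s p h2 i hi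
  apply Subtype.ext
  rw [← hp i, h3, map_zero]
  rfl

theorem adjoin_inv (z : K) : k⟮z⁻¹⟯ = k⟮z⟯ := by
  apply le_antisymm
  · rw [IntermediateField.adjoin_simple_le_iff]
    exact inv_mem (mem_adjoin_simple_self k z)
  · rw [IntermediateField.adjoin_simple_le_iff]
    have := inv_mem (mem_adjoin_simple_self k z⁻¹)
    rwa [inv_inv] at this

theorem linearIndependent_of_mod {ι : Type*} {B : Subalgebra k K} {w : K} (hw0 : w ≠ 0) (hwB : w ∈ B) {b : ι → K}
    (hb : ∀ i, b i ∈ B)
    (h : ∀ (s : Finset ι) (c : ι → k) (y : K), y ∈ B → ∑ i ∈ s, c i • b i = w * y → ∀ i ∈ s, c i = 0) :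
    LinearIndependent k⟮w⟯ b := by
  apply linearIndependent_of_poly
  intro s
  have hB : ∀ p : k[X], aeval w p ∈ B := fun p => by
    have := (aeval (⟨w, hwB⟩ : B) p).2
    rwa [← Subalgebra.aeval_coe] at this
  have hdec : ∀ p : k[X], aeval w p = w * aeval w p.divX + algebraMap k K (p.coeff 0) := fun p => by
    conv_lhs => rw [← divX_mul_X_add p]
    rw [map_add, map_mul, aeval_X, aeval_C, mul_comm]
  have h0 : ∀ p : ι → k[X], ∑ i ∈ s, aeval w (p i) * b i = 0 → ∀ i ∈ s, (p i).coeff 0 = 0 := by
    intro p hp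
    refine h s (fun i => (p i).coeff 0) (-∑ i ∈ s, aeval w (p i).divX * b i)
      (B.neg_mem (B.sum_mem fun i _ => B.mul_mem (hB _) (hb i))) ?_
    have h1 : ∑ i ∈ s, aeval w (p i) * b i =
        w * ∑ i ∈ s, aeval w (p i).divX * b i + ∑ i ∈ s, (p i).coeff 0 • b i := by
      rw [Finset.mul_sum, ← Finset.sum_add_distrib]
      refine Finset.sum_congr rfl fun i _ => ?_
      rw [hdec, Algebra.smul_def]
      ring
    rw [hp] at h1
    rw [mul_neg]
    exact (neg_eq_of_add_eq_zero_right h1.symm).symm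
  have key : ∀ (n : ℕ) (p : ι → k[X]), ∑ i ∈ s, aeval w (p i) * b i = 0 → ∀ i ∈ s, (p i).coeff n = 0 := by
    intro n
    induction n with
    | zero => exact h0
    | succ n ih =>
      intro p hp i hi
      have h1 := h0 p hp
      have h2 : w * ∑ i ∈ s, aeval w (p i).divX * b i = 0 := by
        rw [← hp, Finset.mul_sum]
        refine Finset.sum_congr rfl fun i hi => ?_
        rw [hdec (p i), h1 i hi, map_zero, add_zero, mul_assoc]
      have h3 := ih (fun i => (p i).divX) ((mul_eq_zero.mp h2).resolve_left hw0) i hi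
      rwa [coeff_divX] at h3
  intro p hp i hi
  ext n
  rw [key n p hp i hi, coeff_zero]

theorem finrank_fil_succ_le {A B : Subalgebra k K} {z : K} [FiniteDimensional k⟮z⟯ K] (hz0 : z ≠ 0) (hzB : z⁻¹ ∈ B)
    (hfin : ∀ n, FiniteDimensional k (fil A B z n)) (n : ℕ) :
    finrank k (fil A B z (n + 1)) ≤ finrank k (fil A B z n) + finrank k⟮z⟯ K := by
  have := hfin (n + 1)
  have := hfin n
  obtain ⟨C, hC, h1, h2⟩ := exists_compl (fil_le_succ (A := A) (B := B) (z := z) hzB n)
  have := fd_of_le hC
  have h3 := finrank_compl h1 h2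
  rw [h3]
  have hw0 : z⁻¹ ≠ 0 := inv_ne_zero hz0
  let c := Module.finBasis k C
  let b : Fin (finrank k C) → K := fun i => z⁻¹ ^ (n + 1) * (c i : K)
  have hb : ∀ i, b i ∈ B := fun i => (hC (c i).2).2
  have hli : LinearIndependent k⟮z⁻¹⟯ b := by
    refine linearIndependent_of_mod hw0 hzB hb ?_
    intro s a y hy he i hi
    set x : C := ∑ i ∈ s, a i • c i with hx
    have hxv : (x : K) = ∑ i ∈ s, a i • (c i : K) := by
      rw [hx, AddSubmonoidClass.coe_finsetSum]
      rfl
    have h4 : z⁻¹ * (z⁻¹ ^ n * (x : K)) = z⁻¹ * y := by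
      rw [← he, hxv, ← mul_assoc, ← pow_succ', Finset.mul_sum]
      refine Finset.sum_congr rfl fun i _ => ?_
      rw [mul_smul_comm]
    have h5 : z⁻¹ ^ n * (x : K) = y := mul_left_cancel₀ hw0 h4
    have h6 : (x : K) ∈ fil A B z n ⊓ C := ⟨mem_fil.mpr ⟨(hC x.2).1, h5 ▸ hy⟩, x.2⟩
    rw [h1, Submodule.mem_bot] at h6
    have h7 : x = 0 := Subtype.ext h6
    exact linearIndependent_iff'.mp c.linearIndependent s a (hx ▸ h7) i hi
  rw [adjoin_inv] at hli
  have h8 := hli.fintype_card_le_finrank
  rw [Fintype.card_fin] at h8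
  omega

/-- The quotient of a polynomial with coefficients in `fil 1` and root `z` by `X - z` has constant coefficients. -/
theorem exists_const_quot {A B : Subalgebra k K} {z : K} (hz0 : z ≠ 0) (hzA : z ∈ A) (hzB : z⁻¹ ∈ B) (hAB : A ⊓ B = ⊥)
    (G : K[X]) (hG : ∀ n, G.coeff n ∈ fil A B z 1) (h0 : G.IsRoot z) :
    ∃ c : ℕ → k, G.coeff 0 = - (z * algebraMap k K (c 0)) ∧
      ∀ n, G.coeff (n + 1) = algebraMap k K (c n) - z * algebraMap k K (c (n + 1)) := by
  set q := G /ₘ (X - C z) with hq
  have hqG : (X - C z) * q = G := mul_divByMonic_eq_iff_isRoot.mpr h0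
  have hc0 : G.coeff 0 = - (z * q.coeff 0) := by
    rw [← hqG, sub_mul, coeff_sub, coeff_X_mul_zero, coeff_C_mul, zero_sub]
  have hcs : ∀ n, G.coeff (n + 1) = q.coeff n - z * q.coeff (n + 1) := fun n => by
    rw [← hqG, sub_mul, coeff_sub, coeff_X_mul, coeff_C_mul]
  have hB : ∀ n, q.coeff n ∈ B := by
    intro n
    induction n with
    | zero =>
      have h1 : q.coeff 0 = - (z⁻¹ * G.coeff 0) := by
        rw [hc0, mul_neg, neg_neg, ← mul_assoc, inv_mul_cancel₀ hz0, one_mul]
      rw [h1]
      have h2 := (hG 0).2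
      rw [pow_one] at h2
      exact B.neg_mem h2
    | succ n ih =>
      have h1 : q.coeff (n + 1) = z⁻¹ * q.coeff n - z⁻¹ * G.coeff (n + 1) := by
        rw [hcs, mul_sub, sub_sub_cancel, ← mul_assoc, inv_mul_cancel₀ hz0, one_mul]
      rw [h1]
      have h2 := (hG (n + 1)).2
      rw [pow_one] at h2
      exact B.sub_mem (B.mul_mem hzB ih) h2
  have hA : ∀ m n, q.natDegree < n + m → q.coeff n ∈ A := by
    intro m
    induction m with
    | zero =>
      intro n hn
      rw [coeff_eq_zero_of_natDegree_lt (by simpa using hn)]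
      exact A.zero_mem
    | succ m ih =>
      intro n hn
      have h1 : q.coeff n = G.coeff (n + 1) + z * q.coeff (n + 1) := by
        rw [hcs, sub_add_cancel]
      rw [h1]
      exact A.add_mem (hG (n + 1)).1 (A.mul_mem hzA (ih (n + 1) (by omega)))
  have hk : ∀ n, ∃ c : k, algebraMap k K c = q.coeff n := fun n => by
    have h1 : q.coeff n ∈ A ⊓ B := ⟨hA (q.natDegree + 1) n (by omega), hB n⟩
    rw [hAB] at h1
    exact Algebra.mem_bot.mp h1
  choose c hc using hk
  refine ⟨c, ?_, fun n => ?_⟩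
  · rw [hc, hc0]
  · rw [hc, hc, hcs]

theorem linearIndependent_cons {A B : Subalgebra k K} {z : K} (hz0 : z ≠ 0) (hzA : z ∈ A) (hzB : z⁻¹ ∈ B)
    (hAB : A ⊓ B = ⊥) (hz : Transcendental k z) {ι : Type*} {b : ι → K} (hb : ∀ i, b i ∈ fil A B z 1)
    (hind : ∀ (s : Finset ι) (c : ι → k) (u v : k), ∑ i ∈ s, c i • b i = algebraMap k K u + algebraMap k K v * z →
      ∀ i ∈ s, c i = 0) :
    LinearIndependent k⟮z⟯ (fun o : Option ι => o.elim 1 b) := by
  classical
  apply linearIndependent_of_poly
  intro s p hp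
  set v : Option ι → K := fun o => o.elim 1 b with hv
  have hvm : ∀ o, v o ∈ fil A B z 1 := by
    rintro (_ | i)
    · exact one_mem_fil hzB 1
    · exact hb i
  -- extend to the insertion of `none`
  set t : Finset ι := s.eraseNone with ht
  let G : K[X] := ∑ o ∈ s, (p o).map (algebraMap k K) * C (v o)
  have hGc : ∀ n, G.coeff n = ∑ o ∈ s, (p o).coeff n • v o := fun n => by
    rw [finsetSum_coeff]
    refine Finset.sum_congr rfl fun o _ => ?_
    rw [coeff_mul_C, coeff_map, Algebra.smul_def]
  have hG : ∀ n, G.coeff n ∈ fil A B z 1 := fun n => by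
    rw [hGc]
    exact Submodule.sum_mem _ fun o _ => Submodule.smul_mem _ _ (hvm o)
  have h0 : G.IsRoot z := by
    rw [IsRoot.def, ← hp, eval_finsetSum]
    refine Finset.sum_congr rfl fun o _ => ?_
    rw [eval_mul, eval_C, eval_map, aeval_def]
  obtain ⟨c, hc0, hcs⟩ := exists_const_quot hz0 hzA hzB hAB G hG h0
  have hsplit : ∀ n, ∃ u : k, (none ∉ s → u = 0) ∧ (none ∈ s → u = (p none).coeff n) ∧
      G.coeff n = algebraMap k K u + ∑ i ∈ t, (p (some i)).coeff n • b i := fun n => by
    refine ⟨if none ∈ s then (p none).coeff n else 0, fun h => if_neg h, fun h => if_pos h, ?_⟩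
    rw [hGc]
    have h1 : ∑ i ∈ t, (p (some i)).coeff n • b i = ∑ o ∈ s.erase none, (p o).coeff n • v o := by
      rw [← Finset.map_some_eraseNone, Finset.sum_map]
      rfl
    rw [h1]
    by_cases hn : none ∈ s
    · rw [if_pos hn, ← Finset.add_sum_erase s _ hn]
      congr 1
      rw [hv, Algebra.smul_def]
      exact mul_one _
    · rw [if_neg hn, map_zero, zero_add, Finset.erase_eq_of_notMem hn]
  choose u hu1 hu2 hu using hsplit
  -- the coefficients of the `b i` vanish
  have h2 : ∀ n, ∀ i ∈ t, (p (some i)).coeff n = 0 := by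
    intro n
    cases n with
    | zero =>
      refine hind t _ (- u 0) (- c 0) ?_
      have h3 := hu 0
      rw [hc0] at h3
      rw [map_neg, map_neg]
      linear_combination -h3
    | succ n =>
      refine hind t _ (c n - u (n + 1)) (- c (n + 1)) ?_
      have h3 := hu (n + 1)
      rw [hcs] at h3
      rw [map_neg, map_sub]
      linear_combination -h3
  have h3 : ∀ n, G.coeff n = algebraMap k K (u n) := fun n => by
    rw [hu, Finset.sum_eq_zero, add_zero]
    intro i hi
    rw [h2 n i hi, zero_smul]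
  have hz1 : ∀ a b : k, algebraMap k K a = z * algebraMap k K b → b = 0 := by
    intro a b hab
    by_contra hne
    apply hz
    refine ⟨C a - C b * X, ?_, ?_⟩
    · intro h
      have h5 : (C a - C b * X : k[X]).coeff 1 = - b := by
        rw [coeff_sub, coeff_C_mul, coeff_X_one, coeff_C_of_ne_zero one_ne_zero, mul_one, zero_sub]
      rw [h, coeff_zero] at h5
      exact hne (neg_eq_zero.mp h5.symm)
    · rw [map_sub, map_mul, aeval_C, aeval_C, aeval_X, hab, mul_comm, sub_self]
  have h4 : ∀ n, c n = 0 := by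
    intro n
    cases n with
    | zero =>
      apply hz1 (- u 0)
      have := h3 0
      rw [hc0] at this
      rw [map_neg, ← this, neg_neg]
    | succ n =>
      apply hz1 (c n - u (n + 1))
      have := h3 (n + 1)
      rw [hcs] at this
      rw [map_sub, ← this]
      ring
  have h5 : ∀ n, u n = 0 := by
    intro n
    apply (algebraMap k K).injective
    rw [map_zero, ← h3 n]
    cases n with
    | zero => rw [hc0, h4, map_zero, mul_zero, neg_zero]
    | succ n => rw [hcs, h4, h4, map_zero, mul_zero, sub_zero]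
  rintro (_ | i) ho
  · ext n
    rw [coeff_zero, ← hu2 n ho, h5]
  · ext n
    rw [coeff_zero]
    exact h2 n i (Finset.mem_eraseNone.mpr ho)

end K978.DysonBound
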