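import Mathlib.FieldTheory.IntermediateField.Adjoin.Basic
import Mathlib.LinearAlgebra.FiniteDimensional.Lemmas
import Mathlib.LinearAlgebra.Dimension.Localization
import Mathlib.RingTheory.Algebraic.Basic
import Mathlib.Algebra.Algebra.Operations

/-!
# Growth of the powers of a subspace in a finite field extension

* `K978.DysonDim.le_finrank_pow`: `L / F` a finite extension of fields, `V` an `F`-subspace of `L` with `1 ∈ V`,
  `3 ≤ dim V` and `F[V] = L`. Then `min [L : F] (2 n + 1) ≤ dim V ^ n`.
* `K978.DysonDim.finrank_span_add_le`: `K / k` a field extension, `F` an intermediate field, `z ∈ F` transcendental over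
  `k`. For finite dimensional `k`-subspaces `N`, `z N ≤ M` of `K`: `dim_F (F M) + dim_k N ≤ dim_k M`.
-/

set_option autoImplicit false

open Module Submodule

namespace K978.DysonDim

section Dyson

variable {F L : Type*} [Field F] [Field L] [Algebra F L]

theorem mul_mem_of_adjoin {V B : Submodule F L} (h : V * B ≤ B) {x : L} (hx : x ∈ Algebra.adjoin F (V : Set L)) :
    ∀ y ∈ B, x * y ∈ B := by
  induction hx using Algebra.adjoin_induction with
  | mem v hv => intro y hy; exact h (Submodule.mul_mem_mul hv hy)
  | algebraMap r => intro y hy; rw [← Algebra.smul_def]; exact B.smul_mem r hy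
  | add a b _ _ ha hb => intro y hy; rw [add_mul]; exact B.add_mem (ha y hy) (hb y hy)
  | mul a b _ _ ha hb => intro y hy; rw [mul_assoc]; exact ha _ (hb y hy)

theorem top_of_mul_le {V B : Submodule F L} (htop : Algebra.adjoin F (V : Set L) = ⊤) (h1 : (1 : L) ∈ B)
    (h : V * B ≤ B) : B = ⊤ := by
  rw [eq_top_iff]
  intro x _
  have hx : x ∈ Algebra.adjoin F (V : Set L) := htop ▸ Algebra.mem_top
  simpa using mul_mem_of_adjoin h hx 1 h1

theorem injective_mulRight {b : L} (hb : b ≠ 0) : Function.Injective (LinearMap.mulRight F b) :=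
  mul_left_injective₀ hb

/-- A proper inclusion of subspaces stable under `A` raises the dimension by at least `dim A`. -/
theorem finrank_add_le_of_lt [FiniteDimensional F L] {A X Y : Submodule F L} (hX : A * X ≤ X) (hY : A * Y ≤ Y)
    (hlt : X < Y) : finrank F X + finrank F A ≤ finrank F Y := by
  obtain ⟨y, hyY, hyX⟩ := SetLike.exists_of_lt hlt
  have hy : y ≠ 0 := fun h => hyX (h ▸ X.zero_mem)
  have h1 : finrank F (A.map (LinearMap.mulRight F y)) = finrank F A :=
    (Submodule.equivMapOfInjective _ (injective_mulRight hy) A).finrank_eq.symm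
  have h2 : X ⊓ A.map (LinearMap.mulRight F y) = ⊥ := by
    rw [eq_bot_iff]
    rintro _ ⟨hx, a, ha, rfl⟩
    rw [LinearMap.mulRight_apply] at hx ⊢
    by_contra hne
    have ha0 : a ≠ 0 := by
      rintro rfl
      exact hne (by simp)
    let f : X →ₗ[F] X := (LinearMap.mulLeft F a).restrict fun x hx => hX (Submodule.mul_mem_mul ha hx)
    have hf : Function.Injective f := by
      intro u v huv
      have := congrArg Subtype.val huv
      exact Subtype.ext (mul_left_cancel₀ ha0 this)
    obtain ⟨x, hx'⟩ := (LinearMap.injective_iff_surjective.mp hf) ⟨a * y, hx⟩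
    have h3 : a * x.1 = a * y := congrArg Subtype.val hx'
    exact hyX (mul_left_cancel₀ ha0 h3 ▸ x.2)
  have h3 := Submodule.finrank_sup_add_finrank_inf_eq X (A.map (LinearMap.mulRight F y))
  rw [h2, finrank_bot, h1, add_zero] at h3
  rw [← h3]
  refine Submodule.finrank_mono (sup_le hlt.le ?_)
  rintro _ ⟨a, ha, rfl⟩
  exact hY (Submodule.mul_mem_mul ha hyY)

theorem pow_mono_of_one_mem {V : Submodule F L} (h1 : (1 : L) ∈ V) {m n : ℕ} (h : m ≤ n) : V ^ m ≤ V ^ n :=
  pow_le_pow_right₀ (Submodule.one_le.mpr h1) h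

/-- If a power of `V` is stable under a subspace of dimension at least two, it has dimension at least `2 n + 2`. -/
theorem two_mul_le_of_stable [FiniteDimensional F L] {V A : Submodule F L} (h1 : (1 : L) ∈ V)
    (htop : Algebra.adjoin F (V : Set L) = ⊤) (n : ℕ) (hA : A * V ^ n ≤ V ^ n) (hA2 : 2 ≤ finrank F A)
    (hne : V ^ n ≠ ⊤) : 2 * n + 2 ≤ finrank F ↥(V ^ n) := by
  set E := Subalgebra.toSubmodule (Algebra.adjoin F (A : Set L)) with hE
  have hAE : A ≤ E := fun a ha => Algebra.subset_adjoin ha
  have hEE : A * E ≤ E := by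
    rw [Submodule.mul_le]
    intro a ha e he
    exact (Algebra.adjoin F (A : Set L)).mul_mem (hAE ha) he
  have hEW : E * V ^ n ≤ V ^ n := by
    rw [Submodule.mul_le]
    intro e he w hw
    exact mul_mem_of_adjoin hA he w hw
  have hle : ∀ j ≤ n, E * V ^ j ≤ V ^ n := fun j hj =>
    (mul_le_mul' le_rfl (pow_mono_of_one_mem h1 hj)).trans hEW
  have key : ∀ j ≤ n, 2 * j + 2 ≤ finrank F ↥(E * V ^ j) := by
    intro j
    induction j with
    | zero =>
      intro _
      rw [pow_zero, mul_one, mul_zero, zero_add]
      exact hA2.trans (Submodule.finrank_mono hAE)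
    | succ j ih =>
      intro hj
      have h2 := ih (by omega)
      have h3 : E * V ^ j ≤ E * V ^ (j + 1) := mul_le_mul' le_rfl (pow_mono_of_one_mem h1 (Nat.le_succ j))
      have h4 : E * V ^ j ≠ E * V ^ (j + 1) := by
        intro h
        apply hne
        have h5 : E * V ^ j = ⊤ := by
          refine top_of_mul_le htop ?_ ?_
          · rw [← mul_one (1 : L)]
            refine Submodule.mul_mem_mul (Subalgebra.one_mem _) ?_
            have := pow_mono_of_one_mem h1 (Nat.zero_le j)
            rw [pow_zero] at this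
            exact this (Submodule.one_le.mp le_rfl)
          · refine le_of_eq ?_
            conv_rhs => rw [h, pow_succ']
            rw [← mul_assoc, ← mul_assoc, mul_comm E V]
        rw [eq_top_iff, ← h5]
        exact hle j (by omega)
      have h6 : ∀ i, A * (E * V ^ i) ≤ E * V ^ i := fun i => by
        rw [← mul_assoc]
        exact mul_le_mul' hEE le_rfl
      have h5 := finrank_add_le_of_lt (h6 j) (h6 (j + 1)) (lt_of_le_of_ne h3 h4)
      omega
  exact (key n le_rfl).trans (Submodule.finrank_mono hEW)

/-- **Growth of powers.** -/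
theorem le_finrank_pow [FiniteDimensional F L] (V : Submodule F L) (h1 : (1 : L) ∈ V) (h3 : 3 ≤ finrank F V)
    (htop : Algebra.adjoin F (V : Set L) = ⊤) (n : ℕ) :
    min (finrank F L) (2 * n + 1) ≤ finrank F ↥(V ^ n) := by
  induction n with
  | zero =>
    rw [pow_zero, mul_zero, zero_add]
    refine (min_le_right _ _).trans ?_
    rw [Nat.one_le_iff_ne_zero, ← Nat.pos_iff_ne_zero, finrank_pos_iff]
    exact ⟨⟨1, Submodule.one_le.mp le_rfl⟩, 0, fun h => one_ne_zero (congrArg Subtype.val h)⟩
  | succ n ih =>
    by_contra hcon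
    rw [not_le, lt_min_iff] at hcon
    obtain ⟨hc1, hc2⟩ := hcon
    set B := V ^ n with hB
    have hne : V ^ (n + 1) ≠ ⊤ := by
      intro h
      rw [h, finrank_top] at hc1
      exact lt_irrefl _ hc1
    have hBle : B ≤ V ^ (n + 1) := pow_mono_of_one_mem h1 (Nat.le_succ n)
    have h1B : (1 : L) ∈ B := by
      have := pow_mono_of_one_mem h1 (Nat.zero_le n)
      rw [pow_zero] at this
      exact this (Submodule.one_le.mp le_rfl)
    have hVB : V * B = V ^ (n + 1) := (pow_succ' V n).symm
    have hBtop : B ≠ ⊤ := fun h => hne (eq_top_iff.mpr (h ▸ hBle))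
    have hBfin : 2 * n + 1 ≤ finrank F B := by
      have h2 : finrank F B < finrank F L := Submodule.finrank_lt hBtop
      rcases min_choice (finrank F L) (2 * n + 1) with h | h <;> rw [h] at ih <;> omega
    have hnot : ¬ V * B ≤ B := fun h => hBtop (top_of_mul_le htop h1B h)
    rw [Submodule.mul_le] at hnot
    push Not at hnot
    obtain ⟨v, hv, b, hb, hvb⟩ := hnot
    have hb0 : b ≠ 0 := by
      rintro rfl
      exact hvb (by rw [mul_zero]; exact B.zero_mem)
    set A := V ⊓ B.comap (LinearMap.mulRight F b) with hAdef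
    have hmapA : A.map (LinearMap.mulRight F b) = B ⊓ V.map (LinearMap.mulRight F b) := by
      apply le_antisymm
      · rintro _ ⟨a, ha, rfl⟩
        exact ⟨ha.2, a, ha.1, rfl⟩
      · rintro _ ⟨hx, a, ha, rfl⟩
        exact ⟨a, ⟨ha, hx⟩, rfl⟩
    have hfA : finrank F (A.map (LinearMap.mulRight F b)) = finrank F A :=
      (Submodule.equivMapOfInjective _ (injective_mulRight hb0) A).finrank_eq.symm
    have hfV : finrank F (V.map (LinearMap.mulRight F b)) = finrank F V :=
      (Submodule.equivMapOfInjective _ (injective_mulRight hb0) V).finrank_eq.symm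
    have hsup := Submodule.finrank_sup_add_finrank_inf_eq B (V.map (LinearMap.mulRight F b))
    rw [← hmapA, hfA, hfV] at hsup
    have hsle : B ⊔ V.map (LinearMap.mulRight F b) ≤ V ^ (n + 1) := by
      refine sup_le hBle ?_
      rintro _ ⟨w, hw, rfl⟩
      rw [← hVB]
      exact Submodule.mul_mem_mul hw hb
    have hsfin := Submodule.finrank_mono hsle
    have hAlt : finrank F A < finrank F V := by
      refine Submodule.finrank_lt_finrank_of_lt (lt_of_le_of_ne inf_le_left ?_)
      intro h
      exact hvb (h ▸ hv : v ∈ A).2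
    have heq : B ⊔ V.map (LinearMap.mulRight F b) = V ^ (n + 1) :=
      Submodule.eq_of_le_of_finrank_le hsle (by omega)
    have hA2 : 2 ≤ finrank F A := by omega
    have hstab : A * V ^ (n + 1) ≤ V ^ (n + 1) := by
      conv_lhs => rw [← heq]
      rw [Submodule.mul_sup]
      refine sup_le ?_ ?_
      · rw [← hVB]
        exact mul_le_mul' inf_le_left le_rfl
      · rw [Submodule.mul_le]
        rintro a ha _ ⟨w, hw, rfl⟩
        rw [LinearMap.mulRight_apply, mul_left_comm, ← hVB]
        exact Submodule.mul_mem_mul hw ha.2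
    have := two_mul_le_of_stable h1 htop (n + 1) hstab hA2 hne
    omega

end Dyson

end K978.DysonDim
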