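import Groth.Agent.Curves.K978.DysonDim
import Mathlib.FieldTheory.IntermediateField.Adjoin.Algebra
import Mathlib.RingTheory.IntegralClosure.Algebra.Basic
import Mathlib.RingTheory.Localization.Module

/-!
# Growth of a filtration with bounded poles

`K / k` a field extension, `z` transcendental over `k`, `F = k(z)`, `[K : F] < ∞`, `A`, `B` two `k`-subalgebras of `K`
with `z ∈ A`, `z⁻¹ ∈ B`. `fil A B z n = {f ∈ A | z⁻ⁿ f ∈ B}`.
* `finrank_span_add_le`: for finite dimensional `k`-subspaces `N`, `z N ≤ M`: `dim_F (F M) + dim_k N ≤ dim_k M`;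
* `finrank_fil_succ_le`: `dim_k fil (n + 1) ≤ dim_k fil n + [K : F]`;
* `linearIndependent_of_fil`: if `A ⊓ B = k` and `(x i)` is a family in `fil 1` linearly independent over `k` together
  with `1, z`, then it is linearly independent over `F` together with `1`.
-/

set_option autoImplicit false

open Module Submodule IntermediateField

namespace K978.DysonGrow

variable {k K : Type*} [Field k] [Field K] [Algebra k K]

theorem span_sup (F : IntermediateField k K) (M N : Submodule k K) :
    span F ((M ⊔ N : Submodule k K) : Set K) = span F (M : Set K) ⊔ span F (N : Set K) := by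
  rw [← Submodule.span_union]
  apply le_antisymm
  · rw [Submodule.span_le]
    intro x hx
    obtain ⟨a, ha, b, hb, rfl⟩ := Submodule.mem_sup.mp hx
    exact Submodule.add_mem _ (subset_span (Or.inl ha)) (subset_span (Or.inr hb))
  · refine span_mono (Set.union_subset ?_ ?_)
    · exact le_sup_left (a := M) (b := N)
    · exact le_sup_right (a := M) (b := N)

theorem finrank_span_le (F : IntermediateField k K) (M : Submodule k K) [FiniteDimensional k M] :
    finrank F (span F (M : Set K)) ≤ finrank k M := by
  let b := Module.finBasis k M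
  have h1 : span k (Set.range fun i => (b i : K)) = M := by
    have h2 : (Set.range fun i => (b i : K)) = M.subtype '' Set.range b := by
      rw [← Set.range_comp]
      rfl
    rw [h2, ← Submodule.map_span, b.span_eq, Submodule.map_top, Submodule.range_subtype]
  have h2 : span F (M : Set K) = span F (Set.range fun i => (b i : K)) := by
    conv_lhs => rw [← h1]
    exact Submodule.span_span_of_tower k F _
  rw [h2]
  exact (finrank_range_le_card _).trans (by rw [Fintype.card_fin])

/-- A complement inside a bigger subspace. -/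
theorem exists_compl {M N : Submodule k K} (h : N ≤ M) : ∃ C : Submodule k K, C ≤ M ∧ N ⊓ C = ⊥ ∧ N ⊔ C = M := by
  obtain ⟨D, hD⟩ := Submodule.exists_isCompl N
  refine ⟨D ⊓ M, inf_le_right, ?_, ?_⟩
  · rw [← inf_assoc, hD.inf_eq_bot, bot_inf_eq]
  · rw [← sup_inf_assoc_of_le D h, hD.sup_eq_top, top_inf_eq]

theorem finrank_compl {M N C : Submodule k K} [FiniteDimensional k M] [FiniteDimensional k N] [FiniteDimensional k C]
    (h1 : N ⊓ C = ⊥) (h2 : N ⊔ C = M) : finrank k M = finrank k N + finrank k C := by
  have h3 := Submodule.finrank_sup_add_finrank_inf_eq N C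
  rw [h1, finrank_bot, add_zero, h2] at h3
  exact h3

theorem fd_of_le {M N : Submodule k K} [FiniteDimensional k M] (h : N ≤ M) : FiniteDimensional k N :=
  Submodule.finiteDimensional_of_le h

theorem finrank_span_add_le_of_le (F : IntermediateField k K) [FiniteDimensional F K] {M N : Submodule k K}
    [FiniteDimensional k M] (h : N ≤ M) :
    finrank F (span F (M : Set K)) + finrank k N ≤ finrank F (span F (N : Set K)) + finrank k M := by
  obtain ⟨C, hC, h1, h2⟩ := exists_compl h
  have := fd_of_le h
  have := fd_of_le hC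
  have h3 := finrank_compl h1 h2
  have h4 : finrank F (span F (M : Set K)) ≤ finrank F (span F (N : Set K)) + finrank F (span F (C : Set K)) := by
    rw [← h2, span_sup]
    exact Submodule.finrank_add_le_finrank_add_finrank _ _
  have h5 := finrank_span_le F C
  omega

theorem finrank_span_add_le (F : IntermediateField k K) [FiniteDimensional F K] {z : K} (hzF : z ∈ F)
    (hz : Transcendental k z) :
    ∀ (r : ℕ) (N M : Submodule k K) [FiniteDimensional k M], finrank k N = r → N ≤ M →
      N.map (LinearMap.mulLeft k z) ≤ M → finrank F (span F (M : Set K)) + finrank k N ≤ finrank k M := by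
  have hz0 : z ≠ 0 := by
    rintro rfl
    exact hz (isAlgebraic_zero)
  have hinj : Function.Injective (LinearMap.mulLeft k z) := mul_right_injective₀ hz0
  intro r
  induction r using Nat.strong_induction_on with
  | _ r ih =>
    intro N M _ hr hNM hzN
    have hN := fd_of_le hNM
    by_cases hbot : N = ⊥
    · rw [hbot, finrank_bot, add_zero]
      exact finrank_span_le F M
    · set N' := N ⊓ N.comap (LinearMap.mulLeft k z) with hN'
      have hN'le : N' ≤ N := inf_le_left
      have hN'ne : N' ≠ N := by
        intro h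
        have h1 : IsIntegral k z := isIntegral_of_smul_mem_submodule N hbot
          (Module.Finite.iff_fg.mp hN) z (fun n hn => (h ▸ hn : n ∈ N').2)
        exact hz h1.isAlgebraic
      have hlt : finrank k N' < finrank k N :=
        Submodule.finrank_lt_finrank_of_lt (lt_of_le_of_ne hN'le hN'ne)
      have hmap : N'.map (LinearMap.mulLeft k z) = N ⊓ N.map (LinearMap.mulLeft k z) := by
        apply le_antisymm
        · rintro _ ⟨a, ha, rfl⟩
          exact ⟨ha.2, a, ha.1, rfl⟩
        · rintro _ ⟨hx, a, ha, rfl⟩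
          exact ⟨a, ⟨ha, hx⟩, rfl⟩
      have h1 := ih (finrank k N') (hr ▸ hlt) N' N rfl hN'le (hmap.trans_le inf_le_left)
      have hzN' : FiniteDimensional k ↥(N.map (LinearMap.mulLeft k z)) := fd_of_le hzN
      have hf1 : finrank k ↥(N.map (LinearMap.mulLeft k z)) = finrank k N :=
        (Submodule.equivMapOfInjective _ hinj N).finrank_eq.symm
      have hf2 : finrank k ↥(N'.map (LinearMap.mulLeft k z)) = finrank k N' :=
        (Submodule.equivMapOfInjective _ hinj N').finrank_eq.symm
      have h2 := Submodule.finrank_sup_add_finrank_inf_eq N (N.map (LinearMap.mulLeft k z))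
      rw [← hmap, hf1, hf2] at h2
      have h3 := finrank_span_add_le_of_le F (sup_le hNM hzN)
      have h4 : span F ((N ⊔ N.map (LinearMap.mulLeft k z) : Submodule k K) : Set K) = span F (N : Set K) := by
        rw [span_sup, sup_eq_left, Submodule.span_le]
        rintro _ ⟨a, ha, rfl⟩
        exact (span F (N : Set K)).smul_mem ⟨z, hzF⟩ (subset_span ha)
      rw [h4] at h3
      omega

/-! ### the filtration -/

/-- `{f ∈ A | z⁻ⁿ f ∈ B}`. -/
noncomputable def fil (A B : Subalgebra k K) (z : K) (n : ℕ) : Submodule k K :=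
  Subalgebra.toSubmodule A ⊓ (Subalgebra.toSubmodule B).comap (LinearMap.mulLeft k (z⁻¹ ^ n))

variable {A B : Subalgebra k K} {z : K}

theorem mem_fil {n : ℕ} {f : K} : f ∈ fil A B z n ↔ f ∈ A ∧ z⁻¹ ^ n * f ∈ B := Iff.rfl

theorem fil_le_succ (hzB : z⁻¹ ∈ B) (n : ℕ) : fil A B z n ≤ fil A B z (n + 1) := fun f hf =>
  mem_fil.mpr ⟨hf.1, by rw [pow_succ', mul_assoc]; exact B.mul_mem hzB hf.2⟩

theorem map_fil_le_succ (hz0 : z ≠ 0) (hzA : z ∈ A) (n : ℕ) :
    (fil A B z n).map (LinearMap.mulLeft k z) ≤ fil A B z (n + 1) := by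
  rintro _ ⟨f, hf, rfl⟩
  refine mem_fil.mpr ⟨A.mul_mem hzA hf.1, ?_⟩
  rw [LinearMap.mulLeft_apply, pow_succ, mul_assoc, ← mul_assoc z⁻¹ z f, inv_mul_cancel₀ hz0, one_mul]
  exact hf.2

theorem mul_mem_fil {m n : ℕ} {f g : K} (hf : f ∈ fil A B z m) (hg : g ∈ fil A B z n) : f * g ∈ fil A B z (m + n) := by
  refine mem_fil.mpr ⟨A.mul_mem hf.1 hg.1, ?_⟩
  rw [pow_add, mul_mul_mul_comm]
  exact B.mul_mem hf.2 hg.2

theorem one_mem_fil (hzB : z⁻¹ ∈ B) (n : ℕ) : (1 : K) ∈ fil A B z n :=
  mem_fil.mpr ⟨A.one_mem, by rw [mul_one]; exact B.pow_mem hzB n⟩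

theorem span_pow_le (F : IntermediateField k K) (n : ℕ) (hzB : z⁻¹ ∈ B) :
    span F (fil A B z 1 : Set K) ^ n ≤ span F (fil A B z n : Set K) := by
  induction n with
  | zero =>
    rw [pow_zero, Submodule.one_le]
    exact subset_span (one_mem_fil hzB 0)
  | succ n ih =>
    rw [pow_succ]
    refine (mul_le_mul_left ih _).trans ?_
    rw [Submodule.span_mul_span, Submodule.span_le]
    rintro _ ⟨a, ha, b, hb, rfl⟩
    exact subset_span (mul_mem_fil ha hb)

theorem finrank_fil_add_le (F : IntermediateField k K) [FiniteDimensional F K] (hzF : z ∈ F) (hz : Transcendental k z)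
    (hzA : z ∈ A) (hzB : z⁻¹ ∈ B) (hfin : ∀ n, FiniteDimensional k (fil A B z n))
    (h3 : 3 ≤ finrank F (span F (fil A B z 1 : Set K)))
    (htop : Algebra.adjoin F (fil A B z 1 : Set K) = ⊤) (n : ℕ) :
    finrank k (fil A B z n) + min (finrank F K) (2 * n + 3) ≤ finrank k (fil A B z (n + 1)) := by
  have hz0 : z ≠ 0 := by
    rintro rfl
    exact hz (isAlgebraic_zero)
  have := hfin (n + 1)
  have h1 := finrank_span_add_le F hzF hz _ (fil A B z n) (fil A B z (n + 1)) rfl (fil_le_succ hzB n)
    (map_fil_le_succ hz0 hzA n)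
  have h2 := DysonDim.le_finrank_pow (span F (fil A B z 1 : Set K)) (subset_span (one_mem_fil hzB 1)) h3
    (by rw [Algebra.adjoin_span]; exact htop) (n + 1)
  have h4 := Submodule.finrank_mono (span_pow_le (A := A) (B := B) (z := z) F (n + 1) hzB)
  have h5 : 2 * (n + 1) + 1 = 2 * n + 3 := by ring
  rw [h5] at h2
  omega

end K978.DysonGrow
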