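import Groth.Agent.CycA.MovVec
import Groth.Prelude.Def_CohB1

/-!
# A morphism to the projective plane from two charts
-/

set_option autoImplicit false

universe u

open CategoryTheory CategoryTheory.Limits AlgebraicGeometry TopologicalSpace Opposite

namespace K978.PlaneMap

open Groth.Agent.CycA.MovVec Groth.Agent.VarietyB.ProjStd Groth.Agent.VarietyB.ProjHom Groth.Agent.VarietyB.ProjGlue

attribute [local instance] MvPolynomial.gradedAlgebra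

variable {k : Type u} [Field k] {X : Scheme.{u}} (p : X ⟶ Spec (CommRingCat.of k)) {V₀ V₁ : X.Opens}
  (hsup : V₀ ⊔ V₁ = ⊤) (s₀ h₀ : Γ(X, V₀)) (s₁ h₁ : Γ(X, V₁))
  (hs : X.presheaf.map (homOfLE (inf_le_left : V₀ ⊓ V₁ ≤ V₀)).op s₀ *
    X.presheaf.map (homOfLE (inf_le_right : V₀ ⊓ V₁ ≤ V₁)).op s₁ = 1)
  (hh : X.presheaf.map (homOfLE (inf_le_left : V₀ ⊓ V₁ ≤ V₀)).op h₀ =
    X.presheaf.map (homOfLE (inf_le_left : V₀ ⊓ V₁ ≤ V₀)).op s₀ *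
      X.presheaf.map (homOfLE (inf_le_right : V₀ ⊓ V₁ ≤ V₁)).op h₁)

/-- the two opens -/
def VV (V₀ V₁ : X.Opens) : Bool → X.Opens
  | false => V₀
  | true => V₁

/-- the coordinate vectors -/
noncomputable def gg : (b : Bool) → Fin 3 → Γ(X, VV V₀ V₁ b)
  | false => ![(1 : Γ(X, V₀)), s₀, h₀]
  | true => ![s₁, (1 : Γ(X, V₁)), h₁]

include hs hh in
theorem compat01 : ∃ u : Γ(X, V₀ ⊓ V₁)ˣ, ∀ i : Fin 3,
    X.presheaf.map (homOfLE (inf_le_left : V₀ ⊓ V₁ ≤ V₀)).op (![(1 : Γ(X, V₀)), s₀, h₀] i) =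
      u * X.presheaf.map (homOfLE (inf_le_right : V₀ ⊓ V₁ ≤ V₁)).op (![s₁, (1 : Γ(X, V₁)), h₁] i) := by
  refine ⟨Units.mkOfMulEqOne _ _ hs, fun i => ?_⟩
  fin_cases i
  · simp only [Units.val_mkOfMulEqOne]
    change X.presheaf.map _ (1 : Γ(X, V₀)) = _ * X.presheaf.map _ s₁
    rw [map_one]
    exact hs.symm
  · simp only [Units.val_mkOfMulEqOne]
    change X.presheaf.map _ s₀ = _ * X.presheaf.map _ (1 : Γ(X, V₁))
    rw [map_one, mul_one]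
  · simp only [Units.val_mkOfMulEqOne]
    exact hh

/-- The vector data. -/
noncomputable def data : VecData X (Fin 3) Bool where
  V := VV V₀ V₁
  iSup_V := by
    rw [← hsup, iSup_bool_eq, sup_comm]
    rfl
  g := gg s₀ h₀ s₁ h₁
  t := fun b => match b with
    | false => 0
    | true => 1
  isUnit := fun b => match b with
    | false => isUnit_one
    | true => isUnit_one
  compat := fun a b => match a, b with
    | false, false => ⟨1, fun i => (one_mul _).symm⟩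
    | false, true => compat01 s₀ h₀ s₁ h₁ hs hh
    | true, false => VecData.compat_symm _ _ _ (compat01 s₀ h₀ s₁ h₁ hs hh).choose_spec
    | true, true => ⟨1, fun i => (one_mul _).symm⟩

/-- The standard opens of the plane. -/
noncomputable def DD (k : Type u) [Field k] (i : Fin 3) : (CohB1.ProjSpace 2 k).Opens :=
  Proj.basicOpen (MvPolynomial.homogeneousSubmodule (Fin 3) k) (MvPolynomial.X i)

theorem isAffineOpen_DD (i : Fin 3) : IsAffineOpen (DD k i) := by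
  refine Proj.isAffineOpen_basicOpen _ _ ?_ Nat.one_pos
  exact (MvPolynomial.mem_homogeneousSubmodule 1 _).mpr (MvPolynomial.isHomogeneous_X k i)

/-- The morphism to the plane. -/
noncomputable def toPlane : X ⟶ CohB1.ProjSpace 2 k :=
  (data hsup s₀ h₀ s₁ h₁ hs hh).toProjSpace p

theorem toPlane_toSpec : toPlane p hsup s₀ h₀ s₁ h₁ hs hh ≫ CohB1.ProjSpace.toSpec 2 k = p :=
  (data hsup s₀ h₀ s₁ h₁ hs hh).toProjSpace_toSpec p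

theorem pre0 (h : X.basicOpen s₁ ≤ V₀) : toPlane p hsup s₀ h₀ s₁ h₁ hs hh ⁻¹ᵁ DD k 0 = V₀ := by
  have e1 := (data hsup s₀ h₀ s₁ h₁ hs hh).preimage_inf p false 0
  have e2 := (data hsup s₀ h₀ s₁ h₁ hs hh).preimage_inf p true 0
  change V₀ ⊓ toPlane p hsup s₀ h₀ s₁ h₁ hs hh ⁻¹ᵁ DD k 0 = X.basicOpen (1 : Γ(X, V₀)) at e1
  change V₁ ⊓ toPlane p hsup s₀ h₀ s₁ h₁ hs hh ⁻¹ᵁ DD k 0 = X.basicOpen s₁ at e2
  rw [Scheme.basicOpen_of_isUnit _ isUnit_one] at e1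
  rw [← top_inf_eq (toPlane p hsup s₀ h₀ s₁ h₁ hs hh ⁻¹ᵁ DD k 0), ← hsup, inf_sup_right, e1, e2]
  exact sup_eq_left.2 h

theorem pre1 (h : X.basicOpen s₀ ≤ V₁) : toPlane p hsup s₀ h₀ s₁ h₁ hs hh ⁻¹ᵁ DD k 1 = V₁ := by
  have e1 := (data hsup s₀ h₀ s₁ h₁ hs hh).preimage_inf p false 1
  have e2 := (data hsup s₀ h₀ s₁ h₁ hs hh).preimage_inf p true 1
  change V₀ ⊓ toPlane p hsup s₀ h₀ s₁ h₁ hs hh ⁻¹ᵁ DD k 1 = X.basicOpen s₀ at e1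
  change V₁ ⊓ toPlane p hsup s₀ h₀ s₁ h₁ hs hh ⁻¹ᵁ DD k 1 = X.basicOpen (1 : Γ(X, V₁)) at e2
  rw [Scheme.basicOpen_of_isUnit _ isUnit_one] at e2
  rw [← top_inf_eq (toPlane p hsup s₀ h₀ s₁ h₁ hs hh ⁻¹ᵁ DD k 1), ← hsup, inf_sup_right, e1, e2]
  exact sup_eq_right.2 h

theorem ratio0 (i : Fin 3) (e : V₀ ≤ toPlane p hsup s₀ h₀ s₁ h₁ hs hh ⁻¹ᵁ DD k 0) :
    (toPlane p hsup s₀ h₀ s₁ h₁ hs hh).appLE (DD k 0) V₀ e (ratio (Fin 3) k 0 i) =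
      ![(1 : Γ(X, V₀)), s₀, h₀] i := by
  have h1 := (data hsup s₀ h₀ s₁ h₁ hs hh).map_ratio_mul p false 0 i V₀ le_rfl e
  have h2 : X.presheaf.map (homOfLE (le_refl V₀)).op ((data hsup s₀ h₀ s₁ h₁ hs hh).g false 0) = 1 := by
    change X.presheaf.map _ (1 : Γ(X, V₀)) = 1
    rw [map_one]
  have h3 := (mul_one _).symm.trans ((congrArg (fun t => _ * t) h2.symm).trans h1)
  refine h3.trans ?_
  change X.presheaf.map (𝟙 _) (![(1 : Γ(X, V₀)), s₀, h₀] i) = _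
  rw [X.presheaf.map_id]
  rfl

theorem ratio1 (i : Fin 3) (e : V₁ ≤ toPlane p hsup s₀ h₀ s₁ h₁ hs hh ⁻¹ᵁ DD k 1) :
    (toPlane p hsup s₀ h₀ s₁ h₁ hs hh).appLE (DD k 1) V₁ e (ratio (Fin 3) k 1 i) =
      ![s₁, (1 : Γ(X, V₁)), h₁] i := by
  have h1 := (data hsup s₀ h₀ s₁ h₁ hs hh).map_ratio_mul p true 1 i V₁ le_rfl e
  have h2 : X.presheaf.map (homOfLE (le_refl V₁)).op ((data hsup s₀ h₀ s₁ h₁ hs hh).g true 1) = 1 := by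
    change X.presheaf.map _ (1 : Γ(X, V₁)) = 1
    rw [map_one]
  have h3 := (mul_one _).symm.trans ((congrArg (fun t => _ * t) h2.symm).trans h1)
  refine h3.trans ?_
  change X.presheaf.map (𝟙 _) (![s₁, (1 : Γ(X, V₁)), h₁] i) = _
  rw [X.presheaf.map_id]
  rfl

include hsup hs hh in
/-- **Summary.** -/
theorem exists_plane (hb₀ : X.basicOpen s₀ ≤ V₁) (hb₁ : X.basicOpen s₁ ≤ V₀) :
    ∃ (Φ : X ⟶ CohB1.ProjSpace 2 k) (D₀ D₁ : (CohB1.ProjSpace 2 k).Opens) (e₀ : V₀ = Φ ⁻¹ᵁ D₀) (e₁ : V₁ = Φ ⁻¹ᵁ D₁),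
      Φ ≫ CohB1.ProjSpace.toSpec 2 k = p ∧ IsAffineOpen D₀ ∧ IsAffineOpen D₁ ∧
      (∃ a, Φ.appLE D₀ V₀ e₀.le a = s₀) ∧ (∃ a, Φ.appLE D₀ V₀ e₀.le a = h₀) ∧
      (∃ a, Φ.appLE D₁ V₁ e₁.le a = s₁) ∧ (∃ a, Φ.appLE D₁ V₁ e₁.le a = h₁) :=
  ⟨toPlane p hsup s₀ h₀ s₁ h₁ hs hh, DD k 0, DD k 1, (pre0 p hsup s₀ h₀ s₁ h₁ hs hh hb₁).symm,
    (pre1 p hsup s₀ h₀ s₁ h₁ hs hh hb₀).symm, toPlane_toSpec p hsup s₀ h₀ s₁ h₁ hs hh, isAffineOpen_DD 0,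
    isAffineOpen_DD 1, ⟨_, ratio0 p hsup s₀ h₀ s₁ h₁ hs hh 1 _⟩, ⟨_, ratio0 p hsup s₀ h₀ s₁ h₁ hs hh 2 _⟩,
    ⟨_, ratio1 p hsup s₀ h₀ s₁ h₁ hs hh 0 _⟩, ⟨_, ratio1 p hsup s₀ h₀ s₁ h₁ hs hh 2 _⟩⟩

end K978.PlaneMap
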