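import Groth.Agent.Curves.K978.Charts
import Groth.Agent.Curves.K978.PlaneMap
import Groth.Agent.Curves.K978.IsoRestrict
import Groth.Agent.CycB.ImageInt
import Groth.Agent.Models.H58.NodalGlue
import Groth.Agent.Dix.ProjProper

/-!
# The plane model attached to a good pair of functions
-/

set_option autoImplicit false
set_option backward.isDefEq.respectTransparency.types false

universe u

open CategoryTheory CategoryTheory.Limits AlgebraicGeometry TopologicalSpace Opposite IsLocalRing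

namespace K978.Finish

open Groth.Agent.Picfga RegLocus CurvePts CurveChart
open Groth.Agent.Models.H73 NodeLocal4

attribute [local instance] algK

variable {k : Type u} [Field k] [IsAlgClosed k] {X : Scheme.{u}} [X.Over (Spec (CommRingCat.of k))] [IsIntegral X]
  [IsProper (X ↘ Spec (CommRingCat.of k))] (hval : ∀ x : X, ValuationRing (X.presheaf.stalk x))
  {V₀ V₁ : X.Opens} (hV₀ : IsAffineOpen V₀) (hV₁ : IsAffineOpen V₁)
  (hsup : V₀ ⊔ V₁ = ⊤) (s₀ h₀ : Γ(X, V₀)) (s₁ h₁ : Γ(X, V₁))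
  (hs : X.presheaf.map (homOfLE (inf_le_left : V₀ ⊓ V₁ ≤ V₀)).op s₀ *
    X.presheaf.map (homOfLE (inf_le_right : V₀ ⊓ V₁ ≤ V₁)).op s₁ = 1)
  (hh : X.presheaf.map (homOfLE (inf_le_left : V₀ ⊓ V₁ ≤ V₀)).op h₀ =
    X.presheaf.map (homOfLE (inf_le_left : V₀ ⊓ V₁ ≤ V₀)).op s₀ *
      X.presheaf.map (homOfLE (inf_le_right : V₀ ⊓ V₁ ≤ V₁)).op h₁)
  (hb₀ : X.basicOpen s₀ ≤ V₁) (hb₁ : X.basicOpen s₁ ≤ V₀)
  (hnf₀ : ¬ IsField Γ(X, V₀)) (hnf₁ : ¬ IsField Γ(X, V₁))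
  (good : GoodFun.Good (k := k) s₀ h₀)
  (pole1 : ∀ P : Γ(X, V₁) →ₐ[k] k, P s₁ = 0 → h₁ - algebraMap k Γ(X, V₁) (P h₁) ∉ RingHom.ker P ^ 2)
  (pole2 : ∀ P Q : Γ(X, V₁) →ₐ[k] k, P s₁ = 0 → Q s₁ = 0 → P ≠ Q → P h₁ ≠ Q h₁)

include hval hV₀ hV₁ hsup hs hh hb₀ hb₁ hnf₀ hnf₁ good pole1 pole2 in
theorem exists_model : ∃ (Y : Scheme.{u}) (j : Y ⟶ CohB1.ProjSpace 2 k) (φ : X ⟶ Y), IsClosedImmersion j ∧
      IsIntegral Y ∧ φ ≫ j ≫ CohB1.ProjSpace.toSpec 2 k = (X ↘ (Spec (CommRingCat.of k))) ∧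
      (letI : Y.Over (Spec (CommRingCat.of k)) := ⟨j ≫ CohB1.ProjSpace.toSpec 2 k⟩
       Curv2.AtWorstNodal k Y) ∧
      ∃ U : Y.Opens, (U : Set Y).Nonempty ∧ IsIso (φ ∣_ U) := by
  obtain ⟨Φ, D₀, D₁, e₀, e₁, hΦ, hD₀, hD₁, ⟨a₀, ha₀⟩, ⟨b₀, hb₀'⟩, ⟨a₁, ha₁⟩, ⟨b₁, hb₁'⟩⟩ :=
    PlaneMap.exists_plane (X ↘ Spec (CommRingCat.of k)) hsup s₀ h₀ s₁ h₁ hs hh hb₀ hb₁
  have hPproper : IsProper (CohB1.ProjSpace.toSpec 2 k) := Groth.Agent.Dix.ProjProper.isProper_toSpec 2 k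
  have hΦp : IsProper Φ := by
    have h1 : IsProper (Φ ≫ CohB1.ProjSpace.toSpec 2 k) := by rw [hΦ]; infer_instance
    exact IsProper.of_comp Φ (CohB1.ProjSpace.toSpec 2 k)
  have hint : IsIntegral Φ.image := Groth.Agent.CycB.ImageInt.isIntegral_image Φ
  let Y := Φ.image
  let j : Y ⟶ CohB1.ProjSpace 2 k := Φ.imageι
  let φ : X ⟶ Y := Φ.toImage
  have hφj : φ ≫ j = Φ := Φ.toImage_imageι
  let _ : Y.Over (Spec (CommRingCat.of k)) := ⟨j ≫ CohB1.ProjSpace.toSpec 2 k⟩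
  have hgdef : (Y ↘ Spec (CommRingCat.of k)) = j ≫ CohB1.ProjSpace.toSpec 2 k := rfl
  have hφ : φ ≫ (Y ↘ Spec (CommRingCat.of k)) = X ↘ Spec (CommRingCat.of k) := by
    rw [hgdef, ← Category.assoc, hφj, hΦ]
  have hjc : IsClosedImmersion j := inferInstance
  have hYp : IsProper (Y ↘ Spec (CommRingCat.of k)) := by rw [hgdef]; infer_instance
  have hφp : IsProper φ := by
    have h1 : IsProper (φ ≫ (Y ↘ Spec (CommRingCat.of k))) := by rw [hφ]; infer_instance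
    exact IsProper.of_comp φ (Y ↘ Spec (CommRingCat.of k))
  have hφs : Surjective φ := by
    have hd : IsDominant φ := inferInstance
    constructor
    rw [← Set.range_eq_univ, ← (φ.isClosedMap.isClosed_range).closure_eq]
    exact hd.denseRange.closure_eq
  -- the charts
  let W₀ : Y.Opens := j ⁻¹ᵁ D₀
  let W₁ : Y.Opens := j ⁻¹ᵁ D₁
  have hW₀ : IsAffineOpen W₀ := hD₀.preimage j
  have hW₁ : IsAffineOpen W₁ := hD₁.preimage j
  have eV₀ : V₀ = φ ⁻¹ᵁ W₀ := by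
    rw [e₀, ← hφj, Scheme.Hom.comp_preimage]
  have eV₁ : V₁ = φ ⁻¹ᵁ W₁ := by
    rw [e₁, ← hφj, Scheme.Hom.comp_preimage]
  have hcov : ∀ y : Y, y ∈ W₀ ∨ y ∈ W₁ := by
    intro y
    obtain ⟨x, rfl⟩ := φ.surjective y
    have hx : x ∈ V₀ ⊔ V₁ := by rw [hsup]; trivial
    rcases hx with h | h
    · left
      have h' : x ∈ φ ⁻¹ᵁ W₀ := by rw [← eV₀]; exact h
      exact h'
    · right
      have h' : x ∈ φ ⁻¹ᵁ W₁ := by rw [← eV₁]; exact h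
      exact h'
  have haff : IsAffineHom φ := by
    apply isAffineHom_of_forall_exists_isAffineOpen
    intro y
    rcases hcov y with h | h
    · exact ⟨W₀, h, hW₀, by rw [← eV₀]; exact hV₀⟩
    · exact ⟨W₁, h, hW₁, by rw [← eV₁]; exact hV₁⟩
  have hfin : IsFinite φ := IsFinite.iff_isProper_and_isAffineHom.2 ⟨hφp, haff⟩
  have hLN : IsLocallyNoetherian X := LocallyOfFiniteType.isLocallyNoetherian (X ↘ Spec (CommRingCat.of k))
  have hlift : ∀ (D : (CohB1.ProjSpace 2 k).Opens) (V : X.Opens) (h : V ≤ Φ ⁻¹ᵁ D) (h' : V ≤ φ ⁻¹ᵁ (j ⁻¹ᵁ D))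
      (a : Γ(CohB1.ProjSpace 2 k, D)), φ.appLE (j ⁻¹ᵁ D) V h' (j.app D a) = Φ.appLE D V h a := by
    intro D V h h' a
    have h1 : (φ ≫ j).appLE D V h' = j.app D ≫ φ.appLE (j ⁻¹ᵁ D) V h' := Scheme.Hom.comp_appLE φ j D V h'
    have h2 : (φ ≫ j).appLE D V h' = Φ.appLE D V h := appLE_congr_hom hφj _ _
    rw [← h2, h1]
    rfl
  have hinj₀ : Function.Injective (φ.appLE W₀ V₀ eV₀.le) := Charts.inj_appLE Φ D₀ hD₀ V₀ eV₀
  have hinj₁ : Function.Injective (φ.appLE W₁ V₁ eV₁.le) := Charts.inj_appLE Φ D₁ hD₁ V₁ eV₁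
  have hgood : GoodFun.Good (k := k) (φ.appLE W₀ V₀ eV₀.le (j.app D₀ a₀)) (φ.appLE W₀ V₀ eV₀.le (j.app D₀ b₀)) := by
    rw [hlift D₀ V₀ e₀.le eV₀.le a₀, hlift D₀ V₀ e₀.le eV₀.le b₀, ha₀, hb₀']
    exact good
  refine ⟨Y, j, φ, hjc, hint, ?_, ?_, Charts.bir φ hφ hval W₀ hW₀ V₀ eV₀ hnf₀ hinj₀ _ _ hgood⟩
  · rw [← Category.assoc, hφj, hΦ]
  · intro y hyc
    have hkey : IsRegularLocalRing (Y.presheaf.stalk y) ∨ IsNodeLike (Y.presheaf.stalk y) := by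
      by_cases hy₀ : y ∈ W₀
      · exact Charts.chart0 φ hφ hval W₀ hW₀ V₀ eV₀ hnf₀ y hy₀ hyc hinj₀ _ _ hgood
      have hy₁ := (hcov y).resolve_left hy₀
      have hα : j.app D₁ a₁ ∈ (hW₁.primeIdealOf ⟨y, hy₁⟩).asIdeal := by
        rw [← Groth.Agent.Dix.ClosedAlg.germ_mem_maximalIdeal_iff y W₁ hW₁ hy₁, mem_maximalIdeal, mem_nonunits_iff]
        intro hu
        have hyb : y ∈ Y.basicOpen (j.app D₁ a₁) := (Y.mem_basicOpen _ y hy₁).2 hu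
        obtain ⟨x, rfl⟩ := φ.surjective y
        apply hy₀
        have hx1 : x ∈ X.basicOpen s₁ := by
          have h1 : x ∈ X.basicOpen (φ.appLE W₁ V₁ eV₁.le (j.app D₁ a₁)) := by
            rw [Scheme.basicOpen_appLE]
            refine ⟨?_, hyb⟩
            rw [eV₁]; exact hy₁
          rwa [hlift D₁ V₁ e₁.le eV₁.le a₁, ha₁] at h1
        have hx2 : x ∈ φ ⁻¹ᵁ W₀ := by rw [← eV₀]; exact hb₁ hx1
        exact hx2
      refine Charts.chart1 φ hφ hval W₁ hW₁ V₁ eV₁ hnf₁ y hy₁ hyc hinj₁ (j.app D₁ a₁) (j.app D₁ b₁) hα ?_ ?_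
      · rw [hlift D₁ V₁ e₁.le eV₁.le a₁, hlift D₁ V₁ e₁.le eV₁.le b₁, ha₁, hb₁']
        exact pole1
      · rw [hlift D₁ V₁ e₁.le eV₁.le a₁, hlift D₁ V₁ e₁.le eV₁.le b₁, ha₁, hb₁']
        exact pole2
    rcases hkey with h | h
    · exact Or.inl (Groth.Agent.Models.H58.NodalGlue.exists_smooth_nhd (Y ↘ Spec (CommRingCat.of k)) y h)
    · exact Or.inr (Groth.Agent.Models.H58.NodalGlue.isNode_of_isNodeLike (Y ↘ Spec (CommRingCat.of k)) y hyc h)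

end K978.Finish
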