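import Groth.Agent.Curves.K978.ChartNode
import Groth.Agent.Curves.K978.CurveChart
import Groth.Agent.Sga67.BlowReg
import Groth.Agent.Dix.ClosedAlg

/-!
# The chart criterion on schemes
-/

set_option autoImplicit false
set_option backward.isDefEq.respectTransparency.types false

universe u

open CategoryTheory CategoryTheory.Limits AlgebraicGeometry TopologicalSpace Opposite IsLocalRing

namespace K978.NodeAt

open Groth.Agent.Picfga RegLocus CurvePts CurveChart
open Groth.Agent.Models.H73 NodeLocal4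

attribute [local instance] algK

variable {k : Type u} [Field k] {X Y : Scheme.{u}} [X.Over (Spec (CommRingCat.of k))]
  [Y.Over (Spec (CommRingCat.of k))] (φ : X ⟶ Y)
  (hφ : φ ≫ (Y ↘ Spec (CommRingCat.of k)) = X ↘ Spec (CommRingCat.of k))

include hφ in
theorem appLE_algebraMap (W : Y.Opens) (V : X.Opens) (h : V ≤ φ ⁻¹ᵁ W) (c : k) :
    φ.appLE W V h (algebraMap k Γ(Y, W) c) = algebraMap k Γ(X, V) c := by
  change (coeffHom (Y ↘ Spec (CommRingCat.of k)) W ≫ φ.appLE W V h) c = coeffHom (X ↘ Spec (CommRingCat.of k)) V c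
  congr 2
  rw [coeffHom, coeffHom, Category.assoc, Scheme.Hom.appLE_comp_appLE]
  congr 1
  exact appLE_congr_hom hφ _ _

theorem finiteType_section [LocallyOfFiniteType (Y ↘ Spec (CommRingCat.of k))] (W : Y.Opens) (hW : IsAffineOpen W) :
    Algebra.FiniteType k Γ(Y, W) := by
  have h : ((Y ↘ Spec (CommRingCat.of k)).appLE ⊤ W le_top).hom.FiniteType :=
    (Y ↘ Spec (CommRingCat.of k)).finiteType_appLE (isAffineOpen_top _) hW le_top
  exact RingHom.FiniteType.comp h (RingHom.FiniteType.of_surjective _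
    (ConcreteCategory.bijective_of_isIso (Scheme.ΓSpecIso (CommRingCat.of k)).inv).2)

omit [X.Over (Spec (CommRingCat.of k))] in
/-- The localizations at the nonzero primes are discrete valuation rings. -/
theorem dvr [IsIntegral X] [IsLocallyNoetherian X] (hval : ∀ x : X, ValuationRing (X.presheaf.stalk x))
    (V : X.Opens) (hV : IsAffineOpen V) (q : Ideal Γ(X, V)) (hq : q.IsPrime) (hq0 : q ≠ ⊥) :
    ∃ (_ : IsDomain (Localization.AtPrime q)), IsDiscreteValuationRing (Localization.AtPrime q) := by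
  obtain ⟨⟨x, hx⟩, hxq⟩ := Groth.Agent.Sga67.BlowReg.exists_primeIdealOf_eq hV ⟨q, hq⟩
  have hxq' : (hV.primeIdealOf ⟨x, hx⟩).asIdeal = q := congrArg PrimeSpectrum.asIdeal hxq
  subst hxq'
  have hne : Nonempty V := ⟨⟨x, hx⟩⟩
  have hdom : IsDomain Γ(X, V) := inferInstance
  have e := Groth.Agent.Sga67.BlowReg.stalkEquiv hV hx
  have hd : IsDomain (Localization.AtPrime (hV.primeIdealOf ⟨x, hx⟩).asIdeal) :=
    e.toMulEquiv.isDomain (B := X.presheaf.stalk x)
  have hnf : ¬ IsField (X.presheaf.stalk x) := by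
    intro h
    apply hq0
    have h1 : IsField (Localization.AtPrime (hV.primeIdealOf ⟨x, hx⟩).asIdeal) := e.toMulEquiv.isField h
    rw [eq_bot_iff]
    intro a ha
    have h2 : algebraMap Γ(X, V) (Localization.AtPrime (hV.primeIdealOf ⟨x, hx⟩).asIdeal) a ∈
        maximalIdeal (Localization.AtPrime (hV.primeIdealOf ⟨x, hx⟩).asIdeal) := by
      rw [← Localization.AtPrime.map_eq_maximalIdeal]
      exact Ideal.mem_map_of_mem _ ha
    rw [IsLocalRing.isField_iff_maximalIdeal_eq.1 h1, Ideal.mem_bot] at h2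
    have hinj : Function.Injective (algebraMap Γ(X, V) (Localization.AtPrime (hV.primeIdealOf ⟨x, hx⟩).asIdeal)) :=
      IsLocalization.injective _ (M := (hV.primeIdealOf ⟨x, hx⟩).asIdeal.primeCompl)
        (Ideal.primeCompl_le_nonZeroDivisors _)
    rw [Ideal.mem_bot]
    exact hinj (h2.trans (map_zero _).symm)
  have h3 : IsDiscreteValuationRing (X.presheaf.stalk x) :=
    ((IsDiscreteValuationRing.TFAE (X.presheaf.stalk x) hnf).out 1 0).1 (hval x)
  exact ⟨hd, _root_.IsDiscreteValuationRing.RingEquivClass.isDiscreteValuationRing e.symm⟩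

variable [IsAlgClosed k] [IsIntegral X] [IsLocallyNoetherian X] [IsFinite φ]
  [LocallyOfFiniteType (Y ↘ Spec (CommRingCat.of k))]
  (hval : ∀ x : X, ValuationRing (X.presheaf.stalk x)) (W : Y.Opens) (hW : IsAffineOpen W)
  (V : X.Opens) (hV : V = φ ⁻¹ᵁ W) (hnf : ¬ IsField Γ(X, V))
  (y : Y) (hy : y ∈ W) (hyc : IsClosed ({y} : Set Y))

include hW in
theorem finite_appLE : (φ.appLE W V hV.le).hom.Finite := by
  subst hV
  rw [Scheme.Hom.appLE_eq_app]
  exact φ.finite_app W hW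

include hφ hval hnf hyc in
/-- **The chart criterion.** -/
theorem regular_or_nodeLike (hinj : Function.Injective (φ.appLE W V hV.le))
    (tan : ∀ P : Γ(X, V) →ₐ[k] k, (RingHom.ker P).comap (φ.appLE W V hV.le).hom = (hW.primeIdealOf ⟨y, hy⟩).asIdeal →
      ∃ a : Γ(Y, W), P (φ.appLE W V hV.le a) = 0 ∧ φ.appLE W V hV.le a ∉ RingHom.ker P ^ 2)
    (pair : ∀ P Q : Γ(X, V) →ₐ[k] k,
      (RingHom.ker P).comap (φ.appLE W V hV.le).hom = (hW.primeIdealOf ⟨y, hy⟩).asIdeal →
      (RingHom.ker Q).comap (φ.appLE W V hV.le).hom = (hW.primeIdealOf ⟨y, hy⟩).asIdeal → P ≠ Q →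
      ∃ a : Γ(Y, W), P (φ.appLE W V hV.le a) = 0 ∧ φ.appLE W V hV.le a ∉ RingHom.ker P ^ 2 ∧
        φ.appLE W V hV.le a ∈ RingHom.ker Q ^ 2)
    (triple : ∀ P Q R : Γ(X, V) →ₐ[k] k,
      (RingHom.ker P).comap (φ.appLE W V hV.le).hom = (hW.primeIdealOf ⟨y, hy⟩).asIdeal →
      (RingHom.ker Q).comap (φ.appLE W V hV.le).hom = (hW.primeIdealOf ⟨y, hy⟩).asIdeal →
      (RingHom.ker R).comap (φ.appLE W V hV.le).hom = (hW.primeIdealOf ⟨y, hy⟩).asIdeal →
      P = Q ∨ Q = R ∨ P = R) :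
    IsRegularLocalRing (Y.presheaf.stalk y) ∨ IsNodeLike (Y.presheaf.stalk y) := by
  let _ : Algebra Γ(Y, W) Γ(X, V) := (φ.appLE W V hV.le).hom.toAlgebra
  have htower : IsScalarTower k Γ(Y, W) Γ(X, V) := IsScalarTower.of_algebraMap_eq fun c =>
    (appLE_algebraMap φ hφ W V hV.le c).symm
  have hft := finiteType_section (k := k) W hW
  have hfin : Module.Finite Γ(Y, W) Γ(X, V) := finite_appLE φ W hW V hV
  let _ : Algebra Γ(Y, W) (Y.presheaf.stalk y) := Y.presheaf.algebra_section_stalk ⟨y, hy⟩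
  have hloc : IsLocalization.AtPrime (Y.presheaf.stalk y) (hW.primeIdealOf ⟨y, hy⟩).asIdeal :=
    hW.isLocalization_stalk ⟨y, hy⟩
  have hpmax := Groth.Agent.Dix.ClosedAlg.isMaximal_primeIdealOf y hyc W hW hy
  have hVa : IsAffineOpen V := by
    rw [hV]; exact hW.preimage φ
  refine ChartNode.regular_or_nodeLike (k := k) (hW.primeIdealOf ⟨y, hy⟩).asIdeal hinj (fun q hq hqp => ?_)
    tan pair triple
  refine dvr hval V hVa q hq ?_
  rintro rfl
  have hqm : (⊥ : Ideal Γ(X, V)).IsMaximal := Ideal.isMaximal_of_isIntegral_of_isMaximal_comap (R := Γ(Y, W)) _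
    (by rw [hqp]; exact hpmax)
  have hnt : Nontrivial Γ(X, V) := ⟨⟨0, 1, fun h => hqm.ne_top (by
    rw [Ideal.eq_top_iff_one, ← h]; exact Ideal.zero_mem _)⟩⟩
  exact hnf (Ring.isField_iff_maximal_bot.2 hqm)

end K978.NodeAt
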