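import Mathlib.GroupTheory.CosetCover
import Mathlib.RingTheory.Ideal.MinimalPrime.Noetherian
import Mathlib.RingTheory.Spectrum.Prime.Topology
import Mathlib.RingTheory.Localization.AtPrime.Basic
import Mathlib.RingTheory.Ideal.GoingUp

/-!
# A pencil argument over a ring of dimension at most one

`exists_pencil`: two linear maps `a b : W → C` into a Noetherian ring of dimension `≤ 1` such that at every maximal
ideal the vectors `(a w, b w)` span a plane; then for a general `w` the elements `a w`, `b w` generate the unit ideal.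
-/

set_option autoImplicit false

namespace K978.Pencil

/-- A vector outside finitely many proper subspaces. -/
theorem exists_avoid {k W : Type*} [Field k] [Infinite k] [AddCommGroup W] [Module k W]
    (F : Set (Submodule k W)) (hF : F.Finite) (h : ∀ V ∈ F, V ≠ ⊤) : ∃ w : W, ∀ V ∈ F, w ∉ V := by
  have h1 := Subspace.biUnion_ne_univ_of_top_notMem (k := k) (E := W) (s := hF.toFinset)
    (fun ht => h ⊤ (hF.mem_toFinset.1 ht) rfl)
  by_contra! hcon
  apply h1
  rw [Set.eq_univ_iff_forall]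
  intro w
  obtain ⟨V, hV, hw⟩ := hcon w
  simp only [Set.mem_iUnion]
  exact ⟨V, hF.mem_toFinset.2 hV, hw⟩

/-- The condition "every prime is minimal or maximal" passes along a map injective on spectra. -/
theorem dim_of_comap_injective {T C : Type*} [CommRing T] [CommRing C] (φ : T →+* C)
    (hinj : Function.Injective (PrimeSpectrum.comap φ))
    (hT : ∀ p : Ideal T, p.IsPrime → p ∈ minimalPrimes T ∨ p.IsMaximal) (p : Ideal C) (hp : p.IsPrime) :
    p ∈ minimalPrimes C ∨ p.IsMaximal := by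
  by_cases hmin : p ∈ minimalPrimes C
  · exact Or.inl hmin
  right
  -- there is a smaller prime
  obtain ⟨q, hq, hqp⟩ := Ideal.exists_minimalPrimes_le (I := (⊥ : Ideal C)) (J := p) bot_le
  have hq' : q.IsPrime := hq.1.1
  have hne : q ≠ p := fun h => hmin (h ▸ hq)
  have hcm : p.comap φ ∉ minimalPrimes T := by
    intro h
    have h1 : q.comap φ ≤ p.comap φ := Ideal.comap_mono hqp
    have h2 : p.comap φ ≤ q.comap φ := h.2 ⟨Ideal.comap_isPrime φ q, bot_le⟩ h1
    have h3 : PrimeSpectrum.comap φ ⟨q, hq'⟩ = PrimeSpectrum.comap φ ⟨p, hp⟩ :=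
      PrimeSpectrum.ext (le_antisymm h1 h2)
    exact hne (congrArg PrimeSpectrum.asIdeal (hinj h3))
  have hmax := (hT (p.comap φ) (Ideal.comap_isPrime φ p)).resolve_left hcm
  obtain ⟨m, hm, hpm⟩ := Ideal.exists_le_maximal p hp.ne_top
  have hm' : m.IsPrime := hm.isPrime
  have h4 : p.comap φ = m.comap φ := hmax.eq_of_le (Ideal.comap_isPrime φ m).ne_top (Ideal.comap_mono hpm)
  have h5 : PrimeSpectrum.comap φ ⟨p, hp⟩ = PrimeSpectrum.comap φ ⟨m, hm'⟩ := PrimeSpectrum.ext h4
  have h6 : p = m := congrArg PrimeSpectrum.asIdeal (hinj h5)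
  rwa [h6]

/-- An algebra integral over a domain all of whose nonzero primes are maximal has only minimal or maximal primes. -/
theorem dim_of_integral {R T : Type*} [CommRing R] [IsDomain R] [CommRing T] [Algebra R T] [Algebra.IsIntegral R T]
    (hR : ∀ p : Ideal R, p.IsPrime → p ≠ ⊥ → p.IsMaximal) (p : Ideal T) (hp : p.IsPrime) :
    p ∈ minimalPrimes T ∨ p.IsMaximal := by
  by_cases hmin : p ∈ minimalPrimes T
  · exact Or.inl hmin
  right
  obtain ⟨q, hq, hqp⟩ := Ideal.exists_minimalPrimes_le (I := (⊥ : Ideal T)) (J := p) bot_le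
  have hq' : q.IsPrime := hq.1.1
  have hlt : q < p := lt_of_le_of_ne hqp (fun h => hmin (h ▸ hq))
  have h1 : q.comap (algebraMap R T) < p.comap (algebraMap R T) := Ideal.IsIntegral.comap_lt_comap hlt
  exact Ideal.isMaximal_of_isIntegral_of_isMaximal_comap p
    (hR _ (Ideal.comap_isPrime _ p) (bot_le.trans_lt h1).ne')

section

variable {k W C : Type*} [Field k] [Infinite k] [AddCommGroup W] [Module k W] [CommRing C] [Algebra k C]

/-- The vectors `w` with `a w, b w ∈ p`. -/
def both (a b : W →ₗ[k] C) (p : Ideal C) : Submodule k W :=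
  (p.restrictScalars k).comap a ⊓ (p.restrictScalars k).comap b

omit [Infinite k] in
theorem mem_both {a b : W →ₗ[k] C} {p : Ideal C} {w : W} : w ∈ both a b p ↔ a w ∈ p ∧ b w ∈ p := Iff.rfl

omit [Infinite k] in
theorem both_ne_top {a b : W →ₗ[k] C} {p : Ideal C} {w w' : W} (h : a w * b w' - a w' * b w ∉ p) :
    both a b p ≠ ⊤ := by
  intro ht
  apply h
  have h1 : w ∈ both a b p := by rw [ht]; trivial
  have h2 : w' ∈ both a b p := by rw [ht]; trivial
  exact p.sub_mem (p.mul_mem_right _ h1.1) (p.mul_mem_right _ h2.1)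

/-- The maximal ideals containing an ideal which is in no minimal prime are finite in number. -/
theorem finite_max [IsNoetherianRing C]
    (hdim : ∀ p : Ideal C, p.IsPrime → p ∈ minimalPrimes C ∨ p.IsMaximal) (I : Ideal C)
    (hI : ∀ p ∈ minimalPrimes C, ¬ I ≤ p) : {m : Ideal C | m.IsMaximal ∧ I ≤ m}.Finite := by
  refine (Ideal.finite_minimalPrimes_of_isNoetherianRing C I).subset ?_
  rintro m ⟨hm, hIm⟩
  have hmp := hm.isPrime
  obtain ⟨q, hq, hqm⟩ := Ideal.exists_minimalPrimes_le hIm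
  have hqp : q.IsPrime := hq.1.1
  have h1 := (hdim q hqp).resolve_left (fun h => hI q h hq.1.2)
  rwa [← h1.eq_of_le hm.ne_top hqm]

/-- **The pencil argument.** -/
theorem exists_pencil [IsNoetherianRing C]
    (hdim : ∀ p : Ideal C, p.IsPrime → p ∈ minimalPrimes C ∨ p.IsMaximal)
    (a b : W →ₗ[k] C) (h : ∀ m : Ideal C, m.IsMaximal → ∃ w w', a w * b w' - a w' * b w ∉ m)
    (F : Set (Submodule k W)) (hF : F.Finite) (hFt : ∀ V ∈ F, V ≠ ⊤) :
    ∃ w, (∀ V ∈ F, w ∉ V) ∧ ∀ m : Ideal C, m.IsMaximal → a w ∈ m → b w ∉ m := by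
  have hp : ∀ p : Ideal C, p.IsPrime → ∃ w w', a w * b w' - a w' * b w ∉ p := by
    intro p hp
    obtain ⟨m, hm, hpm⟩ := Ideal.exists_le_maximal p hp.ne_top
    obtain ⟨w, w', hw⟩ := h m hm
    exact ⟨w, w', fun hcon => hw (hpm hcon)⟩
  have hminfin : (minimalPrimes C).Finite := minimalPrimes.finite_of_isNoetherianRing C
  -- the first vector
  obtain ⟨w1, hw1⟩ := exists_avoid (k := k) ((fun p => both a b p) '' minimalPrimes C) (hminfin.image _) (by
    rintro _ ⟨p, hp', rfl⟩
    obtain ⟨w, w', hw⟩ := hp p hp'.1.1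
    exact both_ne_top hw)
  have hw1' : ∀ p ∈ minimalPrimes C, ¬ (a w1 ∈ p ∧ b w1 ∈ p) := fun p hp' hcon => hw1 _ ⟨p, hp', rfl⟩ hcon
  have hF1 := finite_max hdim (Ideal.span {a w1, b w1}) (fun p hp' hle => hw1' p hp'
    ⟨hle (Ideal.subset_span (by simp)), hle (Ideal.subset_span (by simp))⟩)
  -- the determinant with the first vector
  let δ : W →ₗ[k] C := LinearMap.mulRight k (b w1) ∘ₗ a - LinearMap.mulLeft k (a w1) ∘ₗ b
  have hδ : ∀ w, δ w = a w * b w1 - a w1 * b w := fun w => rfl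
  have hδne : ∀ p ∈ minimalPrimes C, (p.restrictScalars k).comap δ ≠ ⊤ := by
    intro p hp' ht
    have hpp : p.IsPrime := hp'.1.1
    have h1 : ∀ w, a w * b w1 - a w1 * b w ∈ p := by
      intro w
      have : w ∈ (p.restrictScalars k).comap δ := by rw [ht]; trivial
      exact this
    obtain ⟨w, w', hw⟩ := hp p hpp
    apply hw1' p hp'
    constructor
    · have h2 : a w1 * (a w * b w' - a w' * b w) ∈ p := by
        have h3 : a w1 * (a w * b w' - a w' * b w) =
          a w' * (a w * b w1 - a w1 * b w) * (-1) * (-1) - a w * (a w' * b w1 - a w1 * b w') := by ring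
        rw [h3]
        refine p.sub_mem (p.mul_mem_right _ (p.mul_mem_right _ (p.mul_mem_left _ (h1 w)))) (p.mul_mem_left _ (h1 w'))
      exact (hpp.mem_or_mem h2).resolve_right hw
    · have h2 : b w1 * (a w * b w' - a w' * b w) ∈ p := by
        have h3 : b w1 * (a w * b w' - a w' * b w) =
          b w' * (a w * b w1 - a w1 * b w) - b w * (a w' * b w1 - a w1 * b w') := by ring
        rw [h3]
        exact p.sub_mem (p.mul_mem_left _ (h1 w)) (p.mul_mem_left _ (h1 w'))
      exact (hpp.mem_or_mem h2).resolve_right hw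
  -- the second vector
  obtain ⟨w2, hw2⟩ := exists_avoid (k := k)
    (((fun p : Ideal C => (p.restrictScalars k).comap δ) '' minimalPrimes C) ∪
      ((fun p => both a b p) '' {m : Ideal C | m.IsMaximal ∧ Ideal.span {a w1, b w1} ≤ m}) ∪ F)
    (((hminfin.image _).union (hF1.image _)).union hF) (by
      rintro V ((⟨p, hp', rfl⟩ | ⟨m, ⟨hm, -⟩, rfl⟩) | hV)
      · exact hδne p hp'
      · obtain ⟨w, w', hw⟩ := h m hm
        exact both_ne_top hw
      · exact hFt V hV)
  have hw2a : ∀ p ∈ minimalPrimes C, a w2 * b w1 - a w1 * b w2 ∉ p := fun p hp' hcon =>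
    hw2 _ (Or.inl (Or.inl ⟨p, hp', rfl⟩)) hcon
  have hw2b : ∀ m : Ideal C, m.IsMaximal → a w1 ∈ m → b w1 ∈ m → ¬ (a w2 ∈ m ∧ b w2 ∈ m) := by
    intro m hm h1 h2 hcon
    refine hw2 _ (Or.inl (Or.inr ⟨m, ⟨hm, ?_⟩, rfl⟩)) hcon
    rw [Ideal.span_le]
    rintro x (rfl | rfl)
    exacts [h1, h2]
  have hw2c : ∀ V ∈ F, w2 ∉ V := fun V hV => hw2 V (Or.inr hV)
  have hF2 := finite_max hdim (Ideal.span {a w2 * b w1 - a w1 * b w2}) (fun p hp' hle => hw2a p hp'
    (hle (Ideal.subset_span rfl)))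
  -- the bad constants
  let S1 : Ideal C → Set k := fun m => {c | a (w2 + c • w1) ∈ m ∧ b (w2 + c • w1) ∈ m}
  let S2 : Submodule k W → Set k := fun V => {c | w2 + c • w1 ∈ V}
  have hS1 : ∀ m : Ideal C, m.IsMaximal → (S1 m).Subsingleton := by
    rintro m hm c ⟨hc1, hc2⟩ d ⟨hd1, hd2⟩
    by_contra hne
    have hu : c - d ≠ 0 := sub_ne_zero.2 hne
    have h1 : ∀ g : W →ₗ[k] C, g (w2 + c • w1) ∈ m → g (w2 + d • w1) ∈ m → g w1 ∈ m := by
      intro g h1 h2
      have h3 := m.sub_mem h1 h2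
      rw [← map_sub, add_sub_add_left_eq_sub, ← sub_smul, map_smul] at h3
      have h4 := m.mul_mem_left (algebraMap k C (c - d)⁻¹) h3
      rwa [← Algebra.smul_def, smul_smul, inv_mul_cancel₀ hu, one_smul] at h4
    have ha1 := h1 a hc1 hd1
    have hb1 := h1 b hc2 hd2
    refine hw2b m hm ha1 hb1 ⟨?_, ?_⟩
    · have h3 : a w2 = a (w2 + c • w1) - algebraMap k C c * a w1 := by
        rw [map_add, map_smul, Algebra.smul_def]; ring
      rw [h3]
      exact m.sub_mem hc1 (m.mul_mem_left _ ha1)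
    · have h3 : b w2 = b (w2 + c • w1) - algebraMap k C c * b w1 := by
        rw [map_add, map_smul, Algebra.smul_def]; ring
      rw [h3]
      exact m.sub_mem hc2 (m.mul_mem_left _ hb1)
  have hS2 : ∀ V ∈ F, (S2 V).Subsingleton := by
    rintro V hV c hc d hd
    by_contra hne
    have hu : c - d ≠ 0 := sub_ne_zero.2 hne
    have h3 := V.sub_mem hc hd
    rw [add_sub_add_left_eq_sub, ← sub_smul] at h3
    have h4 := V.smul_mem (c - d)⁻¹ h3
    rw [smul_smul, inv_mul_cancel₀ hu, one_smul] at h4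
    apply hw2c V hV
    have h5 := V.sub_mem hc (V.smul_mem c h4)
    rwa [add_sub_cancel_right] at h5
  have hbad : ((⋃ m ∈ {m : Ideal C | m.IsMaximal ∧ Ideal.span {a w2 * b w1 - a w1 * b w2} ≤ m}, S1 m) ∪
      ⋃ V ∈ F, S2 V).Finite :=
    (hF2.biUnion fun m hm => (hS1 m hm.1).finite).union (hF.biUnion fun V hV => (hS2 V hV).finite)
  obtain ⟨c, hc⟩ := hbad.exists_notMem
  simp only [Set.mem_union, Set.mem_iUnion, not_or, not_exists] at hc
  refine ⟨w2 + c • w1, fun V hV hcon => hc.2 V hV hcon, fun m hm h1 h2 => ?_⟩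
  refine hc.1 m ⟨hm, ?_⟩ ⟨h1, h2⟩
  rw [Ideal.span_le]
  rintro x rfl
  have h3 : a w2 * b w1 - a w1 * b w2 = a (w2 + c • w1) * b w1 - a w1 * b (w2 + c • w1) := by
    rw [map_add, map_add, map_smul, map_smul, Algebra.smul_def, Algebra.smul_def]; ring
  change a w2 * b w1 - a w1 * b w2 ∈ m
  rw [h3]
  exact m.sub_mem (m.mul_mem_right _ h1) (m.mul_mem_left _ h2)

end

end K978.Pencil
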