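import Groth.Agent.Curves.K978.CurveChoice
import Groth.Agent.Curves.K978.DysonGrow
import Groth.Agent.Fdesc.LocGen
import Groth.Agent.CurvesB.HZero

/-!
# Global sections of a line bundle trivial on two open sets as rational functions

`X` integral over a field `k`, `U₀ ⊔ U₁ = ⊤`, `M` a module with generators `e₀` over `U₀`, `e₁` over `U₁` and
`e₁ = zⁿ e₀` on the intersection. Then `H^0(X, M) ≃ {f ∈ K | f ∈ 𝒪(U₀), z⁻ⁿ f ∈ 𝒪(U₁)}`.
-/

set_option autoImplicit false
set_option backward.isDefEq.respectTransparency.types false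

universe u

open CategoryTheory CategoryTheory.Limits AlgebraicGeometry TopologicalSpace Opposite

namespace K978.SecFil

open Groth.Agent.Picfga RegLocus CurvePts CurveP1 CurveChart CurveChoice DysonGrow
open Groth.Agent.Fdesc.LocGen Groth.Agent.CurvesB.HZero

attribute [local instance] algK algKK

variable {k : Type u} [Field k] {X : Scheme.{u}} [X.Over (Spec (CommRingCat.of k))] [IsIntegral X]

/-- The rational functions regular on `U`. -/
noncomputable def regs (k : Type u) [Field k] [X.Over (Spec (CommRingCat.of k))] (U : X.Opens) [Nonempty U] :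
    Subalgebra k X.functionField :=
  have := tower k X U
  (IsScalarTower.toAlgHom k Γ(X, U) X.functionField).range

theorem mem_regs {U : X.Opens} [Nonempty U] {f : X.functionField} : f ∈ regs k U ↔ ∃ a : Γ(X, U), gm a = f :=
  Iff.rfl

theorem gm_mem_regs {U : X.Opens} [Nonempty U] (a : Γ(X, U)) : gm a ∈ regs k U := mem_regs.mpr ⟨a, rfl⟩

omit [X.Over (Spec (CommRingCat.of k))] in
theorem gm_ores {U V : X.Opens} [Nonempty U] [Nonempty V] (h : V ≤ U) (s : Γ(X, U)) : gm (ores h s) = gm s :=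
  gm_res h s

theorem gm_gl {U : X.Opens} [Nonempty U] (t : k) : gm (ores (le_top : U ≤ ⊤) (gl k X t)) = algebraMap k X.functionField t := by
  rw [← gm_algebraMap (U := U) t]
  rfl

theorem gm_one' {U : X.Opens} [Nonempty U] : gm (1 : Γ(X, U)) = 1 := map_one _

theorem nonempty_inf (U V : X.Opens) [hU : Nonempty U] [hV : Nonempty V] : Nonempty (U ⊓ V : X.Opens) := by
  obtain ⟨x, hx⟩ := (PreirreducibleSpace.isPreirreducible_univ (X := X)) U V U.isOpen V.isOpen
    ⟨hU.some.1, trivial, hU.some.2⟩ ⟨hV.some.1, trivial, hV.some.2⟩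
  exact ⟨⟨x, hx.2⟩⟩

section

variable {U₀ U₁ : X.Opens} [Nonempty U₀] [Nonempty U₁] (hU : U₀ ⊔ U₁ = ⊤) {M : X.Modules}
  {e₀ : Γ(M, U₀)} (he₀ : IsGen e₀) {e₁ : Γ(M, U₁)} (he₁ : IsGen e₁)

omit [IsIntegral X] [Nonempty U₀] [Nonempty U₁] in
theorem exists_coord {U : X.Opens} {e : Γ(M, U)} (he : IsGen e) :
    ∃ c : Γ(M, U) → Γ(X, U), (∀ m, c m • e = m) ∧ (∀ m m', c (m + m') = c m + c m') ∧
      ∀ a m, c (a • m) = a * c m := by
  choose c hc using fun m => he.exists_eq m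
  refine ⟨c, fun m => (hc m).symm, fun m m' => he.ext ?_, fun a m => he.ext ?_⟩
  · rw [← hc, add_smul, ← hc, ← hc]
  · rw [← hc, mul_smul, ← hc]

omit [X.Over (Spec (CommRingCat.of k))] [IsIntegral X] [Nonempty U₀] [Nonempty U₁] in
theorem two_cover (hU : U₀ ⊔ U₁ = ⊤) : (⊤ : X.Opens) ≤ ⨆ b : Bool, (cond b U₁ U₀) := by
  rw [← hU]
  exact sup_le (le_iSup (fun b : Bool => cond b U₁ U₀) false) (le_iSup (fun b : Bool => cond b U₁ U₀) true)

include hU he₀ he₁ in
/-- **Sections as rational functions.** -/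
theorem exists_equiv (n : ℕ) {z : X.functionField} (hz : z ≠ 0) (w : Γ(X, U₀ ⊓ U₁)) [Nonempty (U₀ ⊓ U₁ : X.Opens)]
    (hw : gm w = z ^ n) (hrel : res M (inf_le_right : U₀ ⊓ U₁ ≤ U₁) e₁ = w • res M (inf_le_left : U₀ ⊓ U₁ ≤ U₀) e₀) :
    ∃ Φ : Coh.HH X M 0 ≃ₗ[k] fil (regs k U₀) (regs k U₁) z n, ∀ (x : Coh.HH X M 0) (a : Γ(X, U₀)),
      res M (le_top : U₀ ≤ ⊤) (equivAdd M x) = a • e₀ → (Φ x : X.functionField) = gm a := by
  obtain ⟨c₀, hc₀, hadd, hsmul⟩ := exists_coord he₀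
  have hadd' : ∀ m m', c₀ (m + m') = c₀ m + c₀ m' := hadd
  let Φ : Coh.HH X M 0 →ₗ[k] X.functionField :=
    { toFun := fun x => gm (c₀ (res M (le_top : U₀ ≤ ⊤) (equivAdd M x)))
      map_add' := fun x y => by
        rw [map_add, map_add, hadd, gm, map_add]
      map_smul' := fun t x => by
        rw [equivAdd_smul_over, res_smul, hsmul, gm_mul, gm_gl, RingHom.id_apply, Algebra.smul_def] }
  have hΦ : ∀ x, Φ x = gm (c₀ (res M (le_top : U₀ ≤ ⊤) (equivAdd M x))) := fun x => rfl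
  have hrest : ∀ (s : Γ(M, ⊤)) (c₁ : Γ(X, U₁)), res M (le_top : U₁ ≤ ⊤) s = c₁ • e₁ →
      gm (c₀ (res M (le_top : U₀ ≤ ⊤) s)) = gm c₁ * z ^ n := by
    intro s c₁ h1
    have h2 : res M (inf_le_left : U₀ ⊓ U₁ ≤ U₀) (res M (le_top : U₀ ≤ ⊤) s) =
        res M (inf_le_right : U₀ ⊓ U₁ ≤ U₁) (res M (le_top : U₁ ≤ ⊤) s) := by
      rw [res_res, res_res]
    rw [h1, ← hc₀ (res M (le_top : U₀ ≤ ⊤) s), res_smul, res_smul, hrel, smul_smul] at h2
    have h3 := (he₀.res inf_le_left).ext h2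
    rw [← gm_ores (inf_le_left : U₀ ⊓ U₁ ≤ U₀), h3, gm_mul, gm_ores, hw]
  have hinj : Function.Injective Φ := by
    rw [injective_iff_map_eq_zero]
    intro x hx
    rw [hΦ] at hx
    obtain ⟨c₁, h1⟩ := he₁.exists_eq (res M (le_top : U₁ ≤ ⊤) (equivAdd M x))
    have h2 := hrest _ _ h1
    rw [hx, eq_comm, mul_eq_zero, or_iff_left (pow_ne_zero n hz)] at h2
    have h3 : c₁ = 0 := gm_inj (by rw [h2, gm, map_zero])
    have h4 : c₀ (res M (le_top : U₀ ≤ ⊤) (equivAdd M x)) = 0 := gm_inj (by rw [hx, gm, map_zero])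
    apply (equivAdd M).injective
    rw [map_zero]
    refine res_ext M (fun b : Bool => cond b U₁ U₀) (fun _ => le_top) (two_cover hU) ?_
    rintro (_ | _)
    · change res M (le_top : U₀ ≤ ⊤) (equivAdd M x) = res M (le_top : U₀ ≤ ⊤) 0
      rw [← hc₀ (res M (le_top : U₀ ≤ ⊤) (equivAdd M x)), h4, zero_smul, map_zero]
    · change res M (le_top : U₁ ≤ ⊤) (equivAdd M x) = res M (le_top : U₁ ≤ ⊤) 0
      rw [h1, h3, zero_smul, map_zero]
  have hrange : LinearMap.range Φ = fil (regs k U₀) (regs k U₁) z n := by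
    apply le_antisymm
    · rintro _ ⟨x, rfl⟩
      obtain ⟨c₁, h1⟩ := he₁.exists_eq (res M (le_top : U₁ ≤ ⊤) (equivAdd M x))
      have h2 := hrest _ _ h1
      refine mem_fil.mpr ⟨gm_mem_regs _, ?_⟩
      rw [hΦ, h2, mul_comm, mul_assoc, ← mul_pow, mul_inv_cancel₀ hz, one_pow, mul_one]
      exact gm_mem_regs _
    · intro f hf
      obtain ⟨⟨a, ha⟩, ⟨b, hb⟩⟩ := mem_fil.mp hf
      have ha' : gm a = f := ha
      have hb' : gm b = z⁻¹ ^ n * f := hb
      let s : ∀ b' : Bool, Γ(M, (cond b' U₁ U₀)) := fun b' => match b' with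
        | false => a • e₀
        | true => b • e₁
      have hfb : gm b * z ^ n = f := by
        rw [hb', mul_comm, ← mul_assoc, ← mul_pow, mul_inv_cancel₀ hz, one_pow, one_mul]
      have hcomp : res M (inf_le_left : U₀ ⊓ U₁ ≤ U₀) (a • e₀) = res M (inf_le_right : U₀ ⊓ U₁ ≤ U₁) (b • e₁) := by
        rw [res_smul, res_smul, hrel, smul_smul]
        congr 1
        apply gm_inj
        rw [gm_ores, ha', gm_mul, gm_ores, hw, hfb]
      obtain ⟨t, ht⟩ := res_glue M (fun b' : Bool => cond b' U₁ U₀) (fun _ => le_top) (two_cover hU) s (by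
        rintro (_ | _) (_ | _)
        · rfl
        · exact hcomp
        · have h1 := congrArg (res M (le_of_eq (inf_comm U₁ U₀) : U₁ ⊓ U₀ ≤ U₀ ⊓ U₁)) hcomp
          rw [res_res, res_res] at h1
          exact h1.symm
        · rfl)
      refine ⟨(equivAdd M).symm t, ?_⟩
      rw [hΦ, AddEquiv.apply_symm_apply]
      have h1 : res M (le_top : U₀ ≤ ⊤) t = a • e₀ := ht false
      rw [h1, ← ha']
      congr 1
      exact he₀.ext (hc₀ _)
  refine ⟨(LinearEquiv.ofInjective Φ hinj).trans (LinearEquiv.ofEq _ _ hrange), fun x a hx => ?_⟩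
  change Φ x = gm a
  rw [hΦ, hx]
  congr 1
  exact he₀.ext (hc₀ _)

include hU in
/-- Functions regular everywhere are constant. -/
theorem regs_inf_eq_bot (h0 : Module.finrank k (Coh.HH X (Coh.structureModule X) 0) = 1) :
    regs k U₀ ⊓ regs k U₁ = ⊥ := by
  rw [eq_bot_iff]
  rintro f ⟨⟨a, ha⟩, ⟨b, hb⟩⟩
  have ha' : gm a = f := ha
  have hb' : gm b = f := hb
  have := nonempty_inf U₀ U₁
  have hcomp : ores (inf_le_left : U₀ ⊓ U₁ ≤ U₀) a = ores (inf_le_right : U₀ ⊓ U₁ ≤ U₁) b := by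
    apply gm_inj
    rw [gm_ores, gm_ores, ha', hb']
  let s : ∀ b' : Bool, Γ(X, (cond b' U₁ U₀)) := fun b' => match b' with
    | false => a
    | true => b
  obtain ⟨t, ht⟩ := ores_glue (fun b' : Bool => cond b' U₁ U₀) (fun _ => le_top) (two_cover hU) s (by
    rintro (_ | _) (_ | _)
    · rfl
    · exact hcomp
    · have h1 := congrArg (ores (le_of_eq (inf_comm U₁ U₀) : U₁ ⊓ U₀ ≤ U₀ ⊓ U₁)) hcomp
      rw [ores_ores, ores_ores] at h1
      exact h1.symm
    · rfl)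
  obtain ⟨c, hc⟩ := exists_const k h0 t
  have h1 : ores (le_top : U₀ ≤ ⊤) t = a := ht false
  rw [Algebra.mem_bot]
  refine ⟨c, ?_⟩
  rw [← ha', ← h1, ← hc, gm_gl]

end

end K978.SecFil
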