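import Groth.Agent.Curves.K978.CurveChoice

/-!
# Separating functions on a curve
-/

set_option autoImplicit false
set_option backward.isDefEq.respectTransparency.types false

universe u

open CategoryTheory CategoryTheory.Limits AlgebraicGeometry TopologicalSpace Opposite

namespace K978.SepFun

open Groth.Agent.Picfga RegLocus CurvePts CurveP1 CurveChart CurveChoice

attribute [local instance] algK algKK

variable {k : Type u} [Field k] [IsAlgClosed k] {X : Scheme.{u}} [X.Over (Spec (CommRingCat.of k))] [IsIntegral X]
  [IsProper (X ↘ Spec (CommRingCat.of k))]
  (hval : ∀ x : X, ValuationRing (X.presheaf.stalk x))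

include hval in
theorem isFunctionField (hdim : topologicalKrullDim X = 1) : FunFld.IsFunctionField k X.functionField := by
  refine ⟨?_, fun y hy => ?_⟩
  · obtain ⟨z, hz⟩ := exists_transcendental (X ↘ Spec (CommRingCat.of k)) hdim
    have hz' : Transcendental k z := (transc_iff z).1 hz
    refine ⟨z, hz', ?_⟩
    have haff := isAffineOpen_reg (X ↘ Spec (CommRingCat.of k)) hdim.le hval hz
    have hfin := finite_evalHom (X ↘ Spec (CommRingCat.of k)) hdim.le hval hz
    obtain ⟨hft, -, -⟩ := chart_facts hdim.le hval hz'
    have htow := tower k X (reg z)
    have hfr : IsFractionRing Γ(X, reg z) X.functionField := functionField_isFractionRing_of_isAffineOpen X _ haff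
    have hess : Algebra.EssFiniteType k X.functionField := by
      have h1 : Algebra.EssFiniteType Γ(X, reg z) X.functionField :=
        Algebra.EssFiniteType.of_isLocalization X.functionField (nonZeroDivisors Γ(X, reg z))
      exact Algebra.EssFiniteType.comp k Γ(X, reg z) X.functionField
    let F := IntermediateField.adjoin k ({z} : Set X.functionField)
    have hess2 : Algebra.EssFiniteType F X.functionField := Algebra.EssFiniteType.of_comp k F _
    have halg : Algebra.IsAlgebraic F X.functionField := by
      have hb : ∀ b : Γ(X, reg z), IsAlgebraic F (gm b) := by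
        intro b
        obtain ⟨p, hp, hpb⟩ := hfin.to_isIntegral b
        let ψ : Polynomial k →+* F := (Polynomial.aeval
          (⟨z, IntermediateField.mem_adjoin_simple_self k z⟩ : F) : Polynomial k →ₐ[k] F)
        apply IsIntegral.isAlgebraic
        refine ⟨p.map ψ, hp.map ψ, ?_⟩
        have h1 := congrArg (gm (X := X) (U := reg z)) hpb
        have h2 : (X.germToFunctionField (reg z)).hom.comp
            (evalHom (X ↘ Spec (CommRingCat.of k)) (reg z) (sec z)).hom = (algebraMap F X.functionField).comp ψ := by
          have h3 := evalHom_germ (X ↘ Spec (CommRingCat.of k)) z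
          refine Eq.trans h3 ?_
          apply Polynomial.ringHom_ext
          · intro a
            rw [Polynomial.coe_eval₂RingHom, Polynomial.eval₂_C]
            simp only [RingHom.comp_apply, ψ]
            change _ = algebraMap F X.functionField (Polynomial.aeval _ (Polynomial.C a))
            rw [Polynomial.aeval_C]
            rfl
          · rw [Polynomial.coe_eval₂RingHom, Polynomial.eval₂_X]
            simp only [RingHom.comp_apply, ψ]
            change _ = algebraMap F X.functionField (Polynomial.aeval _ Polynomial.X)
            rw [Polynomial.aeval_X]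
            rfl
        rw [Polynomial.eval₂_map, ← h2]
        rw [gm, gm, map_zero] at h1
        rw [← h1]
        exact (Polynomial.hom_eval₂ p (evalHom (X ↘ Spec (CommRingCat.of k)) (reg z) (sec z)).hom
          (X.germToFunctionField (reg z)).hom b).symm
      refine ⟨fun x => ?_⟩
      obtain ⟨a, b, hb0, rfl⟩ := IsFractionRing.div_surjective (A := Γ(X, reg z)) x
      rw [div_eq_mul_inv]
      exact (hb a).mul (hb b).inv
    exact Algebra.finite_of_essFiniteType_of_isAlgebraic
  · exact minpoly.mem_range_of_degree_eq_one k y
      (IsAlgClosed.degree_eq_one_of_irreducible k (minpoly.irreducible hy.isIntegral))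

include hval in
theorem exists_sep (hdim : topologicalKrullDim X = 1) :
    ∃ z : X.functionField, Transcendental k z ∧ Sep.DGen k z := by
  obtain ⟨t, ht1, ht2, ht3⟩ := K663.Bridge.exists_isSep (isFunctionField (k := k) hval hdim)
  exact ⟨t, ht1, Sep.dGen_of_isSeparable t ht3⟩

end K978.SepFun
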