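import Groth.Agent.Curves.K978.UnrData
import Mathlib.RingTheory.TensorProduct.Finite
import Mathlib.RingTheory.FiniteType

/-!
# Triples of points of a finite algebra over the affine line

`T = B ⊗ B ⊗ B` over `k[X]`: its rational points are the triples of points of `B` with the same image on the line.
-/

set_option autoImplicit false

open scoped TensorProduct Polynomial

namespace K978.Triple

universe u v

open Unr

variable (k : Type u) (B : Type v) [Field k] [CommRing B] [Algebra k B] [Algebra k[X] B] [IsScalarTower k k[X] B]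

/-- The triple tensor product. -/
abbrev T : Type v := (B ⊗[k[X]] B) ⊗[k[X]] B

/-- first inclusion -/
noncomputable def i1 : B →ₐ[k[X]] T k B :=
  Algebra.TensorProduct.includeLeft.comp Algebra.TensorProduct.includeLeft

/-- second inclusion -/
noncomputable def i2 : B →ₐ[k[X]] T k B :=
  Algebra.TensorProduct.includeLeft.comp Algebra.TensorProduct.includeRight

/-- third inclusion -/
noncomputable def i3 : B →ₐ[k[X]] T k B := Algebra.TensorProduct.includeRight

variable {k B}

/-- A point of `T` restricted along an inclusion. -/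
noncomputable def res (χ : T k B →ₐ[k] k) (i : B →ₐ[k[X]] T k B) : B →ₐ[k] k := χ.comp (i.restrictScalars k)

theorem res_apply (χ : T k B →ₐ[k] k) (i : B →ₐ[k[X]] T k B) (b : B) : res χ i b = χ (i b) := rfl

theorem res_gX (χ : T k B →ₐ[k] k) (i j : B →ₐ[k[X]] T k B) : res χ i (gX k B) = res χ j (gX k B) := by
  rw [res_apply, res_apply, gX, AlgHom.commutes, AlgHom.commutes]

theorem point_algebraMap' (χ : T k B →ₐ[k] k) (i : B →ₐ[k[X]] T k B) (p : k[X]) :
    χ (algebraMap k[X] (T k B) p) = p.eval (res χ i (gX k B)) := by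
  rw [← point_algebraMap, res_apply, AlgHom.commutes]

/-- The diagonal element in two of the three factors. -/
noncomputable def eps (d : UnrData k B) (i j : B →ₐ[k[X]] T k B) : T k B :=
  Algebra.TensorProduct.productMap i j d.ε

theorem eps_of_eq (d : UnrData k B) (i j : B →ₐ[k[X]] T k B) (χ : T k B →ₐ[k] k) (h : res χ i = res χ j) :
    χ (eps d i j) = d.s.eval (res χ i (gX k B)) := by
  have h1 : ∀ z : B ⊗[k[X]] B, χ (Algebra.TensorProduct.productMap i j z) =
      res χ i (Algebra.TensorProduct.lmul' k[X] z) := by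
    intro z
    induction z using TensorProduct.induction_on with
    | zero => simp
    | tmul x y =>
      rw [Algebra.TensorProduct.productMap_apply_tmul, map_mul, Algebra.TensorProduct.lmul'_apply_tmul, map_mul,
        res_apply]
      congr 1
      rw [h, res_apply]
    | add x y hx hy => rw [map_add, map_add, hx, hy, map_add, map_add]
  rw [eps, h1, d.hε, point_algebraMap]

theorem eps_of_ne (d : UnrData k B) (i j : B →ₐ[k[X]] T k B) (χ : T k B →ₐ[k] k) (h : res χ i ≠ res χ j) :
    χ (eps d i j) = 0 := by
  obtain ⟨b, hb⟩ : ∃ b, res χ i b ≠ res χ j b := by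
    by_contra! hcon
    exact h (AlgHom.ext hcon)
  have h1 : χ (Algebra.TensorProduct.productMap i j ((b ⊗ₜ[k[X]] (1 : B) - (1 : B) ⊗ₜ[k[X]] b) * d.ε)) = 0 := by
    rw [d.hε', map_zero, map_zero]
  rw [map_mul, map_mul, map_sub, Algebra.TensorProduct.productMap_apply_tmul,
    Algebra.TensorProduct.productMap_apply_tmul, map_one, map_one, one_mul, mul_one, map_sub] at h1
  exact (mul_eq_zero.1 h1).resolve_left (sub_ne_zero.2 hb)

/-- Points over the same point of the line define a point of `T`. -/
theorem exists_triple (P Q R : B →ₐ[k] k) (h1 : P (gX k B) = Q (gX k B)) (h2 : P (gX k B) = R (gX k B)) :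
    ∃ χ : T k B →ₐ[k] k, res χ (i1 k B) = P ∧ res χ (i2 k B) = Q ∧ res χ (i3 k B) = R := by
  let _ : Algebra k[X] k := ((P : B →+* k).comp (algebraMap k[X] B)).toAlgebra
  have hk : ∀ p : k[X], algebraMap k[X] k p = p.eval (P (gX k B)) := fun p => point_algebraMap P p
  have : IsScalarTower k k[X] k := IsScalarTower.of_algebraMap_eq fun c => by
    rw [hk, Polynomial.algebraMap_apply, Algebra.algebraMap_self, RingHom.id_apply, Polynomial.eval_C]
  let P' : B →ₐ[k[X]] k := { toRingHom := (P : B →+* k), commutes' := fun p => rfl }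
  have hQ : ∀ p : k[X], Q (algebraMap k[X] B p) = algebraMap k[X] k p := fun p => by
    rw [point_algebraMap, hk, h1]
  have hR : ∀ p : k[X], R (algebraMap k[X] B p) = algebraMap k[X] k p := fun p => by
    rw [point_algebraMap, hk, h2]
  let Q' : B →ₐ[k[X]] k := { toRingHom := (Q : B →+* k), commutes' := hQ }
  let R' : B →ₐ[k[X]] k := { toRingHom := (R : B →+* k), commutes' := hR }
  let χ' : T k B →ₐ[k[X]] k :=
    Algebra.TensorProduct.productMap (Algebra.TensorProduct.productMap P' Q') R'
  refine ⟨χ'.restrictScalars k, ?_, ?_, ?_⟩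
  · ext b
    change χ' ((b ⊗ₜ 1) ⊗ₜ 1) = P b
    rw [Algebra.TensorProduct.productMap_apply_tmul, Algebra.TensorProduct.productMap_apply_tmul, map_one, map_one,
      mul_one, mul_one]
    rfl
  · ext b
    change χ' ((1 ⊗ₜ b) ⊗ₜ 1) = Q b
    rw [Algebra.TensorProduct.productMap_apply_tmul, Algebra.TensorProduct.productMap_apply_tmul, map_one, map_one,
      one_mul, mul_one]
    rfl
  · ext b
    change χ' (1 ⊗ₜ b) = R b
    rw [Algebra.TensorProduct.productMap_apply_tmul, map_one, one_mul]
    rfl

end K978.Triple
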