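import Groth.Agent.Models.H58.MCLoc
import Mathlib.RingTheory.Nakayama
import Mathlib.Algebra.Module.Submodule.Pointwise
import Mathlib.RingTheory.Ideal.Operations

/-!
# Points with at most two unramified transversal branches: algebra

`A₀ ⊆ B₀` a finite extension with at most two primes `q₁, q₂` over the maximal ideal `p`, such that `p` surjects onto
`q₁/q₁² × q₂/q₂²`; then near `p` the Jacobson radical of `B₀` is `p`, and `p` is a regular point or a node.
-/

set_option autoImplicit false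
universe u

open IsLocalRing

namespace K978.TwoBranch

section rad

variable {A₀ B₀ : Type u} [CommRing A₀] [CommRing B₀] [IsNoetherianRing A₀] [Algebra A₀ B₀]
  [Module.Finite A₀ B₀] (p : Ideal A₀) [hp : p.IsMaximal]
  (q1 q2 : Ideal B₀) (hq1 : q1.IsPrime) (hq2 : q2.IsPrime) (hq1p : q1.comap (algebraMap A₀ B₀) = p)
  (hq2p : q2.comap (algebraMap A₀ B₀) = p)
  (hall : ∀ q : Ideal B₀, q.IsPrime → q.comap (algebraMap A₀ B₀) = p → q = q1 ∨ q = q2)
  (hsurj : ∀ b ∈ q1 ⊓ q2, ∃ a : A₀, b - algebraMap A₀ B₀ a ∈ q1 ^ 2 ⊓ q2 ^ 2)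

include hq1 hq2 hq1p hq2p in
omit [IsNoetherianRing A₀] in
theorem inf_sq_le : q1 ^ 2 ⊓ q2 ^ 2 ≤ (q1 ⊓ q2) ^ 2 := by
  by_cases h : q1 = q2
  · rw [h, inf_idem, inf_idem]
  have hm1 : q1.IsMaximal := Ideal.isMaximal_of_isIntegral_of_isMaximal_comap (R := A₀) q1 (by rw [hq1p]; exact hp)
  have hm2 : q2.IsMaximal := Ideal.isMaximal_of_isIntegral_of_isMaximal_comap (R := A₀) q2 (by rw [hq2p]; exact hp)
  have hc : IsCoprime q1 q2 := Ideal.isCoprime_of_isMaximal h
  rw [← Ideal.mul_eq_inf_of_isCoprime (hc.pow : IsCoprime (q1 ^ 2) (q2 ^ 2)), ← Ideal.mul_eq_inf_of_isCoprime hc,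
    mul_pow]

include hq1 hq2 hq1p hq2p hall hsurj in
/-- The intersection of the primes over `p` is the extension of `p`. -/
theorem inf_le_map : q1 ⊓ q2 ≤ p.map (algebraMap A₀ B₀) := by
  have hB : IsNoetherianRing B₀ := IsNoetherianRing.of_finite A₀ B₀
  set I := p.map (algebraMap A₀ B₀) with hI
  set J := q1 ⊓ q2 with hJ
  have hJr : J ≤ I.radical := by
    rw [Ideal.radical_eq_sInf]
    refine le_sInf fun q hq => ?_
    have hqp : q.comap (algebraMap A₀ B₀) = p :=
      (hp.eq_of_le (Ideal.comap_ne_top _ hq.2.ne_top) (Ideal.map_le_iff_le_comap.1 hq.1)).symm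
    rcases hall q hq.2 hqp with h | h
    · rw [h]; exact inf_le_left
    · rw [h]; exact inf_le_right
  have h1 : J ≤ I ⊔ J ^ 2 := by
    intro b hb
    obtain ⟨a, ha⟩ := hsurj b hb
    have hap : a ∈ p := by
      rw [← hq1p, Ideal.mem_comap]
      have h2 : algebraMap A₀ B₀ a = b - (b - algebraMap A₀ B₀ a) := by ring
      rw [h2]
      exact q1.sub_mem hb.1 (Ideal.pow_le_self (by norm_num) ha.1)
    have h2 : b = algebraMap A₀ B₀ a + (b - algebraMap A₀ B₀ a) := by ring
    rw [h2]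
    exact Submodule.add_mem_sup (Ideal.mem_map_of_mem _ hap)
      (inf_sq_le p q1 q2 hq1 hq2 hq1p hq2p ha)
  have h2 : ∀ n : ℕ, J ≤ I ⊔ J ^ (n + 1) := by
    intro n
    induction n with
    | zero => rw [zero_add, pow_one]; exact le_sup_right
    | succ n ih =>
      refine ih.trans (sup_le le_sup_left ?_)
      calc J ^ (n + 1) = J * J ^ n := by rw [pow_succ']
        _ ≤ (I ⊔ J ^ 2) * J ^ n := Ideal.mul_mono_left h1
        _ = I * J ^ n ⊔ J ^ 2 * J ^ n := Ideal.sup_mul _ _ _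
        _ ≤ I ⊔ J ^ (n + 1 + 1) := by
          refine sup_le_sup Ideal.mul_le_left (le_of_eq ?_)
          rw [← pow_add]
          congr 1
          ring
  obtain ⟨n, hn⟩ := I.exists_radical_pow_le_of_fg (IsNoetherian.noetherian _)
  have h3 : J ^ (n + 1) ≤ I := by
    refine le_trans ?_ hn
    exact (Ideal.pow_le_pow_right (Nat.le_succ n)).trans (Ideal.pow_right_mono hJr n)
  exact (h2 n).trans (sup_le le_rfl h3)

include hq1 hq2 hq1p hq2p hall hsurj in
/-- Near `p` the intersection of the primes over `p` comes from `A₀`. -/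
theorem exists_notMem_smul : ∃ r : A₀, r ∉ p ∧ ∀ b ∈ q1 ⊓ q2, ∃ a : A₀, algebraMap A₀ B₀ r * b = algebraMap A₀ B₀ a := by
  set J := q1 ⊓ q2 with hJ
  have hJI : J ≤ p.map (algebraMap A₀ B₀) := inf_le_map p q1 q2 hq1 hq2 hq1p hq2p hall hsurj
  let N : Submodule A₀ B₀ := Submodule.map (Algebra.linearMap A₀ B₀) ⊤
  have hle : J.restrictScalars A₀ ≤ N ⊔ p • J.restrictScalars A₀ := by
    intro b hb
    obtain ⟨a, ha⟩ := hsurj b hb
    have h2 : b = algebraMap A₀ B₀ a + (b - algebraMap A₀ B₀ a) := by ring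
    rw [h2]
    refine Submodule.add_mem_sup ⟨a, trivial, rfl⟩ ?_
    rw [← Ideal.smul_restrictScalars]
    have h3 := inf_sq_le p q1 q2 hq1 hq2 hq1p hq2p ha
    rw [pow_two] at h3
    exact Ideal.mul_mono_left hJI h3
  obtain ⟨r, hr, hrJ⟩ := Submodule.exists_sub_one_mem_and_smul_le_of_fg_of_le_sup
    (I := p) (N := N) (N' := J.restrictScalars A₀) (P := J.restrictScalars A₀)
    (IsNoetherian.noetherian _) le_rfl hle
  refine ⟨r, ?_, fun b hb => ?_⟩
  · intro hrp
    have h1 : (1 : A₀) ∈ p := by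
      have := p.sub_mem hrp hr
      rwa [sub_sub_cancel] at this
    exact hp.ne_top ((Ideal.eq_top_iff_one _).2 h1)
  · obtain ⟨a, -, ha⟩ := hrJ (Submodule.smul_mem_pointwise_smul b r (J.restrictScalars A₀) hb)
    refine ⟨a, ?_⟩
    rw [← Algebra.smul_def]
    exact ha.symm

include hq1 hq1p in
/-- With a single prime over `p` the extension is trivial near `p`. -/
theorem exists_notMem_mul (hall : ∀ q : Ideal B₀, q.IsPrime → q.comap (algebraMap A₀ B₀) = p → q = q1)
    (hsurj : ∀ b ∈ q1, ∃ a : A₀, b - algebraMap A₀ B₀ a ∈ q1 ^ 2)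
    (hres : ∀ b : B₀, ∃ a : A₀, b - algebraMap A₀ B₀ a ∈ q1) :
    ∃ r : A₀, r ∉ p ∧ ∀ b : B₀, ∃ a : A₀, algebraMap A₀ B₀ r * b = algebraMap A₀ B₀ a := by
  obtain ⟨r, hr, h⟩ := exists_notMem_smul p q1 q1 hq1 hq1 hq1p hq1p (fun q hq hqp => Or.inl (hall q hq hqp))
    (fun b hb => by
      obtain ⟨a, ha⟩ := hsurj b hb.1
      exact ⟨a, ha, ha⟩)
  refine ⟨r, hr, fun b => ?_⟩
  obtain ⟨a, ha⟩ := hres b
  obtain ⟨a', ha'⟩ := h _ ⟨ha, ha⟩
  refine ⟨a' + r * a, ?_⟩
  rw [map_add, map_mul, ← ha']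
  ring

end rad

section node

open Groth.Agent.Models.H73 NodeLocal2 NodeLocal3 NodeLocal4

variable {O A : Type u} [CommRing O] [IsLocalRing O] [CommRing A] [Algebra O A]

/-- A multicross point with at most two branches is regular or a node. -/
theorem node_or_regular_of_two [IsNoetherianRing O] (h : MC O A)
    (htwo : ∀ P Q R : Ideal A, P.IsMaximal → Q.IsMaximal → R.IsMaximal → P = Q ∨ Q = R ∨ P = R)
    {f : O} (hf : f ∈ maximalIdeal O) (hfA : ∀ a : A, f • a = 0 → a = 0) :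
    IsRegularLocalRing O ∨ IsNodeLike O := by
  by_cases hs : Function.Surjective (algebraMap O A)
  · exact Or.inl (regular_of_surjective h hs)
  right
  obtain ⟨P, hP⟩ := h.exists_max
  obtain ⟨Q, hQ, hQP⟩ : ∃ Q : Ideal A, Q.IsMaximal ∧ Q ≠ P := by
    by_contra! hcon
    apply hs
    intro a
    obtain ⟨o, ho⟩ := h.res P hP a
    obtain ⟨o', ho'⟩ := h.rad _ (fun N hN => by rw [hcon N hN]; exact ho)
    exact ⟨o' + o, by rw [map_add, ho']; ring⟩
  have hPQ : P ≠ Q := hQP.symm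
  have hall : ∀ N : Ideal A, N.IsMaximal → N = P ∨ N = Q := by
    intro N hN
    rcases htwo P Q N hP hQ hN with h1 | h1 | h1
    · exact absurd h1 hPQ
    · exact Or.inr h1.symm
    · exact Or.inl h1.symm
  obtain ⟨e, heP, e', heQ', hee⟩ : ∃ e ∈ P, ∃ e' ∈ Q, e + e' = 1 :=
    (Ideal.isCoprime_iff_exists).1 (Ideal.isCoprime_of_isMaximal hPQ)
  have heQ : 1 - e ∈ Q := by
    have : 1 - e = e' := by rw [← hee]; ring
    rw [this]; exact heQ'
  have hJ : ∀ z : A, z ∈ P ⊓ Q → ∃ o : O, algebraMap O A o = z := by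
    intro z hz
    apply h.rad
    intro N hN
    rcases hall N hN with rfl | rfl
    exacts [hz.1, hz.2]
  have hgen : ∀ a : A, ∃ c o : O, a = c • e + algebraMap O A o := by
    intro a
    obtain ⟨o, ho⟩ := h.res P hP a
    obtain ⟨c, hc⟩ := h.res Q hQ (a - algebraMap O A o)
    obtain ⟨o', ho'⟩ := hJ (a - algebraMap O A o - algebraMap O A c * e) ⟨P.sub_mem ho (P.mul_mem_left _ heP), by
      have h1 : a - algebraMap O A o - algebraMap O A c * e =
          a - algebraMap O A o - algebraMap O A c + algebraMap O A c * (1 - e) := by ring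
      rw [h1]
      exact Q.add_mem hc (Q.mul_mem_left _ heQ)⟩
    refine ⟨c, o + o', ?_⟩
    rw [map_add, ho', Algebra.smul_def]
    ring
  obtain ⟨t, ht, hdiv⟩ := exists_uniformizer hP hQ hPQ hall h.dvr
  have hmem : ∀ o : O, algebraMap O A o ∈ P ⊓ Q ↔ o ∈ maximalIdeal O := fun o =>
    ⟨fun ho => (h.mem_iff hP).1 ho.1, fun ho => ⟨(h.mem_iff hP).2 ho, (h.mem_iff hQ).2 ho⟩⟩
  -- `t` is a nonzerodivisor
  have htreg : ∀ a : A, t * a = 0 → a = 0 := by
    intro a ha
    obtain ⟨w, hw⟩ := hdiv _ ((hmem f).2 hf)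
    apply hfA
    rw [Algebra.smul_def, hw, mul_comm t w, mul_assoc, ha, mul_zero]
  obtain ⟨x, hx⟩ := hJ (t * e) (Ideal.mul_mem_right _ _ ht)
  obtain ⟨y, hy⟩ := hJ (t * (1 - e)) (Ideal.mul_mem_right _ _ ht)
  have hxm : x ∈ maximalIdeal O := (hmem x).1 (by rw [hx]; exact Ideal.mul_mem_right _ _ ht)
  have hym : y ∈ maximalIdeal O := (hmem y).1 (by rw [hy]; exact Ideal.mul_mem_right _ _ ht)
  have hτ : algebraMap O A (x + y) = t := by
    rw [map_add, hx, hy]; ring
  have hτm : x + y ∈ maximalIdeal O := Ideal.add_mem _ hxm hym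
  have hspan : maximalIdeal O ≤ Ideal.span {x, y} := by
    intro z hz
    obtain ⟨w, hw⟩ := hdiv _ ((hmem z).2 hz)
    obtain ⟨c, o, hco⟩ := hgen w
    have h1 : z = c * x + o * (x + y) := by
      apply h.inj
      rw [hw, hco, map_add, map_mul, map_mul, hτ, hx, Algebra.smul_def]
      ring
    rw [h1]
    exact Ideal.add_mem _ (Ideal.mul_mem_left _ _ (Ideal.subset_span (by simp)))
      (Ideal.mul_mem_left _ _ (Ideal.add_mem _ (Ideal.subset_span (by simp))
        (Ideal.subset_span (by simp))))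
  -- the square of the maximal ideal
  have hsq : ∀ z ∈ maximalIdeal O ^ 2, ∃ w : A, algebraMap O A z = t ^ 2 * w := by
    intro z hz
    rw [pow_two] at hz
    refine Submodule.mul_induction_on hz ?_ ?_
    · intro a ha b hb
      obtain ⟨w1, hw1⟩ := hdiv _ ((hmem a).2 ha)
      obtain ⟨w2, hw2⟩ := hdiv _ ((hmem b).2 hb)
      exact ⟨w1 * w2, by rw [map_mul, hw1, hw2]; ring⟩
    · rintro a b ⟨w1, hw1⟩ ⟨w2, hw2⟩
      exact ⟨w1 + w2, by rw [map_add, hw1, hw2]; ring⟩
  refine ⟨finrank_cotangentSpace_eq_two hxm hym hspan ?_, x, y, 0, 1, 0, hxm, hym, ?_, ?_, ?_⟩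
  · intro α β hαβ
    obtain ⟨w, hw⟩ := hsq _ hαβ
    have h1 : algebraMap O A α * e + algebraMap O A β * (1 - e) = t * w := by
      rw [← sub_eq_zero]
      apply htreg
      rw [map_add, map_mul, map_mul, hx, hy] at hw
      linear_combination hw
    have hw1 : t * w ∈ P := P.mul_mem_right _ ht.1
    have hw2 : t * w ∈ Q := Q.mul_mem_right _ ht.2
    constructor
    · rw [← h.mem_iff hQ]
      have h2 : algebraMap O A α = t * w + (algebraMap O A α - algebraMap O A β) * (1 - e) := by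
        rw [← h1]; ring
      rw [h2]
      exact Q.add_mem hw2 (Q.mul_mem_left _ heQ)
    · rw [← h.mem_iff hP]
      have h2 : algebraMap O A β = t * w + (algebraMap O A β - algebraMap O A α) * e := by
        rw [← h1]; ring
      rw [h2]
      exact P.add_mem hw1 (P.mul_mem_left _ heP)
  · apply le_antisymm
    · rw [sup_le_iff, Ideal.span_le]
      refine ⟨?_, Ideal.pow_le_self (by norm_num)⟩
      rintro z (rfl | rfl)
      exacts [hxm, hym]
    · exact hspan.trans le_sup_left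
  · simp
  · have h1 : e * (1 - e) ∈ P ⊓ Q := ⟨P.mul_mem_right _ heP, Q.mul_mem_left _ heQ⟩
    obtain ⟨z, hz⟩ := hJ _ h1
    have hzm : z ∈ maximalIdeal O := (hmem z).1 (by rw [hz]; exact h1)
    have h2 : (0 : O) * x ^ 2 + 1 * x * y + 0 * y ^ 2 = (x + y) ^ 2 * z := by
      apply h.inj
      rw [map_mul, map_pow, hτ, hz]
      simp only [zero_mul, one_mul, zero_add, add_zero, map_mul, hx, hy]
      ring
    rw [h2]
    have h3 : (x + y) ^ 2 ∈ maximalIdeal O ^ 2 := Ideal.pow_mem_pow hτm 2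
    have h4 := Ideal.mul_mem_mul h3 hzm
    rwa [← pow_succ] at h4

end node

section chart

open Groth.Agent.Models.H73 Groth.Agent.Models.H58 NodeLocal2 NodeLocal3 NodeLocal4

/-- **Points with at most two unramified transversal branches are regular or nodes.** -/
theorem regular_or_nodeLike {A₀ B₀ O : Type u} [CommRing A₀] [CommRing B₀] [CommRing O] [IsLocalRing O]
    [IsNoetherianRing A₀] [IsNoetherianRing O] [Algebra A₀ B₀] [Module.Finite A₀ B₀] [Algebra A₀ O]
    (p : Ideal A₀) [hp : p.IsMaximal] [IsLocalization.AtPrime O p]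
    (hinj : Function.Injective (algebraMap A₀ B₀))
    (hres : ∀ q : Ideal B₀, q.IsPrime → q.comap (algebraMap A₀ B₀) = p → ∀ b : B₀, ∃ a : A₀,
      b - algebraMap A₀ B₀ a ∈ q)
    (q1 q2 : Ideal B₀) (hq1 : q1.IsPrime) (hq2 : q2.IsPrime) (hq1p : q1.comap (algebraMap A₀ B₀) = p)
    (hq2p : q2.comap (algebraMap A₀ B₀) = p)
    (hall : ∀ q : Ideal B₀, q.IsPrime → q.comap (algebraMap A₀ B₀) = p → q = q1 ∨ q = q2)
    (hsurj : ∀ b ∈ q1 ⊓ q2, ∃ a : A₀, b - algebraMap A₀ B₀ a ∈ q1 ^ 2 ⊓ q2 ^ 2)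
    (hdvr : ∀ (q : Ideal B₀) (_ : q.IsPrime), q.comap (algebraMap A₀ B₀) = p →
      ∃ (_ : IsDomain (Localization.AtPrime q)), IsDiscreteValuationRing (Localization.AtPrime q)) :
    IsRegularLocalRing O ∨ IsNodeLike O := by
  let A := Localization (Algebra.algebraMapSubmonoid B₀ p.primeCompl)
  let _ : Algebra O A := localizationAlgebra p.primeCompl B₀
  have : IsScalarTower A₀ O A := isScalarTower_localizationAlgebra p.primeCompl B₀
  have : Module.Finite O A := Module.Finite.of_isLocalization A₀ B₀ p.primeCompl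
  have hB : IsNoetherianRing B₀ := IsNoetherianRing.of_finite A₀ B₀
  have hA : IsNoetherianRing A := IsLocalization.isNoetherianRing
    (Algebra.algebraMapSubmonoid B₀ p.primeCompl) A hB
  obtain ⟨r, hr, hrJ⟩ := exists_notMem_smul p q1 q2 hq1 hq2 hq1p hq2p hall hsurj
  have h := MCLoc.mc_of (O := O) (A := A) p hinj hres (fun b hb => by
    obtain ⟨a, ha⟩ := hrJ b ⟨hb q1 hq1 hq1p, hb q2 hq2 hq2p⟩
    exact ⟨a, r, hr, ha⟩) hdvr
  obtain ⟨f, hf, hfA⟩ := MCLoc.exists_regular h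
  refine node_or_regular_of_two h (fun P Q R hP hQ hR => ?_) hf hfA
  have hinjA : ∀ P Q : Ideal A, P.comap (algebraMap B₀ A) = Q.comap (algebraMap B₀ A) → P = Q := by
    intro P Q hPQ
    have h1 := IsLocalization.map_under (Algebra.algebraMapSubmonoid B₀ p.primeCompl) A P
    have h2 := IsLocalization.map_under (Algebra.algebraMapSubmonoid B₀ p.primeCompl) A Q
    rw [← h1, ← h2]
    exact congrArg (Ideal.map (algebraMap B₀ A)) hPQ
  have hc : ∀ P : Ideal A, P.IsMaximal → P.comap (algebraMap B₀ A) = q1 ∨ P.comap (algebraMap B₀ A) = q2 := by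
    intro P hP
    have hPp := hP.isPrime
    exact hall _ (Ideal.comap_isPrime _ P)
      (MCLoc.comap_comap_max (O := O) (A := A) p P (MCLoc.comap_max p P hP))
  rcases hc P hP with h1 | h1
  · rcases hc Q hQ with h2 | h2
    · exact Or.inl (hinjA _ _ (h1.trans h2.symm))
    · rcases hc R hR with h3 | h3
      · exact Or.inr (Or.inr (hinjA _ _ (h1.trans h3.symm)))
      · exact Or.inr (Or.inl (hinjA _ _ (h2.trans h3.symm)))
  · rcases hc Q hQ with h2 | h2
    · rcases hc R hR with h3 | h3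
      · exact Or.inr (Or.inl (hinjA _ _ (h2.trans h3.symm)))
      · exact Or.inr (Or.inr (hinjA _ _ (h1.trans h3.symm)))
    · exact Or.inl (hinjA _ _ (h1.trans h2.symm))

end chart

end K978.TwoBranch
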