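import Mathlib.RingTheory.TensorProduct.Basic
import Mathlib.RingTheory.TensorProduct.Maps
import Mathlib.RingTheory.Derivation.Basic
import Mathlib.RingTheory.Ideal.Quotient.Operations
import Mathlib.Algebra.Polynomial.AlgebraMap
import Mathlib.RingTheory.Polynomial.Basic
import Mathlib.Tactic.LinearCombination

/-!
# A finite algebra over the affine line, unramified outside the zeros of a polynomial

`UnrData k B`: a nonzero polynomial `s`, a derivation `D` of `B` with `D g = s(g)` and an element `ε` of
`B ⊗ B` supported on the diagonal with value `s` there.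
-/

set_option autoImplicit false

open scoped TensorProduct Polynomial

namespace K978.Unr

universe u v

variable (k : Type u) (B : Type v) [Field k] [CommRing B] [Algebra k B] [Algebra k[X] B] [IsScalarTower k k[X] B]

/-- The coordinate. -/
noncomputable abbrev gX : B := algebraMap k[X] B Polynomial.X

/-- Data expressing that `B` is unramified over the line away from the zeros of `s`. -/
structure UnrData where
  /-- the polynomial -/
  s : k[X]
  hs : s ≠ 0
  /-- the derivation -/
  D : Derivation k B B
  hD : D (gX k B) = algebraMap k[X] B s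
  /-- the diagonal element -/
  ε : B ⊗[k[X]] B
  hε : Algebra.TensorProduct.lmul' k[X] ε = algebraMap k[X] B s
  hε' : ∀ b : B, (b ⊗ₜ[k[X]] (1 : B) - (1 : B) ⊗ₜ[k[X]] b) * ε = 0

variable {k B}

theorem point_algebraMap (P : B →ₐ[k] k) (p : k[X]) : P (algebraMap k[X] B p) = p.eval (P (gX k B)) := by
  have h : (P.comp (IsScalarTower.toAlgHom k k[X] B)) = Polynomial.aeval (P (gX k B)) := by
    apply Polynomial.algHom_ext
    simp [gX]
  have h1 := DFunLike.congr_fun h p
  rw [Polynomial.coe_aeval_eq_eval] at h1
  exact h1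

omit [Algebra k[X] B] [IsScalarTower k k[X] B] in
theorem deriv_mem (D : Derivation k B B) (P : B →ₐ[k] k) {x : B} (hx : x ∈ RingHom.ker P ^ 2) : P (D x) = 0 := by
  rw [pow_two] at hx
  refine Submodule.mul_induction_on hx (fun a ha b hb => ?_) (fun a b ha hb => ?_)
  · rw [RingHom.mem_ker] at ha hb
    rw [Derivation.leibniz, map_add, smul_eq_mul, smul_eq_mul, map_mul, map_mul, ha, hb, zero_mul, zero_mul, add_zero]
  · rw [map_add, map_add, ha, hb, add_zero]

omit [Algebra k[X] B] [IsScalarTower k k[X] B] in
theorem deriv_const (D : Derivation k B B) (c : k) : D (algebraMap k B c) = 0 := D.map_algebraMap c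

namespace UnrData

variable (d : UnrData k B)

/-- The elements killed by a point over a good value are multiples of `g - τ` near that point. -/
theorem exists_local (P : B →ₐ[k] k) (hP : d.s.eval (P (gX k B)) ≠ 0) :
    ∃ e : B, P e ≠ 0 ∧ ∀ b : B, P b = 0 → ∃ c : B, b * e = (gX k B - algebraMap k B (P (gX k B))) * c := by
  set τ := P (gX k B) with hτ
  let J : Ideal B := Ideal.span {gX k B - algebraMap k B τ}
  have hJ : ∀ p : k[X], Ideal.Quotient.mk J (algebraMap k[X] B p) = algebraMap k (B ⧸ J) (p.eval τ) := by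
    intro p
    have h : (Ideal.Quotient.mkₐ k J).comp (IsScalarTower.toAlgHom k k[X] B) =
        (Algebra.ofId k (B ⧸ J)).comp (Polynomial.aeval τ) := by
      apply Polynomial.algHom_ext
      have h0 : gX k B - algebraMap k B τ ∈ J := Ideal.subset_span rfl
      have h1 := (Ideal.Quotient.eq_zero_iff_mem (I := J)).2 h0
      rw [map_sub, sub_eq_zero] at h1
      simp only [AlgHom.comp_apply, Polynomial.aeval_X]
      exact h1
    have h1 := DFunLike.congr_fun h p
    simp only [AlgHom.comp_apply] at h1
    rw [Polynomial.coe_aeval_eq_eval] at h1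
    exact h1
  let f : B →ₐ[k[X]] (B ⧸ J) := Ideal.Quotient.mkₐ k[X] J
  let f' : B →ₐ[k[X]] (B ⧸ J) :=
    { toRingHom := (algebraMap k (B ⧸ J)).comp (P : B →+* k)
      commutes' := fun p => by
        change algebraMap k (B ⧸ J) (P (algebraMap k[X] B p)) = Ideal.Quotient.mk J (algebraMap k[X] B p)
        rw [point_algebraMap, hJ] }
  let ψ : B ⊗[k[X]] B →ₐ[k[X]] (B ⧸ J) := Algebra.TensorProduct.productMap f f'
  obtain ⟨e, he⟩ := Ideal.Quotient.mk_surjective (ψ d.ε)
  -- the induced point of the quotient
  let Pb : (B ⧸ J) →+* k := Ideal.Quotient.lift J (P : B →+* k) (by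
    intro a ha
    obtain ⟨c, rfl⟩ := Ideal.mem_span_singleton'.1 ha
    have : P (gX k B - algebraMap k B τ) = 0 := by rw [map_sub, AlgHom.commutes, ← hτ]; simp
    change P _ = 0
    rw [map_mul, this, mul_zero])
  have hPb : ∀ x, Pb (Ideal.Quotient.mk J x) = P x := fun x => rfl
  have hPψ : ∀ z : B ⊗[k[X]] B, Pb (ψ z) = P (Algebra.TensorProduct.lmul' k[X] z) := by
    intro z
    induction z using TensorProduct.induction_on with
    | zero => simp
    | tmul x y =>
      have h1 : ψ (x ⊗ₜ y) = Ideal.Quotient.mk J x * algebraMap k (B ⧸ J) (P y) := by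
        rw [Algebra.TensorProduct.productMap_apply_tmul]; rfl
      rw [h1, map_mul, hPb, Algebra.TensorProduct.lmul'_apply_tmul, map_mul]
      congr 1
      have h2 : algebraMap k (B ⧸ J) (P y) = Ideal.Quotient.mk J (algebraMap k B (P y)) := rfl
      rw [h2, hPb, AlgHom.commutes]; rfl
    | add x y hx hy => rw [map_add, map_add, map_add, map_add, hx, hy]
  refine ⟨e, ?_, fun b hb => ?_⟩
  · rw [← hPb, he, hPψ, d.hε, point_algebraMap]
    exact hP
  · have h1 : ψ ((b ⊗ₜ[k[X]] (1 : B) - (1 : B) ⊗ₜ[k[X]] b) * d.ε) = 0 := by rw [d.hε', map_zero]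
    have h2 : ψ (b ⊗ₜ[k[X]] (1 : B) - (1 : B) ⊗ₜ[k[X]] b) = Ideal.Quotient.mk J b := by
      have e1 : f' b = 0 := by
        change algebraMap k (B ⧸ J) (P b) = 0
        rw [hb, map_zero]
      rw [map_sub, Algebra.TensorProduct.productMap_apply_tmul, Algebra.TensorProduct.productMap_apply_tmul,
        map_one, map_one, one_mul, mul_one, e1, sub_zero]
      rfl
    rw [map_mul, h2, ← he, ← map_mul, Ideal.Quotient.eq_zero_iff_mem] at h1
    obtain ⟨c, hc⟩ := Ideal.mem_span_singleton'.1 h1
    exact ⟨c, by rw [← hc, mul_comm]⟩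

/-- First order expansion at a point over a good value. -/
theorem taylor (P : B →ₐ[k] k) (hP : d.s.eval (P (gX k B)) ≠ 0) (b : B) :
    algebraMap k B (d.s.eval (P (gX k B))) * (b - algebraMap k B (P b)) -
      algebraMap k B (P (d.D b)) * (gX k B - algebraMap k B (P (gX k B))) ∈ RingHom.ker P ^ 2 := by
  obtain ⟨e, he, hloc⟩ := d.exists_local P hP
  set τ := P (gX k B) with hτ
  set m := RingHom.ker P with hm
  have hconst : ∀ x : B, x - algebraMap k B (P x) ∈ m := by
    intro x
    rw [hm, RingHom.mem_ker, map_sub, AlgHom.commutes]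
    simp
  have hb' : P (b - algebraMap k B (P b)) = 0 := hconst b
  obtain ⟨c, hc⟩ := hloc _ hb'
  -- `b - β ≡ λ (g - τ)`
  have h1 : algebraMap k B (P e) * (b - algebraMap k B (P b)) - algebraMap k B (P c) * (gX k B - algebraMap k B τ)
      ∈ m ^ 2 := by
    have h2 : algebraMap k B (P e) * (b - algebraMap k B (P b)) - algebraMap k B (P c) * (gX k B - algebraMap k B τ)
        = (gX k B - algebraMap k B τ) * (c - algebraMap k B (P c)) -
          (b - algebraMap k B (P b)) * (e - algebraMap k B (P e)) := by
      linear_combination hc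
    rw [h2, pow_two]
    exact Ideal.sub_mem _ (Ideal.mul_mem_mul (hconst _) (hconst _)) (Ideal.mul_mem_mul (hconst _) (hconst _))
  have h3 := deriv_mem d.D P h1
  have hDc : ∀ (t : k) (x : B), d.D (algebraMap k B t * x) = algebraMap k B t * d.D x := by
    intro t x
    rw [← Algebra.smul_def, Derivation.map_smul, Algebra.smul_def]
  simp only [map_sub, hDc, deriv_const, sub_zero, d.hD, map_mul, AlgHom.commutes, point_algebraMap, ← hτ,
    Algebra.algebraMap_self, RingHom.id_apply] at h3
  -- `P e * P (D b) = P c * s(τ)`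
  have h4 : algebraMap k B (P e) * algebraMap k B (P (d.D b)) =
      algebraMap k B (P c) * algebraMap k B (d.s.eval τ) := by
    rw [← map_mul (algebraMap k B), ← map_mul (algebraMap k B), sub_eq_zero.1 h3]
  have h5 : algebraMap k B (P e) * (algebraMap k B (d.s.eval τ) * (b - algebraMap k B (P b)) -
      algebraMap k B (P (d.D b)) * (gX k B - algebraMap k B τ)) ∈ m ^ 2 := by
    have h6 : algebraMap k B (P e) * (algebraMap k B (d.s.eval τ) * (b - algebraMap k B (P b)) -
      algebraMap k B (P (d.D b)) * (gX k B - algebraMap k B τ)) = algebraMap k B (d.s.eval τ) *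
        (algebraMap k B (P e) * (b - algebraMap k B (P b)) -
          algebraMap k B (P c) * (gX k B - algebraMap k B τ)) := by
      linear_combination (-(gX k B - algebraMap k B τ)) * h4
    rw [h6]
    exact Ideal.mul_mem_left _ _ h1
  have h7 := Ideal.mul_mem_left (m ^ 2) (algebraMap k B (P e)⁻¹) h5
  rwa [← mul_assoc, ← map_mul, inv_mul_cancel₀ he, map_one, one_mul] at h7

/-- The coordinate is a local parameter at a point over a good value. -/
theorem coord_notMem (P : B →ₐ[k] k) (hP : d.s.eval (P (gX k B)) ≠ 0) :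
    gX k B - algebraMap k B (P (gX k B)) ∉ RingHom.ker P ^ 2 := by
  intro h
  have h1 := deriv_mem d.D P h
  rw [map_sub, deriv_const, sub_zero, d.hD, point_algebraMap] at h1
  exact hP h1

/-- An element vanishing at a good point with nonvanishing class has nonzero derivative. -/
theorem deriv_ne_zero (P : B →ₐ[k] k) (hP : d.s.eval (P (gX k B)) ≠ 0) {b : B} (hb : P b = 0)
    (hb2 : b ∉ RingHom.ker P ^ 2) : P (d.D b) ≠ 0 := by
  intro h
  have h1 := d.taylor P hP b
  rw [h, hb, map_zero, sub_zero, zero_mul, sub_zero] at h1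
  apply hb2
  have h2 := Ideal.mul_mem_left (RingHom.ker P ^ 2) (algebraMap k B (d.s.eval (P (gX k B)))⁻¹) h1
  rwa [← mul_assoc, ← map_mul, inv_mul_cancel₀ hP, map_one, one_mul] at h2

end UnrData

end K978.Unr
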